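import Mathlib.Data.Nat.Prime.Basic
import Mathlib.Tactic.Linarith
import Mathlib.Tactic.Ring
import Mathlib.Tactic.IntervalCases
import Mathlib.Tactic.NormNum.Prime
import Mathlib.Data.Real.Basic
import Mathlib.Tactic.FieldSimp
import Mathlib.Tactic.Positivity

/-!
The arithmetic of the case `|W| < |K|`.
-/

set_option autoImplicit false

namespace CfsgLib.Peterfalvi.Pair.TypeV

theorem three_mul_le_pow (m : ℕ) : 3 * m ≤ 3 ^ m := by
  induction m with
  | zero => simp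
  | succ k ih =>
    rcases Nat.eq_zero_or_pos k with rfl | hk
    · norm_num
    · rw [pow_succ]; omega

theorem le_three_of_pow_le {m : ℕ} (h : 3 ^ m ≤ (m + 3) ^ 2 - 1) : m ≤ 3 := by
  by_contra hm
  have : ∀ k, 4 ≤ k → (k + 3) ^ 2 ≤ 3 ^ k := by
    intro k hk
    induction k, hk using Nat.le_induction with
    | base => norm_num
    | succ j hj ih => rw [pow_succ 3 j]; nlinarith
  have := this m (by omega)
  have : 1 ≤ (m + 3) ^ 2 := Nat.one_le_pow _ _ (by omega)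
  omega

/-- Only `|W| = 3`, `|K| = 5` survives. -/
theorem small_arith {p q m M : ℕ} (hp3 : 3 ≤ p) (hpo : Odd p) (hq : q.Prime) (hlt : p < q)
    (hpM : p ∣ M) (hqM : q ^ 2 ∣ M + 1) (hMo : Odd (M + 1)) (hm : 3 ^ m ≤ p)
    (h : ((p : ℤ) - 1) * (2 * q - 1) * M ≤ (p : ℤ) ^ 2 * q * (2 * q - 1) + (m : ℤ) * p * M) :
    p = 3 ∧ q = 5 ∧ M = 24 := by
  obtain ⟨a, ha⟩ := hpo
  obtain ⟨b, hb⟩ := hq.odd_of_ne_two (by omega)
  have hp2 : p + 2 ≤ q := by omega
  have h3m : 3 * m ≤ p := (three_mul_le_pow m).trans hm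
  have hp3' : (3 : ℤ) ≤ p := by exact_mod_cast hp3
  have hp2' : (p : ℤ) + 2 ≤ q := by exact_mod_cast hp2
  have h3m' : 3 * (m : ℤ) ≤ p := by exact_mod_cast h3m
  have hM0 : (0 : ℤ) ≤ M := Int.natCast_nonneg M
  have hA : (p : ℤ) * (2 * q - 1) < 2 * (((p : ℤ) - 1) * (2 * q - 1) - m * p) := by
    nlinarith [mul_le_mul_of_nonneg_left h3m' (show (0 : ℤ) ≤ 2 * p by positivity),
      mul_le_mul_of_nonneg_left hp2' (show (0 : ℤ) ≤ 2 * p - 4 by linarith)]
  have hMlt : (M : ℤ) < 2 * p * q := by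
    by_contra hc
    rw [not_lt] at hc
    have h1 := mul_le_mul_of_nonneg_left hc (show (0 : ℤ) ≤ p * (2 * q - 1) by nlinarith)
    have h2 : (p : ℤ) * (2 * q - 1) * M < 2 * (((p : ℤ) - 1) * (2 * q - 1) - m * p) * M :=
      mul_lt_mul_of_pos_right hA (by nlinarith)
    nlinarith
  obtain ⟨k, hk⟩ := hqM
  have hk1 : k = 1 := by
    have hk0 : Odd k := by rw [hk] at hMo; exact (Nat.odd_mul.mp hMo).2
    obtain ⟨c, hc⟩ := hk0
    by_contra hne
    have h3k : 3 ≤ k := by omega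
    have h4 : (q : ℤ) ^ 2 * k = M + 1 := by exact_mod_cast hk.symm
    have h5 : (3 : ℤ) ≤ k := by exact_mod_cast h3k
    nlinarith [mul_le_mul_of_nonneg_left h5 (sq_nonneg (q : ℤ))]
  rw [hk1, mul_one] at hk
  have hkM : (M : ℤ) = (q : ℤ) ^ 2 - 1 := by
    have : ((M : ℤ) + 1) = (q : ℤ) ^ 2 := by exact_mod_cast hk
    linarith
  rw [hkM] at h
  by_cases hc : 2 * p ≤ q + 1
  · have hc' : 2 * (p : ℤ) ≤ q + 1 := by exact_mod_cast hc
    by_cases hp5 : 5 ≤ p
    · exfalso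
      have hp5' : (5 : ℤ) ≤ p := by exact_mod_cast hp5
      have hmp : 3 * ((m : ℤ) * p) ≤ (2 * q - 1) * (p + 1) / 1 := by
        rw [Int.ediv_one]
        nlinarith [mul_le_mul_of_nonneg_right h3m' (show (0 : ℤ) ≤ p by positivity),
          mul_le_mul_of_nonneg_right hc' (show (0 : ℤ) ≤ p by positivity)]
      rw [Int.ediv_one] at hmp
      have hq1 : (0 : ℤ) < 2 * q - 1 := by linarith
      have hq2 : (0 : ℤ) ≤ (q : ℤ) ^ 2 - 1 := by nlinarith
      have h6 : (2 * (q : ℤ) - 1) * ((3 * ((p : ℤ) - 1)) * ((q : ℤ) ^ 2 - 1)) ≤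
          (2 * (q : ℤ) - 1) * (3 * (p : ℤ) ^ 2 * q + (p + 1) * ((q : ℤ) ^ 2 - 1)) := by
        nlinarith [mul_le_mul_of_nonneg_right hmp hq2]
      have h7 := le_of_mul_le_mul_left h6 hq1
      have h8 : 2 * ((p : ℤ) ^ 2 * q) ≤ p * q * (q + 1) := by
        nlinarith [mul_le_mul_of_nonneg_left hc' (show (0 : ℤ) ≤ (p : ℤ) * q by positivity)]
      have h9 : ((q : ℤ) + 1) * (2 * (2 * (p : ℤ) - 4) * ((q : ℤ) - 1)) ≤ ((q : ℤ) + 1) * (3 * p * q) := by
        nlinarith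
      have h10 := le_of_mul_le_mul_left h9 (by linarith)
      nlinarith [mul_le_mul_of_nonneg_left hp5' (show (0 : ℤ) ≤ (q : ℤ) by positivity)]
    · have hp : p = 3 := by omega
      subst hp
      have hm1 : m ≤ 1 := by omega
      have hm1' : (m : ℤ) ≤ 1 := by exact_mod_cast hm1
      by_cases hq7 : 7 ≤ q
      · exfalso
        have hq7' : (7 : ℤ) ≤ q := by exact_mod_cast hq7
        push_cast at h
        nlinarith [mul_le_mul_of_nonneg_right hm1' (show (0 : ℤ) ≤ 3 * ((q : ℤ) ^ 2 - 1) by nlinarith),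
          mul_le_mul_of_nonneg_left hq7' (show (0 : ℤ) ≤ (q : ℤ) ^ 2 by positivity)]
      · have : q = 5 := by omega
        subst this
        refine ⟨rfl, rfl, ?_⟩
        norm_num at hk
        omega
  exfalso
  have hc' : (q : ℤ) + 2 ≤ 2 * p := by
    have : q + 2 ≤ 2 * p := by omega
    exact_mod_cast this
  obtain ⟨j, hj⟩ : ∃ j, q = p + j := ⟨q - p, by omega⟩
  have hjm : j ≤ m + 3 := by
    by_contra hj'
    have hj4 : (m : ℤ) + 4 ≤ (j : ℤ) := by exact_mod_cast (show m + 4 ≤ j by omega)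
    have hqj : (q : ℤ) = p + j := by exact_mod_cast hj
    have h1 : (p : ℤ) * q * (m + 1) ≤ p * q * j - q ^ 2 - p + 1 := by
      nlinarith [mul_le_mul_of_nonneg_left hj4 (show (0 : ℤ) ≤ (p : ℤ) * q by positivity),
        mul_le_mul_of_nonneg_left hc' (show (0 : ℤ) ≤ (q : ℤ) by positivity)]
    have h2 : (p : ℤ) * (q * q) * (m + 1) ≤ (2 * q - 1) * (p * q * j - q ^ 2 - p + 1) := by
      refine le_trans ?_ (mul_le_mul_of_nonneg_left h1 (by linarith))
      have : (q : ℤ) ≤ 2 * q - 1 := by linarith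
      nlinarith [mul_le_mul_of_nonneg_right this (show (0 : ℤ) ≤ (p : ℤ) * q * (m + 1) by positivity)]
    have e : ((p : ℤ) - 1) * (2 * q - 1) * ((q : ℤ) ^ 2 - 1) - (p : ℤ) ^ 2 * q * (2 * q - 1) =
        (2 * q - 1) * (p * q * j - q ^ 2 - p + 1) := by rw [hqj]; ring
    nlinarith
  have hdvd : p ∣ j ^ 2 - 1 := by
    have h1 : p ∣ (p + j) ^ 2 - 1 := by
      rw [← hj, show q ^ 2 - 1 = M by omega]; exact hpM
    have h2 : (p + j) ^ 2 - 1 = p * (p + 2 * j) + (j ^ 2 - 1) := by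
      have : 1 ≤ j ^ 2 := Nat.one_le_pow _ _ (by omega)
      have e : (p + j) ^ 2 = p * (p + 2 * j) + j ^ 2 := by ring
      omega
    rw [h2] at h1
    exact (Nat.dvd_add_right (dvd_mul_right p _)).mp h1
  have hj2 : 2 ≤ j := by omega
  have hjsq : 4 ≤ j ^ 2 := Nat.pow_le_pow_left hj2 2
  have hpj := Nat.le_of_dvd (by omega) hdvd
  have hm3 : m ≤ 3 := le_three_of_pow_le (by
    have := Nat.pow_le_pow_left hjm 2
    omega)
  have hj6 : j ≤ 6 := by omega
  have hjev : j % 2 = 0 := by omega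
  subst hj
  push_cast at h
  interval_cases j <;> interval_cases p <;> first | omega | (norm_num at hdvd) | skip
  all_goals first
    | (norm_num at hq; done)
    | (interval_cases m <;> norm_num at h hm <;> omega)

end CfsgLib.Peterfalvi.Pair.TypeV
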