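import Cfsg.Agent.Lib.Peterfalvi.Pair.TypeV.Psi
import Cfsg.Agent.Lib.Peterfalvi.Pair.GridCoeff
import Mathlib.Data.ZMod.Units

/-!
The coefficients of the base virtual character at the family of the cyclic TI set.
-/

set_option autoImplicit false
set_option linter.style.haveILetI false
set_option linter.unusedSectionVars false

namespace CfsgLib.Peterfalvi.Pair.TypeV

open Cfsg CfsgLib.Char
open CfsgLib.BG.FixedLine (conj_mem_of_le_normalizer)
open CfsgLib.Peterfalvi.Pair (tilde dade_conjFun Lin IsGrid pow_injective)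
open scoped ComplexConjugate CfsgLib.Char Pointwise

universe u

variable {G : Type u} [Group G] [Fintype G] {S T U K W : Subgroup G} [Fintype T] [Fintype (QT T)]
  {η : Lin W → Lin K → G → ℂ} {ϑ₀ : QT T →* ℂˣ} {ψ : G → ℂ}

theorem pow_fun_classInner {k : ℕ} (hk : k.Coprime (Nat.card G)) (f g : G → ℂ) :
    classInner (fun x => f (x ^ k)) (fun x => g (x ^ k)) = classInner f g := by
  simp only [classInner]
  rw [show (∑ x : G, f (x ^ k) * conj (g (x ^ k))) = ∑ x : G, f x * conj (g x) from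
    Equiv.sum_comp (powCoprime (G := G) hk.symm) fun x => f x * conj (g x)]

theorem exists_coprime_exponent {q n j : ℕ} [NeZero n] (hq : q ∣ n) (hj : j.Coprime q) :
    ∃ k : ℕ, k.Coprime n ∧ k ≡ j [MOD q] := by
  obtain ⟨v, hv⟩ := ZMod.unitsMap_surjective hq (ZMod.unitOfCoprime j hj)
  refine ⟨(v : ZMod n).val, ZMod.val_coe_unit_coprime v, ?_⟩
  rw [← ZMod.natCast_eq_natCast_iff]
  have h1 := congrArg (fun t : (ZMod q)ˣ => (t : ZMod q)) hv
  simp only [ZMod.unitOfCoprime, ZMod.unitsMap_def, Units.coe_map] at h1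
  rw [← h1]
  simp [ZMod.natCast_val]

namespace TV

variable (h : TV S T U K W)
include h

theorem zeta_pow (ϑ : QT T →* ℂˣ) {k : ℕ} (hk : k.Coprime (Nat.card G)) :
    (fun x : T => zeta T ϑ (x ^ k)) = zeta T (ϑ ^ k) := by
  funext x
  have hmem : x ^ k ∈ QT T ↔ x ∈ QT T :=
    (Nat.Coprime.coprime_dvd_right (Subgroup.card_subgroup_dvd_card T) hk |> fun hk' =>
      CfsgLib.Peterfalvi.Pair.PowClosed.mem_iff (G := T) (S := (QT T : Set T))
        (fun a ha j _ => (QT T).pow_mem ha j) hk' (g := x))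
  by_cases hx : x ∈ QT T
  · show indFun (QT T) (lf ϑ) ((⟨x, hx⟩ ^ k : QT T) : T) = indFun (QT T) (lf (ϑ ^ k)) ((⟨x, hx⟩ : QT T) : T)
    rw [indFun_apply_of_normal, indFun_apply_of_normal]
    congr 1
    refine Finset.sum_congr rfl fun t _ => ?_
    simp only [lf, MonoidHom.pow_apply, ← map_pow]
    refine congrArg (fun a => ((ϑ a : ℂˣ) : ℂ)) (Subtype.ext ?_)
    simp only [SubmonoidClass.coe_pow]
    rw [conj_pow]
  · show zeta T ϑ (x ^ k) = _
    rw [h.zeta_off ϑ fun hc => hx (hmem.mp hc), h.zeta_off _ hx]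

omit h in
theorem lin_inv_ne {ϑ : QT T →* ℂˣ} (hϑ : ϑ ≠ 1) : ϑ⁻¹ ≠ 1 := fun e => hϑ (MonoidHom.ext fun n => by
  have := DFunLike.congr_fun e n
  rwa [MonoidHom.inv_apply, MonoidHom.one_apply, inv_eq_one] at this)

variable (hη : IsGrid K W η) (h₀ : ϑ₀ ≠ 1) (hψ : IsPsi T ϑ₀ ψ)

include hη in
theorem diff_orth {ϑ ϑ' : QT T →* ℂˣ} (hϑ : ϑ ≠ 1) (hϑ' : ϑ' ≠ 1) (a : Lin W) (b : Lin K) :
    classInner (dmap T (zeta T ϑ - zeta T ϑ')) (η a b) = 0 := by
  have hg := isGeneralized_sub (h.zeta_gen ϑ) (h.zeta_gen ϑ')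
  by_cases e : zeta T ϑ = zeta T ϑ'
  · have : dmap T (zeta T ϑ - zeta T ϑ') = 0 := by rw [dmap_sub, e, sub_self]
    rw [this]; simp [classInner]
  refine hη.orth_of_norm_two (h.dmap_gen hg (h.sub_vanish _ _)) (n := 2) ?_ le_rfl
    (h.three_le h.W_ne) (h.three_le h.K_ne) (fun x y hx hy => h.dmap_zero_KW _ hx hy) a b
  rw [show dmap T (zeta T ϑ - zeta T ϑ') = dadeIsometry _ _ _ _ from rfl,
    dade_isometry h.dade (isClassFunction_of_isGeneralized hg) (h.sub_vanish _ _)
      (isClassFunction_of_isGeneralized hg), classInner_sub_left, classInner_sub_right,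
    classInner_sub_right, classInner_irr_self (h.isIrr_zeta hϑ), classInner_irr_self (h.isIrr_zeta hϑ'),
    classInner_irr_ne (h.isIrr_zeta hϑ) (h.isIrr_zeta hϑ') e,
    classInner_irr_ne (h.isIrr_zeta hϑ') (h.isIrr_zeta hϑ) (Ne.symm e)]
  norm_num

include hη h₀ hψ

theorem psi_eta (a : Lin W) (b : Lin K) : classInner ψ (η a b) = 0 := by
  have h0 : classInner (ψ - conjFun ψ) (η a b) = 0 := by
    rw [← hψ.eq, h.zeta_conj]; exact h.diff_orth hη h₀ (lin_inv_ne h₀) a b
  rw [classInner_sub_left, sub_eq_zero] at h0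
  by_contra hne
  obtain ⟨χ, hχ, ε, hε, hψe⟩ : ∃ χ, IsIrrCharacter G χ ∧ ∃ ε : ℂ, (ε = 1 ∨ ε = -1) ∧ ψ = ε • χ := by
    rcases hψ.signed with h' | h'
    · exact ⟨ψ, h', 1, Or.inl rfl, (one_smul _ _).symm⟩
    · exact ⟨-ψ, h', -1, Or.inr rfl, by simp⟩
  obtain ⟨χ', hχ', ε', hε', he⟩ : ∃ χ', IsIrrCharacter G χ' ∧ ∃ ε : ℂ, (ε = 1 ∨ ε = -1) ∧
      η a b = ε • χ' := by
    rcases hη.signed a b with h' | h'
    · exact ⟨η a b, h', 1, Or.inl rfl, (one_smul _ _).symm⟩
    · exact ⟨-η a b, h', -1, Or.inr rfl, by simp⟩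
  have e : χ = χ' := by
    by_contra hc
    refine hne ?_
    rw [hψe, he, classInner_smul_left, classInner_smul_right, classInner_irr_ne hχ hχ' hc,
      mul_zero, mul_zero]
  have hc0 : classInner (conjFun ψ) (η a b) = 0 := by
    have h1 := hψ.orth'
    rw [he, classInner_smul_right, ← e]
    rw [hψe, classInner_smul_right] at h1
    rcases hε with rfl | rfl <;> simp only [map_one, map_neg, one_mul, neg_mul, neg_eq_zero] at h1 <;>
      simp only [hψe, h1, mul_zero]
  exact hne (h0.trans hc0)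

theorem psi_KW {x : K} {y : W} (hx : x ≠ 1) (hy : y ≠ 1) : ψ ((x : G) * y) = 0 :=
  hη.vanish ψ (isClassFunction_of_isGeneralized hψ.gen) (h.psi_eta hη h₀ hψ) x y hx hy

theorem conj_psi_eta (a : Lin W) (b : Lin K) : classInner (conjFun ψ) (η a b) = 0 := by
  have h1 : classInner (conjFun ψ) (conjFun (η a⁻¹ b⁻¹)) = 0 := by
    rw [CfsgLib.Peterfalvi.Pair.classInner_conjFun, h.psi_eta hη h₀ hψ, map_zero]
  rwa [hη.conjEq, Coherence.conjFun_conjFun] at h1

omit hη in
theorem conj_beta :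
    conjFun (dmap T (h.base ϑ₀)) = dmap T (h.base ϑ₀) + (ψ - conjFun ψ) := by
  rw [← dmap_conj, ← hψ.eq, ← dmap_add]
  congr 1
  funext x
  have hr : conj (rhoT T x) = rhoT T x := by
    by_cases hx : x ∈ QT T
    · rw [h.rho_apply hx, map_natCast]
    · rw [h.rho_off hx, map_zero]
  simp only [base, conjFun, Pi.sub_apply, Pi.add_apply, map_sub, hr]
  ring

omit hη in
theorem beta_psi {a : ℤ} (ha : classInner (dmap T (h.base ϑ₀)) ψ = a) :
    classInner (dmap T (h.base ϑ₀)) (conjFun ψ) = ((a + 1 : ℤ) : ℂ) := by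
  have h1 : classInner (dmap T (h.base ϑ₀)) (ψ - conjFun ψ) = -1 := by
    rw [← hψ.eq, show dmap T (h.base ϑ₀) = dadeIsometry _ _ _ _ from rfl,
      show dmap T (zeta T ϑ₀ - conjFun (zeta T ϑ₀)) = dadeIsometry _ _ _ _ from rfl,
      dade_isometry h.dade (isClassFunction_of_isGeneralized (h.base_gen ϑ₀)) (h.base_vanish ϑ₀)
        (isClassFunction_of_isGeneralized (sub_conj_props (h.achar h₀)).1),
      base, classInner_sub_left, classInner_sub_right, classInner_sub_right, h.rho_zeta h₀,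
      h.zeta_conj, h.rho_zeta (lin_inv_ne h₀), classInner_irr_self (h.isIrr_zeta h₀),
      classInner_irr_ne (h.isIrr_zeta h₀) (h.isIrr_zeta (lin_inv_ne h₀))
        (by rw [← h.zeta_conj]; exact Ne.symm (h.achar h₀).2.1)]
    ring
  rw [classInner_sub_right, ha] at h1
  push_cast
  linear_combination -h1

omit hψ in
theorem coeff_pow {c : Lin W → Lin K → ℤ}
    (hc : ∀ a b, classInner (dmap T (h.base ϑ₀)) (η a b) = c a b) {k : ℕ}
    (hk : k.Coprime (Nat.card G)) (a : Lin W) (b : Lin K) : c (a ^ k) (b ^ k) = c a b := by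
  have hkT : k.Coprime (Nat.card T) := hk.coprime_dvd_right T.card_subgroup_dvd_card
  have hne : ϑ₀ ^ k ≠ 1 := fun e => h₀ (by
    refine MonoidHom.ext fun n => ?_
    obtain ⟨i, hi⟩ := exists_pow_eq_self_of_coprime
      (x := n) (n := k) ((hk.coprime_dvd_right ((Subgroup.orderOf_coe n).symm.dvd.trans
        ((orderOf_dvd_natCard (n : T)).trans T.card_subgroup_dvd_card))))
    have e' := DFunLike.congr_fun e n
    rw [MonoidHom.pow_apply, MonoidHom.one_apply, ← map_pow] at e'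
    rw [MonoidHom.one_apply, ← hi, map_pow, e', one_pow])
  have e1 : (fun g => dmap T (h.base ϑ₀) (g ^ k)) =
      dmap T (h.base ϑ₀) + dmap T (zeta T ϑ₀ - zeta T (ϑ₀ ^ k)) := by
    rw [← h.dmap_pow (isClassFunction_of_isGeneralized (h.base_gen ϑ₀)) hk, ← dmap_add]
    congr 1
    funext x
    have hr : rhoT T (x ^ k) = rhoT T x := by
      by_cases hx : x ∈ QT T
      · rw [h.rho_apply hx, h.rho_apply ((QT T).pow_mem hx k)]
      · rw [h.rho_off hx, h.rho_off fun hc => hx ((CfsgLib.Peterfalvi.Pair.PowClosed.mem_iff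
          (G := T) (S := (QT T : Set T)) (fun a ha j _ => (QT T).pow_mem ha j) hkT).mp hc)]
    simp only [base, Pi.sub_apply, Pi.add_apply, hr]
    rw [show zeta T ϑ₀ (x ^ k) = zeta T (ϑ₀ ^ k) x from congrFun (h.zeta_pow ϑ₀ hk) x]
    ring
  have h2 := pow_fun_classInner hk (dmap T (h.base ϑ₀)) (η a b)
  rw [← hη.pow a b k hk, hc, e1, classInner_add_left, hc,
    h.diff_orth hη h₀ hne, add_zero] at h2
  exact_mod_cast h2

/-- The values at the first row off the corner are equal. -/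
theorem coeff_const {c : Lin W → Lin K → ℤ}
    (hc : ∀ a b, classInner (dmap T (h.base ϑ₀)) (η a b) = c a b) {b b' : Lin K}
    (hb : b ≠ 1) (hb' : b' ≠ 1) : c 1 b' = c 1 b := by
  haveI := Fact.mk h.primeK
  haveI : Finite (Lin K) := CyclicTI.finiteDual K
  obtain ⟨j, hj⟩ := mem_powers_of_prime_card (G := Lin K) hη.cardC hb (g' := b')
  have hjq : j.Coprime (Nat.card K) := by
    rw [Nat.coprime_comm, h.primeK.coprime_iff_not_dvd]
    rintro ⟨i, rfl⟩
    refine hb' ?_
    rw [← hj]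
    refine MonoidHom.ext fun x => ?_
    show (b ^ (Nat.card K * i)) x = 1
    rw [MonoidHom.pow_apply, ← map_pow, pow_mul, pow_card_eq_one', one_pow, map_one]
  haveI : NeZero (Nat.card G) := ⟨Nat.card_pos.ne'⟩
  obtain ⟨k, hk, hkj⟩ := exists_coprime_exponent K.card_subgroup_dvd_card hjq
  have e : b ^ k = b' := by
    rw [← hj]
    refine MonoidHom.ext fun x => ?_
    show (b ^ k) x = (b ^ j) x
    rw [MonoidHom.pow_apply, MonoidHom.pow_apply, ← map_pow, ← map_pow,
      pow_eq_pow_iff_modEq.mpr (hkj.of_dvd (orderOf_dvd_natCard x))]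
  have := h.coeff_pow hη h₀ hc hk 1 b
  rwa [e, show ((1 : Lin W) ^ k) = 1 from MonoidHom.ext fun x => by simp] at this

/-- The rectangle rule. -/
theorem coeff_rect' {c : Lin W → Lin K → ℤ}
    (hc : ∀ a b, classInner (dmap T (h.base ϑ₀)) (η a b) = c a b) (a : Lin W) (b : Lin K) :
    c 1 1 = 1 ∧ c a b = c a 1 + c 1 b - 1 := by
  have h11 : c 1 1 = 1 := by
    have h1 := hc 1 1
    rw [hη.one, h.inner_dmap_one (isClassFunction_of_isGeneralized (h.base_gen ϑ₀)) (h.base_vanish ϑ₀),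
      base, classInner_sub_left, h.rho_inner_one, h.zeta_ne_one h₀, sub_zero] at h1
    exact_mod_cast h1.symm
  refine ⟨h11, ?_⟩
  have h2 := hη.rect _ (isClassFunction_dade h.dade (isClassFunction_of_isGeneralized (h.base_gen ϑ₀)))
    (fun x y hx hy => h.dmap_zero_KW (h.base ϑ₀) hx hy) a b
  simp only [show dadeIsometry (coreSharp T) T (supportR T) (h.base ϑ₀) = dmap T (h.base ϑ₀) from rfl,
    hc, h11] at h2
  exact_mod_cast h2

/-- Either the exceptional column gives odd values off the support, or `|K| ≤ |W|`. -/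
theorem shape {c : Lin W → Lin K → ℤ}
    (hc : ∀ a b, classInner (dmap T (h.base ϑ₀)) (η a b) = c a b) {b₀ : Lin K} (hb₀ : b₀ ≠ 1) :
    (c 1 b₀ = 1 → Nat.card K ≤ Nat.card W) ∧ (c 1 b₀ ≠ 1 → c 1 b₀ = 0 ∧
      ∀ g, g ∉ tilde T → (orderOf g).Coprime (Nat.card W) → 1 ≤ ‖ψ g‖) := by
  classical
  set β := dmap T (h.base ϑ₀) with hβ
  set y := c 1 b₀ with hy
  set x : Lin W → ℤ := fun a => c a 1 with hx
  have hbg : IsGeneralizedCharacter G β := h.dmap_gen (h.base_gen _) (h.base_vanish _)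
  obtain ⟨a₀, ha₀⟩ := exists_int_classInner hbg hψ.gen
  have ha₁ := h.beta_psi h₀ hψ ha₀
  have hrow : ∀ a b, b ≠ 1 → c a b = x a + y - 1 := fun a b hb => by
    rw [(h.coeff_rect' hη h₀ hψ hc a b).2, h.coeff_const hη h₀ hψ hc hb₀ hb]
  have hx1 : x 1 = 1 := (h.coeff_rect' hη h₀ hψ hc 1 1).1
  have hsum : ∑ a, ∑ b, c a b * c a b =
      ∑ a, (x a * x a + ((Nat.card K : ℤ) - 1) * ((x a + y - 1) * (x a + y - 1))) := by
    refine Finset.sum_congr rfl fun a _ => ?_
    rw [← Finset.add_sum_erase _ _ (Finset.mem_univ (1 : Lin K)),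
      Finset.sum_congr rfl fun b hb => by rw [hrow a b (Finset.ne_of_mem_erase hb)],
      Finset.sum_const, Finset.card_erase_of_mem (Finset.mem_univ _), Finset.card_univ, hη.cardJ,
      nsmul_eq_mul, Nat.cast_sub (Nat.one_le_iff_ne_zero.mpr Nat.card_pos.ne')]
    push_cast
    rfl
  set f := β - CfsgLib.Peterfalvi.Pair.proj η c with hf
  have hfψ : classInner f ψ = a₀ ∧ classInner f (conjFun ψ) = ((a₀ + 1 : ℤ) : ℂ) := by
    have hz : ∀ θ : G → ℂ, (∀ a b, classInner θ (η a b) = 0) →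
        classInner (CfsgLib.Peterfalvi.Pair.proj η c) θ = 0 := by
      intro θ hθ
      rw [CfsgLib.Peterfalvi.Pair.proj, classInner_sum_left]
      refine Finset.sum_eq_zero fun p _ => ?_
      rw [classInner_smul_left, ← classInner_conj_symm, hθ, map_zero, mul_zero]
    exact ⟨by rw [hf, classInner_sub_left, ha₀, hz _ (h.psi_eta hη h₀ hψ), sub_zero],
      by rw [hf, classInner_sub_left, ha₁, hz _ (h.conj_psi_eta hη h₀ hψ), sub_zero]⟩
  set r := f - ((a₀ : ℂ) • ψ + ((a₀ + 1 : ℤ) : ℂ) • conjFun ψ) with hr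
  have hrn : classInner r r = (((Nat.card W + 1 : ℕ) : ℤ) - (∑ a, ∑ b, c a b * c a b) -
      a₀ * a₀ - (a₀ + 1) * (a₀ + 1) : ℤ) := by
    have hff := hη.sq_sub_proj hc
    rw [show dmap T (h.base ϑ₀) = dadeIsometry _ _ _ _ from rfl] at *
    rw [hβ, dade_isometry h.dade (isClassFunction_of_isGeneralized (h.base_gen ϑ₀)) (h.base_vanish ϑ₀)
      (isClassFunction_of_isGeneralized (h.base_gen ϑ₀)), h.base_self h₀] at hff
    have e1 : classInner ψ f = a₀ := by rw [← classInner_conj_symm, hfψ.1, map_intCast]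
    have e2 : classInner (conjFun ψ) f = ((a₀ + 1 : ℤ) : ℂ) := by
      rw [← classInner_conj_symm, hfψ.2, map_intCast]
    rw [← hβ, ← hf] at hff
    simp only [hr, classInner_sub_left, classInner_sub_right, classInner_add_left,
      classInner_add_right, classInner_smul_left, classInner_smul_right, map_intCast,
      hψ.self, hψ.conj_self, hψ.orth, hψ.orth', hff, e1, e2, hfψ.1, hfψ.2]
    push_cast
    ring
  have hrpos : 0 ≤ ((Nat.card W + 1 : ℕ) : ℤ) - (∑ a, ∑ b, c a b * c a b) -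
      a₀ * a₀ - (a₀ + 1) * (a₀ + 1) := by
    have h' := classInner_self_re_nonneg r
    rw [hrn] at h'
    rw [Complex.intCast_re] at h'
    exact_mod_cast h'
  have ha1 : 1 ≤ a₀ * a₀ + (a₀ + 1) * (a₀ + 1) := by nlinarith [mul_self_nonneg (2 * a₀ + 1)]
  have hq3 : (3 : ℤ) ≤ Nat.card K := by exact_mod_cast h.three_le h.K_ne
  have hcardW : Fintype.card (Lin W) = Nat.card W := hη.cardI
  push_cast at hrpos
  constructor
  · intro hy1
    have hq : (Nat.card K : ℤ) * 1 ≤ (Nat.card K : ℤ) * ∑ a, x a * x a :=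
      mul_le_mul_of_nonneg_left (le_trans (by rw [hx1]; norm_num)
        (Finset.single_le_sum (fun a _ => mul_self_nonneg (x a)) (Finset.mem_univ 1))) (by positivity)
    rw [Finset.mul_sum] at hq
    have he : ∑ a, ∑ b, c a b * c a b = ∑ a, (Nat.card K : ℤ) * (x a * x a) := by
      rw [hsum]; refine Finset.sum_congr rfl fun a _ => ?_; rw [hy1]; ring
    omega
  intro hy1
  have hterm : ∀ a, 1 ≤ x a * x a + ((Nat.card K : ℤ) - 1) * ((x a + y - 1) * (x a + y - 1)) ∧
      (x a * x a + ((Nat.card K : ℤ) - 1) * ((x a + y - 1) * (x a + y - 1)) = 1 →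
        x a + y - 1 = 0) := by
    intro a
    rcases eq_or_ne (x a + y - 1) 0 with e | e
    · have : x a ≠ 0 := by omega
      exact ⟨by nlinarith [mul_self_pos.mpr this], fun _ => e⟩
    · have h2 : 2 ≤ ((Nat.card K : ℤ) - 1) * ((x a + y - 1) * (x a + y - 1)) := by
        nlinarith [mul_self_pos.mpr e]
      exact ⟨by nlinarith [mul_self_nonneg (x a)], fun e' => by nlinarith [mul_self_nonneg (x a)]⟩
  have hge : (Nat.card W : ℤ) ≤
      ∑ a, (x a * x a + ((Nat.card K : ℤ) - 1) * ((x a + y - 1) * (x a + y - 1))) := by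
    refine le_trans (le_of_eq ?_) (Finset.sum_le_sum fun a (_ : a ∈ Finset.univ) => (hterm a).1)
    simp [hcardW]
  have heq : ∑ a, (x a * x a + ((Nat.card K : ℤ) - 1) * ((x a + y - 1) * (x a + y - 1))) =
      (Nat.card W : ℤ) ∧ a₀ * a₀ + (a₀ + 1) * (a₀ + 1) = 1 := by rw [hsum] at hrpos; omega
  have hall : ∀ a, x a + y - 1 = 0 := fun a => (hterm a).2 (by
    refine ((Finset.sum_eq_sum_iff_of_le (fun a _ => (hterm a).1)).mp ?_ a (Finset.mem_univ a)).symm
    rw [heq.1, Finset.sum_const, Finset.card_univ, hcardW, nsmul_one])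
  have hy0 : y = 0 := by have := hall 1; omega
  refine ⟨hy0, fun g hg hco => ?_⟩
  have hr0 : r = 0 := eq_zero_of_classInner_self (by rw [hrn, hsum, heq.1]; push_cast; linear_combination -(by exact_mod_cast heq.2 : ((a₀ : ℂ) * a₀ + (a₀ + 1) * (a₀ + 1)) = 1))
  have hproj : CfsgLib.Peterfalvi.Pair.proj η c g = ∑ a, η a 1 g := by
    rw [CfsgLib.Peterfalvi.Pair.proj, Finset.sum_apply, Fintype.sum_prod_type]
    refine Finset.sum_congr rfl fun a _ => ?_
    rw [Fintype.sum_eq_single (1 : Lin K) fun b hb => by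
      simp [hrow a b hb, hall a]]
    have : x a = 1 := by have := hall a; omega
    simp [show c a 1 = 1 from this]
  choose n hn using fun a => hη.intValK a g hco
  set N := ∑ a, n a with hN
  have hval := congrFun hr0 g
  simp only [hr, hf, Pi.sub_apply, Pi.add_apply, Pi.smul_apply, smul_eq_mul, Pi.zero_apply, hproj,
    show β g = 0 from h.dmap_off hg _, hn, ← Int.cast_sum, ← hN, conjFun] at hval
  have hodd : ¬ (2 : ℤ) ∣ N := by
    rw [show (2 : ℤ) = ((2 : ℕ) : ℤ) from rfl, ← ZMod.intCast_zmod_eq_zero_iff_dvd, hN, Int.cast_sum,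
      ← Finset.add_sum_erase _ _ (Finset.mem_univ (1 : Lin W))]
    have hn1 : n 1 = 1 := by
      have := (hn 1).symm
      rw [hη.one] at this
      have h1 : (1 : ℂ) = (n 1 : ℂ) := by simpa using this.symm
      exact_mod_cast h1.symm
    have hz : ∑ a ∈ Finset.univ.erase (1 : Lin W), ((n a : ℤ) : ZMod 2) = 0 := by
      refine Finset.sum_involution (fun a _ => a⁻¹) (fun a _ => ?_) (fun a ha _ e => ?_)
        (fun a ha => Finset.mem_erase.mpr ⟨fun e => Finset.ne_of_mem_erase ha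
          (MonoidHom.ext fun w => inv_eq_one.mp (DFunLike.congr_fun e w)),
          Finset.mem_univ _⟩) fun a _ => MonoidHom.ext fun w => inv_inv _
      · have : n a⁻¹ = n a := by
          have h1 := congrFun (hη.conjEq a 1) g
          rw [show ((1 : Lin K)⁻¹) = 1 from MonoidHom.ext fun _ => inv_one, hn, conjFun, hn, map_intCast] at h1
          exact_mod_cast h1
        rw [this]; exact CharTwo.add_self_eq_zero _
      · refine Finset.ne_of_mem_erase ha (MonoidHom.ext fun w => orderOf_eq_one_iff.mp ?_)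
        have h2 : orderOf (a w) ∣ 2 := orderOf_dvd_of_pow_eq_one (by
          rw [pow_two]; nth_rw 2 [← e]; exact mul_inv_cancel (a w))
        have h3 : orderOf (a w) ∣ Nat.card W := (orderOf_map_dvd a w).trans (orderOf_dvd_natCard w)
        exact Nat.eq_one_of_dvd_coprimes (Nat.coprime_two_left.mpr (h.odd_card W)) h2 h3
    rw [hz, hn1, Int.cast_one, add_zero]; exact one_ne_zero
  have hN1 : (1 : ℝ) ≤ |(N : ℝ)| := by
    have : (1 : ℤ) ≤ |N| := Int.one_le_abs fun e => hodd (e ▸ dvd_zero _)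
    exact_mod_cast this
  rcases (show a₀ = 0 ∨ a₀ = -1 by
    have h2 := heq.2
    have h3 : a₀ * (a₀ + 1) = 0 := by nlinarith
    rcases mul_eq_zero.mp h3 with e | e
    · exact Or.inl e
    · exact Or.inr (by omega)) with e | e <;> rw [e] at hval
  · push_cast at hval
    have he : conj (ψ g) = -(N : ℂ) := by linear_combination -hval
    rw [← RCLike.norm_conj (ψ g), he, norm_neg, Complex.norm_intCast]; exact hN1
  · push_cast at hval
    have he : ψ g = (N : ℂ) := by linear_combination hval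
    rw [he, Complex.norm_intCast]; exact hN1

end TV

end CfsgLib.Peterfalvi.Pair.TypeV
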