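import Cfsg.Agent.Lib.Peterfalvi.Pair.TypeV.GoodSet
import Cfsg.Agent.Lib.Peterfalvi.Pair.LinConj

/-!
The number of elements of order not prime to `|W|`.
-/

set_option autoImplicit false
set_option linter.style.haveILetI false
set_option linter.unusedSectionVars false

namespace CfsgLib.Peterfalvi.Pair.TypeV

open Cfsg
open CfsgLib.BG.FixedLine (conj_mem_of_le_normalizer)
open CfsgLib.Peterfalvi.Pair (exists_conj_coset)
open scoped Pointwise

universe u

variable {G : Type u} [Group G] [Finite G] {S T U K W : Subgroup G}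

theorem not_coprime_orderOf_conj (g y : G) {n : ℕ} :
    ¬ (orderOf (y * g * y⁻¹)).Coprime n ↔ ¬ (orderOf g).Coprime n := by
  rw [orderOf_injective (MulAut.conj y).toMonoidHom (MulAut.conj y).injective g |>.symm]
  rfl

namespace TV

variable (h : TV S T U K W)
include h

theorem derived_mem {d : G} (hd : d ∈ ⁅S, S⁆) :
    ∃ z ∈ sigmaCore S, ∃ v ∈ U, d = z * v := by
  rw [OddLocal.derived_eq h.hG h.hS h.dS h.K_ne] at hd
  have hd' : d ∈ ((U ⊔ sigmaCore S : Subgroup G) : Set G) := hd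
  rw [Subgroup.coe_mul_of_left_le_normalizer_right U (sigmaCore S)
      (h.kdS.hallU.1.trans (OddLocal.le_normalizer_piCoreOf _ S)), Set.mem_mul] at hd'
  obtain ⟨v, hv, z, hz, rfl⟩ := hd'
  exact ⟨v * z * v⁻¹, conj_mem_of_le_normalizer
    ((h.kdS.hallU.1.trans (OddLocal.le_normalizer_piCoreOf _ S)) hv) z hz, v, hv, by group⟩

/-- A singular element of the derived subgroup of `S` lies in the coset of a bad element. -/
theorem bad_of_singular {d : G} (hd : d ∈ ⁅S, S⁆) (hs : d ∈ singular W) :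
    ∃ z ∈ sigmaCore S, ∃ v ∈ bad S U, d = z * v := by
  obtain ⟨z, hz, v, hv, rfl⟩ := h.derived_mem hd
  refine ⟨z, hz, v, ⟨hv, fun e => hs ?_⟩, rfl⟩
  have hvN : v ∈ Subgroup.normalizer (sigmaCore S : Set G) :=
    (h.kdS.hallU.1.trans (OddLocal.le_normalizer_piCoreOf _ S)) hv
  have hco : (Nat.card (sigmaCore S)).Coprime (orderOf v) :=
    h.P_coprime_U.coprime_dvd_right (Subgroup.orderOf_dvd_natCard U hv)
  obtain ⟨x, -, y, hy, hyv, hx⟩ := exists_conj_coset hvN hco hz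
  obtain rfl : y = 1 := Subgroup.mem_bot.mp
    (e ▸ ⟨hy, Subgroup.mem_centralizer_singleton_iff.mpr hyv⟩)
  rw [one_mul] at hx
  by_contra hne
  refine (not_coprime_orderOf_conj (z * v) x).mpr hne ?_
  rw [hx]
  exact (h.P_coprime_U.coprime_dvd_left (Subgroup.card_dvd_of_le h.W_le_P)).symm.coprime_dvd_left
    (Subgroup.orderOf_dvd_natCard U hv)

/-- Every singular element is conjugate into `S`. -/
theorem exists_conj_mem_S {g : G} (hg : g ∈ singular W) : ∃ y : G, y * g * y⁻¹ ∈ S := by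
  obtain ⟨r, hr, hrg, hrW⟩ := Nat.Prime.not_coprime_iff_dvd.mp hg
  haveI := Fact.mk hr
  have hσ : r ∈ sigma S :=
    OddLocal.isPi_piCoreOf _ S r hr (hrW.trans (Subgroup.card_dvd_of_le h.W_le_P))
  set x := g ^ (orderOf g / r) with hx
  have hxo : orderOf x = r := orderOf_pow_orderOf_div (orderOf_pos g).ne' hrg
  have hxr : x ^ r ^ 1 = 1 := by rw [pow_one, ← hxo, pow_orderOf_eq_one]
  obtain ⟨y, hy⟩ := OddLocal.exists_conj_le hσ (OddLocal.isPGroup_zpowers hxr)
  have hmem : y * x * y⁻¹ ∈ S := hy ⟨x, Subgroup.mem_zpowers x, rfl⟩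
  have hyr : (y * x * y⁻¹) ^ r ^ 1 = 1 := by rw [conj_pow, hxr, mul_one, mul_inv_cancel]
  refine ⟨y, h.P_TI (OddLocal.sigma_mem_of_elem h.hG h.hS hr hσ hmem hyr)
    (fun e => hr.ne_one (by rw [← hxo, conj_eq_one_iff.mp e, orderOf_one])) ?_⟩
  rw [Subgroup.mem_centralizer_singleton_iff]
  have hc : Commute (y * g * y⁻¹) (y * x * y⁻¹) :=
    (Commute.self_pow g _).map (MulAut.conj y).toMonoidHom
  exact hc.eq

/-- A singular element is conjugate into `⁅S, S⁆` or into the cyclic TI set. -/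
theorem singular_cases {g : G} (hg : g ∈ singular W) :
    (∃ y : G, y * g * y⁻¹ ∈ ⁅S, S⁆) ∨
      ∃ y : G, ∃ a ∈ K, ∃ w ∈ W, a ≠ 1 ∧ w ≠ 1 ∧ y * g * y⁻¹ = a * w := by
  obtain ⟨y, hy⟩ := h.exists_conj_mem_S hg
  obtain ⟨hc, hcop⟩ := OddLocal.derived_compl h.hG h.hS h.dS h.K_ne
  obtain ⟨d, hd, k, hk, e⟩ := hc.2.2.2 _ hy
  by_cases hk1 : k = 1
  · exact Or.inl ⟨y, by rw [e, hk1, mul_one]; exact hd⟩
  refine Or.inr ?_
  have hkN : k ∈ Subgroup.normalizer ((⁅S, S⁆ : Subgroup G) : Set G) :=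
    le_normalizer_derived S (hc.2.1 hk)
  have hco : (Nat.card ↥⁅S, S⁆).Coprime (orderOf k) := by
    refine Nat.Coprime.coprime_dvd_right (Subgroup.orderOf_dvd_natCard K hk) ?_
    rw [← OddLocal.relIndex_right_of_isComplIn hc]
    exact hcop.symm
  obtain ⟨x, -, c, hc', hck, hx⟩ := exists_conj_coset hkN hco hd
  have hcW : c ∈ W := (h.derived_fix hk hk1).le
    ⟨hc', Subgroup.mem_centralizer_singleton_iff.mpr hck⟩
  refine ⟨x * y, k, hk, c, hcW, hk1, ?_, ?_⟩
  · rintro rfl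
    rw [one_mul] at hx
    refine (not_coprime_orderOf_conj g (x * y)).mpr hg ?_
    rw [show x * y * g * (x * y)⁻¹ = k by rw [← hx, ← e]; group]
    exact h.K_coprime_W.coprime_dvd_left (Subgroup.orderOf_dvd_natCard K hk)
  · rw [← hck, ← hx, ← e]; group

/-- The count of the singular elements. -/
theorem singular_mul_le :
    (singular W : Set G).ncard * (Nat.card W * Nat.card K * Nat.card U) ≤ Nat.card G *
      ((Nat.card W - 1) * (Nat.card K - 1) * Nat.card U + Nat.card W * (bad S U).ncard) := by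
  classical
  haveI : Fintype G := Fintype.ofFinite G
  set P := sigmaCore S with hP
  set X₁ : Set G := {d | d ∈ ⁅S, S⁆ ∧ d ∈ singular W} with hX₁
  set X₂ : Set G := {x | ∃ a ∈ K, ∃ w ∈ W, a ≠ 1 ∧ w ≠ 1 ∧ x = a * w} with hX₂
  set C₁ : Set G := {g | ∃ y ∈ (⊤ : Subgroup G), y * g * y⁻¹ ∈ X₁}
  set C₂ : Set G := {g | ∃ y ∈ (⊤ : Subgroup G), y * g * y⁻¹ ∈ X₂}
  have hsub : singular W ⊆ C₁ ∪ C₂ := by
    intro g hg
    rcases h.singular_cases hg with ⟨y, hy⟩ | ⟨y, a, ha, w, hw, ha1, hw1, e⟩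
    · exact Or.inl ⟨y, trivial, hy, (not_coprime_orderOf_conj g y).mpr hg⟩
    · exact Or.inr ⟨y, trivial, a, ha, w, hw, ha1, hw1, e⟩
  have hle : (singular W : Set G).ncard ≤ C₁.ncard + C₂.ncard :=
    (Set.ncard_le_ncard hsub (Set.toFinite _)).trans (Set.ncard_union_le _ _)
  have h₁ : C₁.ncard * Nat.card S ≤ X₁.ncard * Nat.card G := by
    have := card_conj_mul_le ⊤ S le_top X₁ fun n hn x hx =>
      ⟨conj_mem_of_le_normalizer (le_normalizer_derived S hn) x hx.1,
        (not_coprime_orderOf_conj x n).mpr hx.2⟩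
    rwa [Subgroup.card_top] at this
  have hX₁le : X₁.ncard ≤ Nat.card P * (bad S U).ncard := by
    have hsub' : X₁ ⊆ (fun t : G × G => t.1 * t.2) '' ((P : Set G) ×ˢ bad S U) := fun d hd => by
      obtain ⟨z, hz, v, hv, e⟩ := h.bad_of_singular hd.1 hd.2
      exact ⟨(z, v), ⟨hz, hv⟩, e.symm⟩
    refine (Set.ncard_le_ncard hsub' (Set.toFinite _)).trans ((Set.ncard_image_le
      (Set.toFinite _)).trans (le_of_eq ?_))
    rw [Set.ncard_prod, ← Nat.card_coe_set_eq (P : Set G)]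
    rfl
  have h₂ : C₂.ncard * Nat.card ↥(K ⊔ W) ≤ X₂.ncard * Nat.card G := by
    haveI := CfsgLib.Char.CyclicTI.commutative_of h.wsn
    have := card_conj_mul_le ⊤ (K ⊔ W) le_top X₂ fun n hn x hx => by
      obtain ⟨a, ha, w, hw, ha1, hw1, rfl⟩ := hx
      refine ⟨a, ha, w, hw, ha1, hw1, ?_⟩
      have hm : a * w ∈ K ⊔ W := Subgroup.mul_mem_sup ha hw
      have hcm := congrArg Subtype.val (mul_comm' (⟨n, hn⟩ : ↥(K ⊔ W)) ⟨a * w, hm⟩)
      rw [show n * (a * w) = a * w * n from hcm, mul_inv_cancel_right]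
    rwa [Subgroup.card_top] at this
  have hX₂le : X₂.ncard ≤ (Nat.card K - 1) * (Nat.card W - 1) := by
    have hsub' : X₂ ⊆ (fun t : G × G => t.1 * t.2) ''
        (((K : Set G) \ {1}) ×ˢ ((W : Set G) \ {1})) := by
      rintro _ ⟨a, ha, w, hw, ha1, hw1, rfl⟩
      exact ⟨(a, w), ⟨⟨ha, ha1⟩, ⟨hw, hw1⟩⟩, rfl⟩
    refine (Set.ncard_le_ncard hsub' (Set.toFinite _)).trans ((Set.ncard_image_le
      (Set.toFinite _)).trans (le_of_eq ?_))
    rw [Set.ncard_prod, Set.ncard_sdiff_singleton_of_mem K.one_mem,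
      Set.ncard_sdiff_singleton_of_mem W.one_mem, ← Nat.card_coe_set_eq, ← Nat.card_coe_set_eq]
    rfl
  have hcS : Nat.card S = Nat.card U * Nat.card K * Nat.card P := by
    obtain ⟨hc, hUK⟩ := OddLocal.isCompl_UK h.hG h.hS h.dS
    rw [OddLocal.card_eq_of_isComplIn hc, hUK]
  have hcKW : Nat.card ↥(K ⊔ W) = Nat.card K * Nat.card W :=
    Coprime.card_sup_of_normalizer
      (fun x hx => CfsgLib.BG.FixedLine.mem_normalizer_of_conj fun a ha => by
        rw [← h.commute ha hx, mul_inv_cancel_right]; exact ha) h.wsn.2.2.1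
  rw [hcS] at h₁
  rw [hcKW] at h₂
  have e₁ : C₁.ncard * (Nat.card W * Nat.card K * Nat.card U) ≤
      Nat.card G * (Nat.card W * (bad S U).ncard) := by
    refine Nat.le_of_mul_le_mul_left ?_ (Nat.card_pos (α := P))
    calc Nat.card P * (C₁.ncard * (Nat.card W * Nat.card K * Nat.card U))
        = Nat.card W * (C₁.ncard * (Nat.card U * Nat.card K * Nat.card P)) := by ring
      _ ≤ Nat.card W * (Nat.card P * (bad S U).ncard * Nat.card G) :=
          Nat.mul_le_mul_left _ (h₁.trans (Nat.mul_le_mul_right _ hX₁le))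
      _ = _ := by ring
  have e₂ : C₂.ncard * (Nat.card W * Nat.card K * Nat.card U) ≤
      Nat.card G * ((Nat.card W - 1) * (Nat.card K - 1) * Nat.card U) := by
    calc C₂.ncard * (Nat.card W * Nat.card K * Nat.card U)
        = C₂.ncard * (Nat.card K * Nat.card W) * Nat.card U := by ring
      _ ≤ (Nat.card K - 1) * (Nat.card W - 1) * Nat.card G * Nat.card U :=
          Nat.mul_le_mul_right _ (h₂.trans (Nat.mul_le_mul_right _ hX₂le))
      _ = _ := by ring
  calc _ ≤ (C₁.ncard + C₂.ncard) * (Nat.card W * Nat.card K * Nat.card U) :=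
        Nat.mul_le_mul_right _ hle
    _ ≤ _ := by rw [add_mul, mul_add, add_comm]; exact Nat.add_le_add e₂ e₁

end TV

end CfsgLib.Peterfalvi.Pair.TypeV
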