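import Cfsg.Agent.Lib.Peterfalvi.Pair.TypeV.Chars
import Cfsg.Agent.Lib.Peterfalvi.Pair.TypeV.SingularCount

/-!
The norm inequality.
-/

set_option autoImplicit false
set_option linter.style.haveILetI false
set_option linter.unusedSectionVars false

namespace CfsgLib.Peterfalvi.Pair.TypeV

open Cfsg CfsgLib.Char
open CfsgLib.BG.FixedLine (conj_mem_of_le_normalizer)
open CfsgLib.Peterfalvi.Pair (tilde)
open scoped ComplexConjugate CfsgLib.Char Pointwise

universe u

variable {G : Type u} [Group G] [Fintype G] {S T U K W : Subgroup G}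

theorem two_re_le (a b : ℂ) : 2 * (a * conj b).re - ‖b‖ ^ 2 ≤ ‖a‖ ^ 2 := by
  have h := Complex.normSq_nonneg (a - b)
  rw [Complex.normSq_sub] at h
  rw [← Complex.normSq_eq_norm_sq, ← Complex.normSq_eq_norm_sq]
  linarith

theorem classInner_re_eq (φ χ : G → ℂ) :
    (classInner φ χ).re = (Nat.card G : ℝ)⁻¹ * ∑ g, (φ g * conj (χ g)).re := by
  rw [classInner, ← Complex.ofReal_natCast, ← Complex.ofReal_inv, Complex.re_ofReal_mul, Complex.re_sum]

theorem classInner_self_re_eq (φ : G → ℂ) :
    (classInner φ φ).re = (Nat.card G : ℝ)⁻¹ * ∑ g, ‖φ g‖ ^ 2 := by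
  rw [classInner_re_eq]
  congr 1
  refine Finset.sum_congr rfl fun g _ => ?_
  rw [Complex.mul_conj', ← Complex.ofReal_pow, Complex.ofReal_re]

namespace TV

variable (h : TV S T U K W)
include h

theorem card_tilde_mul :
    (tilde T : Set G).ncard * Nat.card T + Nat.card G =
      Nat.card G * Nat.card (sigmaCore T) := by
  classical
  haveI : Fintype T := Fintype.ofFinite _
  set f : T → ℂ := fun x => if (x : G) ∈ coreSharp T then 1 else 0 with hf
  have hfc : IsClassFunction T f := by
    intro x y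
    have hiff : ((y * x * y⁻¹ : T) : G) ∈ coreSharp T ↔ (x : G) ∈ coreSharp T := by
      rw [h.mem_coreSharp, h.mem_coreSharp]
      refine and_congr ⟨fun e => ?_, fun e => (normal_QT T).conj_mem x e y⟩ (not_congr conj_eq_one_iff)
      simpa [mul_assoc] using (normal_QT T).conj_mem _ e y⁻¹
    simp only [hf]
    exact if_congr hiff rfl rfl
  have hfA : ∀ x : T, (x : G) ∉ coreSharp T → f x = 0 := fun x hx => if_neg hx
  have hiso := congrArg Complex.re (dade_isometry h.dade hfc hfA hfc)
  have hval : ∀ g, ‖dadeIsometry (coreSharp T) T (supportR T) f g‖ ^ 2 =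
      if g ∈ tilde T then (1 : ℝ) else 0 := by
    intro g
    split_ifs with hg
    · obtain ⟨a, ha, e, -⟩ := h.dmap_value hfc hg
      rw [show dadeIsometry (coreSharp T) T (supportR T) f g = f a from e]
      simp only [hf, if_pos ha, norm_one, one_pow]
    · rw [show dadeIsometry (coreSharp T) T (supportR T) f g = 0 from h.dmap_off hg f]; simp
  have hval' : ∀ x : T, ‖f x‖ ^ 2 = if (x : G) ∈ coreSharp T then (1 : ℝ) else 0 := by
    intro x; simp only [hf]; split_ifs <;> simp
  rw [classInner_self_re_eq, classInner_self_re_eq, Finset.sum_congr rfl fun g _ => hval g,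
    Finset.sum_congr rfl fun x _ => hval' x, Finset.sum_boole, Finset.sum_boole] at hiso
  have h1 : (tilde T : Set G).ncard = (Finset.univ.filter fun g => g ∈ tilde T).card := by
    rw [Set.ncard_eq_toFinset_card', Set.toFinset_card, Fintype.card_subtype]
  have h2 : (Finset.univ.filter fun x : T => (x : G) ∈ coreSharp T).card + 1 =
      Nat.card (sigmaCore T) := by
    rw [← h.QT_card, Nat.card_eq_fintype_card, Fintype.card_subtype,
      show (Finset.univ.filter fun x : T => (x : G) ∈ coreSharp T) =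
        (Finset.univ.filter fun x : T => x ∈ QT T).erase 1 by ext x; simp [h.mem_coreSharp, and_comm],
      Finset.card_erase_add_one (by simp [one_mem])]
  have hG : (Nat.card G : ℝ) ≠ 0 := Nat.cast_ne_zero.mpr Nat.card_pos.ne'
  have hT : (Nat.card T : ℝ) ≠ 0 := Nat.cast_ne_zero.mpr Nat.card_pos.ne'
  rw [← h1] at hiso
  field_simp at hiso
  have h3 : ((tilde T : Set G).ncard * Nat.card T : ℕ) =
      Nat.card G * (Finset.univ.filter fun x : T => (x : G) ∈ coreSharp T).card := by
    have := hiso
    exact_mod_cast (by linarith : (((tilde T : Set G).ncard : ℝ) * Nat.card T) =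
      (Nat.card G : ℝ) * ((Finset.univ.filter fun x : T => (x : G) ∈ coreSharp T).card : ℝ))
  rw [h3, ← h2, mul_add, mul_one]

/-- The inequality with an arbitrary test function on the support. -/
theorem main_ineq [Fintype T] {ψ : G → ℂ} (h1 : classInner ψ ψ = 1)
    (hH : ∀ g, g ∉ tilde T → (orderOf g).Coprime (Nat.card W) → 1 ≤ ‖ψ g‖)
    {f : T → ℂ} (hf : IsClassFunction T f) (hfA : ∀ x : T, (x : G) ∉ coreSharp T → f x = 0) :
    (1 - 1 / (Nat.card W : ℝ) - ((bad S U).ncard : ℝ) / Nat.card U) / Nat.card K ≤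
      1 - (2 * (classInner ψ (dmap T f)).re - (classInner f f).re) := by
  classical
  set t := dmap T f with ht
  set G1 := Finset.univ.filter fun g : G => g ≠ 1 ∧ g ∉ tilde T ∧ g ∉ singular W with hG1
  have hpt : ∀ g, 2 * (ψ g * conj (t g)).re - ‖t g‖ ^ 2 + (if g ∈ G1 then 1 else 0) ≤ ‖ψ g‖ ^ 2 := by
    intro g
    by_cases hg : g ∈ G1
    · simp only [hG1, Finset.mem_filter, Finset.mem_univ, true_and] at hg
      rw [if_pos (by simpa [hG1] using hg), ht, h.dmap_off hg.2.1]
      have h1' := hH g hg.2.1 (not_not.mp hg.2.2)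
      simp only [map_zero, mul_zero, Complex.zero_re, norm_zero]
      nlinarith [norm_nonneg (ψ g)]
    · rw [if_neg hg, add_zero]; exact two_re_le _ _
  have hsum := Finset.sum_le_sum fun g (_ : g ∈ Finset.univ) => hpt g
  rw [Finset.sum_add_distrib, Finset.sum_sub_distrib, ← Finset.mul_sum, Finset.sum_boole,
    Finset.filter_univ_mem] at hsum
  have hψ := classInner_self_re_eq ψ
  rw [h1, Complex.one_re] at hψ
  have hff : (classInner t t).re = (classInner f f).re := by
    rw [ht]; exact congrArg Complex.re (dade_isometry h.dade hf hfA hf)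
  rw [← hff, classInner_self_re_eq t, classInner_re_eq ψ t]
  set N : ℝ := ((Nat.card G : ℕ) : ℝ) with hN
  have hN0 : 0 < N := by rw [hN]; exact_mod_cast Nat.card_pos
  have hψ' : ∑ g, ‖ψ g‖ ^ 2 = N := by
    field_simp at hψ; linarith
  rw [hψ'] at hsum
  -- the count
  have hcnt : Nat.card G ≤ G1.card + ((singular W : Set G).ncard + (tilde T : Set G).ncard + 1) := by
    have hsub : (Finset.univ : Finset G) ⊆ G1 ∪ ((singular W : Set G).toFinset ∪
        (tilde T : Set G).toFinset ∪ {1}) := fun g _ => by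
      simp only [hG1, Finset.mem_union, Finset.mem_filter, Finset.mem_univ, true_and,
        Set.mem_toFinset, Finset.mem_singleton]
      tauto
    have h2 := (Finset.card_le_card hsub).trans (Finset.card_union_le _ _)
    rw [Finset.card_univ, ← Nat.card_eq_fintype_card] at h2
    refine h2.trans (Nat.add_le_add_left ((Finset.card_union_le _ _).trans ?_) _)
    rw [Finset.card_singleton]
    refine Nat.add_le_add_right ((Finset.card_union_le _ _).trans (le_of_eq ?_)) 1
    rw [← Set.ncard_eq_toFinset_card', ← Set.ncard_eq_toFinset_card']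
  have hs : ((singular W : Set G).ncard : ℝ) * ((Nat.card W : ℝ) * Nat.card K * Nat.card U) ≤
      N * (((Nat.card W : ℝ) - 1) * ((Nat.card K : ℝ) - 1) * Nat.card U +
        Nat.card W * (bad S U).ncard) := by
    have := h.singular_mul_le
    have h' := (Nat.cast_le (α := ℝ)).mpr this
    push_cast [Nat.cast_sub (show 1 ≤ Nat.card W from Nat.card_pos),
      Nat.cast_sub (show 1 ≤ Nat.card K from Nat.card_pos)] at h'
    exact h'
  have htd : ((tilde T : Set G).ncard : ℝ) * Nat.card T + N = N * Nat.card (sigmaCore T) := by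
    rw [hN]; exact_mod_cast h.card_tilde_mul
  have hTG : (Nat.card T : ℝ) ≤ N := by
    rw [hN]; exact_mod_cast Nat.le_of_dvd Nat.card_pos T.card_subgroup_dvd_card
  have hcnt' : N ≤ (G1.card : ℝ) + (((singular W : Set G).ncard : ℝ) + (tilde T : Set G).ncard + 1) := by
    rw [hN]; exact_mod_cast hcnt
  have hT : (Nat.card T : ℝ) = Nat.card W * Nat.card (sigmaCore T) := by exact_mod_cast h.card_T
  set p : ℝ := ((Nat.card W : ℕ) : ℝ) with hp
  set q : ℝ := ((Nat.card K : ℕ) : ℝ) with hq
  set uu : ℝ := ((Nat.card U : ℕ) : ℝ) with huu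
  set bd : ℝ := (((bad S U).ncard : ℕ) : ℝ) with hbd
  set Qc : ℝ := ((Nat.card (sigmaCore T) : ℕ) : ℝ) with hQc
  have hp0 : 0 < p := by rw [hp]; exact_mod_cast Nat.card_pos
  have hq0 : 0 < q := by rw [hq]; exact_mod_cast Nat.card_pos
  have hu0 : 0 < uu := by rw [huu]; exact_mod_cast Nat.card_pos
  have hQ0 : 0 < Qc := by rw [hQc]; exact_mod_cast Nat.card_pos
  rw [hT] at htd hTG
  -- arithmetic
  have hgoal : (1 - 1 / p - bd / uu) / q * N ≤ (G1.card : ℝ) := by
    have e1 : ((singular W : Set G).ncard : ℝ) ≤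
        N * ((p - 1) * (q - 1) / (p * q) + bd / (q * uu)) := by
      rw [show N * ((p - 1) * (q - 1) / (p * q) + bd / (q * uu)) =
        (N * ((p - 1) * (q - 1) * uu + p * bd)) / (p * q * uu) by field_simp, le_div_iff₀ (by positivity)]
      exact hs
    have e2 : ((tilde T : Set G).ncard : ℝ) = N / p - N / (p * Qc) := by
      field_simp
      linarith
    have e3 : 1 ≤ N / (p * Qc) := (one_le_div (by positivity)).mpr hTG
    have e4 : N * (1 - ((p - 1) * (q - 1) / (p * q) + bd / (q * uu)) - 1 / p) =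
        N * ((1 - 1 / p - bd / uu) / q) := by field_simp; ring
    have e5 : N * ((p - 1) * (q - 1) / (p * q) + bd / (q * uu)) + N / p +
        N * ((1 - 1 / p - bd / uu) / q) = N := by
      rw [← e4]; field_simp; ring
    linarith
  rw [show 1 - (2 * (N⁻¹ * ∑ g, (ψ g * conj (t g)).re) - N⁻¹ * ∑ g, ‖t g‖ ^ 2) =
    (N - (2 * ∑ g, (ψ g * conj (t g)).re - ∑ g, ‖t g‖ ^ 2)) / N by field_simp, le_div_iff₀ hN0]
  linarith

end TV

end CfsgLib.Peterfalvi.Pair.TypeV
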