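import Cfsg.Agent.Lib.Peterfalvi.Pair.TypeV.Data
import Cfsg.Agent.Lib.Peterfalvi.Pair.NbrSupport
import Cfsg.Agent.Lib.Peterfalvi.DadeDiff
import Cfsg.Agent.Lib.Char.CoherenceDescent

/-!
The characters of `T` induced from the linear characters of its core, and the Dade map.
-/

set_option autoImplicit false
set_option linter.style.haveILetI false
set_option linter.unusedSectionVars false

namespace CfsgLib.Peterfalvi.Pair.TypeV

open Cfsg CfsgLib.Char
open CfsgLib.BG.FixedLine (conj_mem_of_le_normalizer)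
open CfsgLib.Peterfalvi.Pair (exists_conj_coset supportR_congr centralizer_pow pow_injective tilde)
open scoped ComplexConjugate CfsgLib.Char Pointwise

universe u

variable {G : Type u} [Group G] {S T U K W : Subgroup G}

/-- The core of `T`, inside `T`. -/
abbrev QT (T : Subgroup G) : Subgroup T := (sigmaCore T).subgroupOf T

instance normal_QT (T : Subgroup G) : (QT T).Normal := by
  rw [QT, Subgroup.subgroupOf, sigmaCore,
    Subgroup.comap_map_eq_self_of_injective T.subtype_injective]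
  infer_instance

noncomputable instance fintype_homQT [Finite G] (T : Subgroup G) : Fintype (QT T →* ℂˣ) :=
  haveI : Finite (QT T →* ℂˣ) := CyclicTI.finiteDual (QT T)
  Fintype.ofFinite _

/-- The support. -/
abbrev coreSharp (T : Subgroup G) : Set G := (sigmaCore T : Set G) \ {1}

/-- The Dade map of the support. -/
noncomputable abbrev dmap (T : Subgroup G) (α : T → ℂ) : G → ℂ :=
  dadeIsometry (coreSharp T) T (supportR T) α

/-- A linear character as a function. -/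
def lf {T : Subgroup G} (ϑ : QT T →* ℂˣ) : QT T → ℂ := fun n => (ϑ n : ℂ)

/-- The conjugate of a linear character. -/
def twist {T : Subgroup G} (ϑ : QT T →* ℂˣ) (t : T) : QT T →* ℂˣ where
  toFun n := ϑ ⟨t * n * t⁻¹, (normal_QT T).conj_mem _ n.2 t⟩
  map_one' := by rw [← map_one ϑ]; exact congrArg ϑ (Subtype.ext (by simp))
  map_mul' a b := by rw [← map_mul]; exact congrArg ϑ (Subtype.ext (by simp [mul_assoc]))

theorem lf_inj {T : Subgroup G} {ϑ ϑ' : QT T →* ℂˣ} (e : lf ϑ = lf ϑ') : ϑ = ϑ' :=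
  MonoidHom.ext fun n => Units.ext (congrFun e n)

theorem conjBy_lf {T : Subgroup G} (ϑ : QT T →* ℂˣ) (t : T) :
    conjBy (QT T) (lf ϑ) t = lf (twist ϑ t) := rfl

theorem isIrr_lf {T : Subgroup G} (ϑ : QT T →* ℂˣ) : IsIrrCharacter (QT T) (lf ϑ) :=
  isIrrCharacter_monoidHom ϑ

/-- The induced character. -/
noncomputable def zeta (T : Subgroup G) [Fintype T] (ϑ : QT T →* ℂˣ) : T → ℂ :=
  indFun (QT T) (lf ϑ)

/-- The permutation character of the quotient. -/
noncomputable def rhoT (T : Subgroup G) [Fintype T] : T → ℂ := indFun (QT T) (fun _ => (1 : ℂ))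

namespace TV

variable [Fintype G] (h : TV S T U K W)
include h

theorem QT_card : Nat.card (QT T) = Nat.card (sigmaCore T) :=
  Nat.card_congr (Subgroup.subgroupOfEquivOfLe h.Q_le).toEquiv

theorem index_QT : (QT T).index = Nat.card W := by
  have e := (QT T).card_mul_index
  rw [h.QT_card, h.card_T, mul_comm (Nat.card W)] at e
  exact Nat.eq_of_mul_eq_mul_left Nat.card_pos e

theorem nil_QT : Group.IsNilpotent (QT T) := by
  haveI := h.nilQ
  exact Group.nilpotent_of_mulEquiv (Subgroup.subgroupOfEquivOfLe h.Q_le).symm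

/-- Every element of `T` is a product of elements of the core and of `W`. -/
theorem exists_decomp (t : T) : ∃ n : T, n ∈ QT T ∧ ∃ w : T, (w : G) ∈ W ∧ t = n * w := by
  obtain ⟨w, hw, n, hn, e⟩ := h.W_compl.2.2.2 _ t.2
  have hwN : w ∈ Subgroup.normalizer (sigmaCore T : Set G) :=
    (h.W_le_T.trans (OddLocal.le_normalizer_piCoreOf _ T)) hw
  refine ⟨⟨w * n * w⁻¹, T.mul_mem (T.mul_mem (h.W_le_T hw) (h.Q_le hn)) (T.inv_mem (h.W_le_T hw))⟩,
    Subgroup.mem_subgroupOf.mpr (conj_mem_of_le_normalizer hwN n hn), ⟨w, h.W_le_T hw⟩, hw,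
    Subtype.ext ?_⟩
  show (t : G) = w * n * w⁻¹ * w
  rw [e]; group

/-- A character of the core killing the derived subgroup kills `K`. -/
theorem lin_K (ϑ : QT T →* ℂˣ) (n : QT T) (hn : ((n : T) : G) ∈ K) : ϑ n = 1 := by
  let e : sigmaCore T →* QT T := (Subgroup.subgroupOfEquivOfLe h.Q_le).symm.toMonoidHom
  have hK : (⟨_, h.K_le_Q hn⟩ : sigmaCore T) ∈ commutator (sigmaCore T) := by
    have h1 := h.K_le_derived hn
    rw [← Subgroup.map_subtype_commutator, Subgroup.mem_map] at h1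
    obtain ⟨y, hy, e'⟩ := h1
    rwa [show (⟨_, h.K_le_Q hn⟩ : sigmaCore T) = y from Subtype.ext e'.symm]
  have h2 := Abelianization.commutator_subset_ker (ϑ.comp e) hK
  rw [MonoidHom.mem_ker, MonoidHom.comp_apply] at h2
  exact (congrArg ϑ (Subtype.ext (Subtype.ext rfl))).trans h2

/-- The cosets of the nontrivial elements of `W` under conjugation. -/
theorem exists_conj_WK {t : T} (ht : t ∉ QT T) :
    ∃ e : T, e ∈ QT T ∧ ∃ c w : G, c ∈ K ∧ w ∈ W ∧ w ≠ 1 ∧ ((e * t * e⁻¹ : T) : G) = c * w := by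
  obtain ⟨n, hn, w, hw, rfl⟩ := h.exists_decomp t
  have hw1 : (w : G) ≠ 1 := fun e => ht (by
    rw [show w = 1 from Subtype.ext e, mul_one]; exact hn)
  obtain ⟨e, he, c, hc, hcw, hx⟩ := exists_conj_coset
    ((h.W_le_T.trans (OddLocal.le_normalizer_piCoreOf _ T)) hw)
    (h.hall_coprime.coprime_dvd_right (Subgroup.orderOf_dvd_natCard W hw))
    (Subgroup.mem_subgroupOf.mp hn)
  exact ⟨⟨e, h.Q_le he⟩, Subgroup.mem_subgroupOf.mpr he, c, w,
    (h.Q_fix hw hw1).le ⟨hc, Subgroup.mem_centralizer_singleton_iff.mpr hcw⟩, hw, hw1,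
    by push_cast; exact hx⟩

/-- The nontrivial linear characters are moved by `W`. -/
theorem eq_one_of_fixed {ϑ : QT T →* ℂˣ} {w : T} (hw : (w : G) ∈ W) (hw1 : w ≠ 1)
    (hfix : twist ϑ w = ϑ) : ϑ = 1 := by
  refine MonoidHom.ext fun n => ?_
  obtain ⟨e, he, c, hc, hcw, hx⟩ := exists_conj_coset
    ((h.W_le_T.trans (OddLocal.le_normalizer_piCoreOf _ T)) hw)
    (h.hall_coprime.coprime_dvd_right (Subgroup.orderOf_dvd_natCard W hw))
    (Subgroup.mem_subgroupOf.mp n.2)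
  have hcK : c ∈ K := (h.Q_fix hw (fun e' => hw1 (Subtype.ext e'))).le
    ⟨hc, Subgroup.mem_centralizer_singleton_iff.mpr hcw⟩
  set e' : QT T := ⟨⟨e, h.Q_le he⟩, Subgroup.mem_subgroupOf.mpr he⟩ with he'
  set c' : QT T := ⟨⟨c, h.Q_le hc⟩, Subgroup.mem_subgroupOf.mpr hc⟩ with hc'
  have key : e' * n * ⟨w * (e' : T)⁻¹ * w⁻¹, (normal_QT T).conj_mem _ ((QT T).inv_mem e'.2) w⟩ = c' := by
    refine Subtype.ext (Subtype.ext ?_)
    simp only [he', hc', Subgroup.coe_mul, Subgroup.coe_inv]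
    calc e * ((n : T) : G) * ((w : G) * e⁻¹ * (w : G)⁻¹)
        = e * (((n : T) : G) * w) * e⁻¹ * (w : G)⁻¹ := by group
      _ = c := by rw [hx]; group
  have h1 : ϑ ⟨w * (e' : T)⁻¹ * w⁻¹, (normal_QT T).conj_mem _ ((QT T).inv_mem e'.2) w⟩ = ϑ e'⁻¹ :=
    DFunLike.congr_fun hfix e'⁻¹
  have h2 := congrArg ϑ key
  rw [map_mul, map_mul, h1, map_inv, h.lin_K ϑ c' hcK] at h2
  rw [MonoidHom.one_apply]
  rwa [mul_comm (ϑ e') (ϑ n), mul_inv_cancel_right] at h2

variable [Fintype T] [Fintype (QT T)]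

theorem inertia_lin {ϑ : QT T →* ℂˣ} (hϑ : ϑ ≠ 1) : inertia (QT T) (lf ϑ) = QT T := by
  refine le_antisymm (fun t ht => ?_)
    (le_inertia _ (isClassFunction_of_isCharacter (isCharacter_of_isIrr (isIrr_lf ϑ))))
  obtain ⟨n, hn, w, hw, rfl⟩ := h.exists_decomp t
  by_contra hne
  have hw1 : w ≠ 1 := fun e => hne (by rw [e, mul_one]; exact hn)
  have hwI : w ∈ inertia (QT T) (lf ϑ) := by
    have := (inertia (QT T) (lf ϑ)).mul_mem ((inertia (QT T) (lf ϑ)).inv_mem
      (le_inertia _ (isClassFunction_of_isCharacter (isCharacter_of_isIrr (isIrr_lf ϑ))) hn)) ht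
    rwa [inv_mul_cancel_left] at this
  exact hϑ (h.eq_one_of_fixed hw hw1 (lf_inj hwI))

open _root_.Classical in
theorem zeta_inner {ϑ : QT T →* ℂˣ} (hϑ : ϑ ≠ 1) (ϑ' : QT T →* ℂˣ) :
    classInner (zeta T ϑ') (zeta T ϑ) = if lf ϑ' ∈ orbit (QT T) (lf ϑ) then 1 else 0 := by
  rw [zeta, zeta, classInner_indFun_indFun (QT T) (isIrr_lf ϑ) (isIrr_lf ϑ'), h.inertia_lin hϑ]
  exact if_congr Iff.rfl (div_self (Nat.cast_ne_zero.mpr Nat.card_pos.ne')) rfl

theorem zeta_one (ϑ : QT T →* ℂˣ) : zeta T ϑ 1 = (Nat.card W : ℂ) := by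
  rw [zeta, indFun_one, h.index_QT]; simp [lf]

theorem isIrr_zeta {ϑ : QT T →* ℂˣ} (hϑ : ϑ ≠ 1) : IsIrrCharacter T (zeta T ϑ) := by
  have hc : IsCharacter T (zeta T ϑ) := isCharacter_indFun _ (isCharacter_of_isIrr (isIrr_lf ϑ))
  obtain ⟨ε, hε, ⟨ν, hν⟩, he⟩ := exists_of_norm_one (isGeneralized_of_isCharacter hc)
    (by classical rw [h.zeta_inner hϑ, if_pos (self_mem_orbit _ _)])
  rcases hε with rfl | rfl
  · rw [show zeta T ϑ = ν by simpa using he]; exact hν
  exfalso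
  obtain ⟨d, hd⟩ := exists_nat_degree (isCharacter_of_isIrr hν)
  have h1 := congrFun he 1
  rw [h.zeta_one] at h1
  simp only [Pi.smul_apply, smul_eq_mul, neg_mul, one_mul, hd] at h1
  have h2 : ((Nat.card W + d : ℕ) : ℂ) = 0 := by push_cast; linear_combination h1
  have h3 : Nat.card W + d = 0 := Nat.cast_eq_zero.mp h2
  have := h.three_le h.W_ne
  omega

/-- The induced characters of the nontrivial linear characters are counted `|W|` times. -/
theorem sum_inner {ϑ : QT T →* ℂˣ} (hϑ : ϑ ≠ 1) :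
    ∑ ϑ' ∈ Finset.univ.filter (· ≠ (1 : QT T →* ℂˣ)), classInner (zeta T ϑ') (zeta T ϑ) =
      (Nat.card W : ℂ) := by
  classical
  rw [Finset.sum_congr rfl fun ϑ' _ => h.zeta_inner hϑ ϑ', Finset.sum_boole, Finset.filter_filter]
  congr 1
  rw [show Nat.card W = (orbit (QT T) (lf ϑ)).card by
    rw [card_orbit_eq_index, h.inertia_lin hϑ, h.index_QT]]
  refine Finset.card_bij (fun ϑ' _ => lf ϑ') (fun ϑ' hϑ' => (Finset.mem_filter.mp hϑ').2.2)
    (fun a _ b _ e => lf_inj e) fun φ hφ => ?_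
  obtain ⟨t, rfl⟩ := (mem_orbit _).mp hφ
  refine ⟨twist ϑ t, Finset.mem_filter.mpr ⟨Finset.mem_univ _, fun e => hϑ ?_, hφ⟩, rfl⟩
  refine MonoidHom.ext fun n => ?_
  rw [MonoidHom.one_apply, ← MonoidHom.one_apply (N := ℂˣ)
    (⟨t⁻¹ * n * t, by simpa using (normal_QT T).conj_mem _ n.2 t⁻¹⟩ : QT T), ← e]
  exact congrArg ϑ (Subtype.ext (by group))

theorem zeta_conj (ϑ : QT T →* ℂˣ) : conjFun (zeta T ϑ) = zeta T ϑ⁻¹ := by
  rw [zeta, zeta, Descent.conjFun_indFun]
  congr 1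
  funext n
  simp only [conjFun, lf, MonoidHom.inv_apply, Units.val_inv_eq_inv_val]
  exact (Complex.inv_eq_conj (Complex.norm_eq_one_of_pow_eq_one (n := Nat.card (QT T))
    (by rw [← Units.val_pow_eq_pow_val, ← map_pow, pow_card_eq_one', map_one, Units.val_one])
    Nat.card_pos.ne')).symm

theorem zeta_off (ϑ : QT T →* ℂˣ) {x : T} (hx : x ∉ QT T) : zeta T ϑ x = 0 :=
  indFun_notMem_of_normal _ _ hx

theorem mem_coreSharp {x : T} : (x : G) ∈ coreSharp T ↔ x ∈ QT T ∧ x ≠ 1 :=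
  ⟨fun hx => ⟨Subgroup.mem_subgroupOf.mpr hx.1, fun e => hx.2 (congrArg Subtype.val e)⟩,
    fun hx => ⟨Subgroup.mem_subgroupOf.mp hx.1, fun e => hx.2 (Subtype.ext e)⟩⟩

theorem achar {ϑ : QT T →* ℂˣ} (hϑ : ϑ ≠ 1) : AChar (coreSharp T) T (zeta T ϑ) := by
  refine ⟨h.isIrr_zeta hϑ, fun e => ?_, fun x hx1 hx => h.zeta_off ϑ fun hc =>
    hx (h.mem_coreSharp.mpr ⟨hc, hx1⟩)⟩
  have hone := irr_real_of_odd (h.odd_card T) ⟨_, h.isIrr_zeta hϑ⟩
    fun g => Complex.conj_eq_iff_im.mp (congrFun e g)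
  have h1 := congrFun hone 1
  simp only [h.zeta_one] at h1
  have h2 : Nat.card W = 1 := Nat.cast_eq_one.mp h1
  have := h.three_le h.W_ne
  omega

theorem dade : DadeHypothesis (coreSharp T) T (supportR T) := by
  have hTA : typeA1 T = coreSharp T := typeA1_eq_diff h.hG h.hT
  exact dadeHypothesis_of_tame (tame_typeA h.hG h.hT) (hTA ▸ typeA1_subset_typeA' h.hG h.hT)
    (fun x hx => h.Q_le hx.1) (fun e => e.2 rfl) fun m hm x hx =>
    ⟨conj_mem_of_le_normalizer (OddLocal.le_normalizer_piCoreOf _ T hm) x hx.1,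
      fun e => hx.2 (conj_eq_one_iff.mp e)⟩

theorem dmap_off {g : G} (hg : g ∉ tilde T) (α : T → ℂ) : dmap T α g = 0 :=
  dade_value_zero fun ⟨a, ha, x, r, hr, e⟩ => hg ⟨a, ha, r, hr, x⁻¹, by rw [← e]; group⟩

theorem dmap_value {α : T → ℂ} (hα : IsClassFunction T α) {g : G} (hg : g ∈ tilde T) :
    ∃ a : T, (a : G) ∈ coreSharp T ∧ dmap T α g = α a ∧ ∃ y r, r ∈ supportR T (a : G) ∧
      g = y * ((a : G) * r) * y⁻¹ := by
  obtain ⟨a, ha, r, hr, y, rfl⟩ := hg
  exact ⟨⟨a, h.Q_le ha.1⟩, ha,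
    dade_value h.dade hα (a := ⟨a, h.Q_le ha.1⟩) ha hr (x := y⁻¹) (by group), y, r, hr, rfl⟩

/-- The elements of the support have order prime to `|W|`. -/
theorem coprime_of_tilde {g : G} (hg : g ∈ tilde T) : (orderOf g).Coprime (Nat.card W) := by
  obtain ⟨a, ha, r, hr, y, rfl⟩ := hg
  rw [show orderOf (y * (a * r) * y⁻¹) = orderOf (a * r) from
    orderOf_injective (MulAut.conj y).toMonoidHom (MulAut.conj y).injective _]
  refine Nat.Coprime.coprime_dvd_left
    ((OddLocal.support_cases h.hG h.hT ha.1 ha.2 hr).1.orderOf_mul_dvd_mul_orderOf) ?_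
  refine Nat.Coprime.mul_left (h.hall_coprime.coprime_dvd_left
    (Subgroup.orderOf_dvd_natCard _ ha.1)) ?_
  obtain ⟨⟨y, hy⟩, hy1⟩ := (Subgroup.ne_bot_iff_exists_ne_one).1 h.K_ne
  have hyA : y ∈ coreSharp T := ⟨h.K_le_Q hy, fun e => hy1 (Subtype.ext e)⟩
  refine ((h.dade.coprime a ha y hyA).coprime_dvd_left
    (Subgroup.orderOf_dvd_natCard _ hr)).coprime_dvd_right
    (Subgroup.card_dvd_of_le (show W ≤ T ⊓ Subgroup.centralizer ({y} : Set G) from
      fun w hw => ⟨h.W_le_T hw, ?_⟩))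
  exact Subgroup.mem_centralizer_singleton_iff.mpr (h.commute hy hw).symm

theorem one_notMem : (1 : G) ∉ tilde T := one_notMem_tilde h.hG h.hT

theorem dmap_zero_KW (α : T → ℂ) {x : K} {y : W} (hx : x ≠ 1) (hy : y ≠ 1) :
    dmap T α ((x : G) * y) = 0 := by
  refine h.dmap_off (fun hmem => ?_) α
  have hc := h.coprime_of_tilde hmem
  rw [show orderOf ((x : G) * y) = orderOf (x : G) * orderOf (y : G) from
    (show Commute (x : G) y from h.commute x.2 y.2).orderOf_mul_eq_mul_orderOf_of_coprime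
      (h.K_coprime_W.coprime_dvd_left (Subgroup.orderOf_dvd_natCard K x.2) |>.coprime_dvd_right
        (Subgroup.orderOf_dvd_natCard W y.2))] at hc
  have h1 := Nat.eq_one_of_dvd_coprimes (hc.coprime_dvd_left (dvd_mul_left _ _)) dvd_rfl
    (Subgroup.orderOf_dvd_natCard W y.2)
  exact hy (Subtype.ext (orderOf_eq_one_iff.mp h1))

/-- The Dade map commutes with powers prime to the group order. -/
theorem dmap_pow {α : T → ℂ} (hα : IsClassFunction T α) {k : ℕ} (hk : k.Coprime (Nat.card G)) :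
    dmap T (fun x => α (x ^ k)) = fun g => dmap T α (g ^ k) := by
  have hα' : IsClassFunction T (fun x => α (x ^ k)) := fun a b => by
    show α ((b * a * b⁻¹) ^ k) = α (a ^ k)
    rw [conj_pow]; exact hα _ _
  funext g
  by_cases hg : g ∈ tilde T
  · obtain ⟨a, ha, r, hr, y, rfl⟩ := hg
    have hak : a ^ k ∈ coreSharp T := ⟨pow_mem ha.1 k, fun e =>
      ha.2 (pow_injective hk (by simpa using e))⟩
    have hu : r ^ k ∈ supportR T (a ^ k) := by
      rw [supportR_congr (centralizer_pow hk)]; exact pow_mem hr k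
    have e : y⁻¹ * (y * (a * r) * y⁻¹) ^ k * y⁻¹⁻¹ = a ^ k * r ^ k := by
      rw [conj_pow, ← (OddLocal.support_cases h.hG h.hT ha.1 ha.2 hr).1.mul_pow]; group
    show dadeIsometry (coreSharp T) T (supportR T) (fun x : T => α (x ^ k)) _ =
      dadeIsometry (coreSharp T) T (supportR T) α _
    rw [dade_value h.dade hα' (a := ⟨a, h.Q_le ha.1⟩) ha hr (x := y⁻¹) (by group),
      dade_value h.dade hα (a := ⟨a ^ k, h.Q_le hak.1⟩) hak hu e]
    rfl
  · rw [h.dmap_off hg, h.dmap_off fun hc => hg ((powClosed_tilde h.hG h.hT).mem_iff hk |>.mp hc)]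

end TV

end CfsgLib.Peterfalvi.Pair.TypeV
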