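import Cfsg.Agent.Lib.Char.Counting
import Cfsg.Agent.Lib.PSolvable.Omega
import Cfsg.Agent.Lib.Splitting.Nilpotent
import Cfsg.Agent.Lib.Hall.Carter

/-!
The splitting of a finite nilpotent group at a prime.
-/

set_option autoImplicit false
set_option linter.style.haveILetI false
set_option linter.unusedSectionVars false

namespace CfsgLib.Peterfalvi.Pair.TypeV

open Cfsg CfsgLib.Char

universe u

variable {Γ : Type u} [Group Γ] [Finite Γ] (q : ℕ) [hq : Fact q.Prime]

/-- The subgroup generated by the elements of order prime to `q`. -/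
def primeCompl (Γ : Type u) [Group Γ] : Subgroup Γ :=
  Subgroup.closure {x | (orderOf x).Coprime q}

theorem primeCompl_spec [hn : Group.IsNilpotent Γ] :
    (∀ x : Γ, x ∈ primeCompl q Γ ↔ (orderOf x).Coprime q) ∧
      ∃ k : ℕ, Nat.card Γ = Nat.card (primeCompl q Γ) * q ^ k ∧
        (Nat.card (primeCompl q Γ)).Coprime q := by
  obtain ⟨P⟩ : Nonempty (Sylow q Γ) := inferInstance
  haveI := Splitting.sylow_normal_of_isNilpotent hn P
  obtain ⟨H, hH⟩ := Subgroup.exists_right_complement'_of_coprime P.card_coprime_index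
  obtain ⟨e, he⟩ := IsPGroup.iff_card.mp P.2
  have hcH : (Nat.card H).Coprime q := by
    refine ((hq.out.coprime_iff_not_dvd).mpr fun hd => P.not_dvd_index ?_).symm
    rwa [← hH.symm.index_eq_card] at hd
  have hcomm : ∀ a ∈ (P : Subgroup Γ), ∀ b ∈ H, a * b = b * a := by
    intro a ha b hb
    refine Hall.commute_of_coprime_orderOf (p := q) (j := e) ?_
      (hcH.coprime_dvd_left (Subgroup.orderOf_dvd_natCard H hb))
    rw [← he]; exact Subgroup.orderOf_dvd_natCard _ ha
  have hHn : H.Normal := by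
    refine ⟨fun b hb g => ?_⟩
    obtain ⟨⟨a, c⟩, hg⟩ := hH.existsUnique g |>.exists
    simp only at hg
    have : g * b * g⁻¹ = c * b * (c : Γ)⁻¹ := by
      rw [← hg, show (a : Γ) * c * b * ((a : Γ) * c)⁻¹ = (a : Γ) * ((c : Γ) * b * (c : Γ)⁻¹) * (a : Γ)⁻¹
        by group, hcomm _ a.2 _ (mul_mem (mul_mem c.2 hb) (inv_mem c.2)), mul_inv_cancel_right]
    rw [this]
    exact mul_mem (mul_mem c.2 hb) (inv_mem c.2)
  have hmem : ∀ x : Γ, x ∈ H ↔ (orderOf x).Coprime q := by
    intro x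
    refine ⟨fun hx => hcH.coprime_dvd_left (Subgroup.orderOf_dvd_natCard H hx), fun hx => ?_⟩
    rw [← QuotientGroup.eq_one_iff (N := H)]
    refine orderOf_eq_one_iff.mp (Nat.dvd_one.mp ?_)
    have h1 : orderOf (x : Γ ⧸ H) ∣ orderOf x := orderOf_map_dvd (QuotientGroup.mk' H) x
    have h2 : orderOf (x : Γ ⧸ H) ∣ q ^ e := by
      refine orderOf_dvd_natCard (x : Γ ⧸ H) |>.trans (dvd_of_eq ?_)
      rw [← Subgroup.index_eq_card, hH.index_eq_card, he]
    exact (Nat.Coprime.pow_right e hx) ▸ Nat.dvd_gcd h1 h2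
  have heq : primeCompl q Γ = H :=
    le_antisymm ((Subgroup.closure_le H).mpr fun x hx => (hmem x).mpr hx)
      fun x hx => Subgroup.subset_closure ((hmem x).mp hx)
  rw [heq]
  exact ⟨hmem, e, by rw [← he, mul_comm]; exact hH.card_mul.symm, hcH⟩

instance primeCompl_normal [Group.IsNilpotent Γ] : (primeCompl q Γ).Normal :=
  ⟨fun x hx g => by
    rw [(primeCompl_spec q).1] at hx ⊢
    rw [show orderOf (g * x * g⁻¹) = orderOf x from
      orderOf_injective (MulAut.conj g).toMonoidHom (MulAut.conj g).injective x]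
    exact hx⟩

theorem isPGroup_quotient [Group.IsNilpotent Γ] : IsPGroup q (Γ ⧸ primeCompl q Γ) := by
  obtain ⟨k, hk, -⟩ := (primeCompl_spec q (Γ := Γ)).2
  refine IsPGroup.of_card (n := k) ?_
  have h := (primeCompl q Γ).card_eq_card_quotient_mul_card_subgroup
  rw [hk, mul_comm] at h
  exact (Nat.eq_of_mul_eq_mul_right Nat.card_pos h).symm

/-- A nonabelian `q`-group has at least `q ^ 2` linear characters. -/
theorem sq_dvd_card_hom {Δ : Type u} [Group Δ] [Finite Δ] (hΔ : IsPGroup q Δ)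
    (hne : commutator Δ ≠ ⊥) : q ^ 2 ∣ Nat.card (Δ →* ℂˣ) := by
  haveI : Finite (Abelianization Δ) := Quotient.finite _
  rw [Nat.card_congr Abelianization.lift, card_hom_units]
  obtain ⟨k, hk⟩ := IsPGroup.iff_card.mp (hΔ.to_quotient (commutator Δ))
  rw [show Nat.card (Abelianization Δ) = q ^ k from hk]
  refine pow_dvd_pow q ?_
  by_contra hlt
  obtain ⟨x, hx⟩ : ∃ x : Δ, Subgroup.zpowers x ⊔ commutator Δ = ⊤ := by
    by_cases hk0 : k = 0
    · refine ⟨1, ?_⟩
      rw [hk0, pow_zero, ← Subgroup.index_eq_card, Subgroup.index_eq_one] at hk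
      rw [hk, sup_top_eq]
    · have hk1 : k = 1 := by omega
      rw [hk1, pow_one] at hk
      haveI : IsCyclic (Δ ⧸ commutator Δ) := isCyclic_of_prime_card hk
      obtain ⟨g, hg⟩ := IsCyclic.exists_generator (α := Δ ⧸ commutator Δ)
      obtain ⟨x, rfl⟩ := QuotientGroup.mk'_surjective _ g
      refine ⟨x, eq_top_iff.mpr fun y _ => ?_⟩
      obtain ⟨i, hi⟩ := hg (QuotientGroup.mk' _ y)
      rw [show y = x ^ i * ((x ^ i)⁻¹ * y) by group]
      refine Subgroup.mul_mem_sup (Subgroup.zpow_mem_zpowers _ _) ((QuotientGroup.eq_one_iff _).mp ?_)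
      change QuotientGroup.mk' _ ((x ^ i)⁻¹ * y) = 1
      rw [map_mul, map_inv, map_zpow, ← hi, inv_mul_cancel]
  have htop := frattini_nongenerating (eq_top_iff.mpr
    (hx.ge.trans (sup_le_sup_left (PSolvable.commutator_le_frattini hΔ).1 _)))
  refine hne ?_
  haveI : IsMulCommutative Δ := ⟨⟨fun a b => by
    obtain ⟨i, rfl⟩ := Subgroup.mem_zpowers_iff.mp (htop.ge (Subgroup.mem_top a))
    obtain ⟨j, rfl⟩ := Subgroup.mem_zpowers_iff.mp (htop.ge (Subgroup.mem_top b))
    exact zpow_mul_comm x i j⟩⟩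
  rw [_root_.commutator_def, Subgroup.commutator_eq_bot_iff_le_centralizer]
  exact fun a _ b _ => mul_comm' b a

end CfsgLib.Peterfalvi.Pair.TypeV
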