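import Cfsg.Agent.Lib.Peterfalvi.Pair.TypeV.Psi
import Cfsg.Agent.Lib.Peterfalvi.Pair.TypeV.Split

/-!
The nontrivial linear characters of the core and the averaged test function.
-/

set_option autoImplicit false
set_option linter.style.haveILetI false
set_option linter.unusedSectionVars false

namespace CfsgLib.Peterfalvi.Pair.TypeV

open Cfsg CfsgLib.Char
open CfsgLib.BG.FixedLine (conj_mem_of_le_normalizer)
open scoped ComplexConjugate CfsgLib.Char Pointwise

universe u

variable {G : Type u} [Group G] [Fintype G] {S T U K W : Subgroup G} [Fintype T] [Fintype (QT T)]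

/-- The nontrivial linear characters of the core. -/
noncomputable def linSet (T : Subgroup G) : Finset (QT T →* ℂˣ) :=
  @Finset.filter _ (· ≠ 1) (Classical.decPred _) Finset.univ

theorem mem_linSet {ϑ : QT T →* ℂˣ} : ϑ ∈ linSet T ↔ ϑ ≠ 1 := by
  classical simp [linSet]

theorem dmap_sum {ι : Type*} (s : Finset ι) (f : ι → T → ℂ) :
    dmap T (∑ i ∈ s, f i) = ∑ i ∈ s, dmap T (f i) := by
  classical
  induction s using Finset.induction_on with
  | empty => funext g; simp [dmap, dadeIsometry]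
  | insert a s ha ih => rw [Finset.sum_insert ha, Finset.sum_insert ha, dmap_add, ih]

/-- The mean of the differences. -/
noncomputable def phi (T : Subgroup G) [Fintype T] (ϑ₀ : QT T →* ℂˣ) : T → ℂ :=
  ((linSet T).card : ℂ)⁻¹ • ∑ ϑ ∈ linSet T, (zeta T ϑ₀ - zeta T ϑ)

namespace TV

variable (h : TV S T U K W)
include h

theorem card_linSet : (linSet T).card + 1 = Nat.card (QT T →* ℂˣ) := by
  classical
  rw [show linSet T = Finset.univ.erase 1 by ext; simp [linSet], Nat.card_eq_fintype_card,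
    Finset.card_erase_add_one (Finset.mem_univ _), Finset.card_univ]

theorem odd_hom : Odd (Nat.card (QT T →* ℂˣ)) := by
  haveI : Finite (Abelianization (QT T)) := Quotient.finite _
  rw [Nat.card_congr Abelianization.lift, card_hom_units]
  refine Odd.of_dvd_nat ?_ (Subgroup.card_quotient_dvd_card (commutator (QT T)))
  rw [h.QT_card]; exact h.odd_card _

open _root_.Classical in
theorem inner_zeta {ϑ ϑ' : QT T →* ℂˣ} (hϑ : ϑ ≠ 1) (hϑ' : ϑ' ≠ 1) :
    classInner (zeta T ϑ) (zeta T ϑ') = if zeta T ϑ = zeta T ϑ' then 1 else 0 :=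
  classInner_irr (h.isIrr_zeta hϑ) (h.isIrr_zeta hϑ')

open _root_.Classical in
theorem card_fibre {ϑ₀ : QT T →* ℂˣ} (h₀ : ϑ₀ ≠ 1) :
    ((linSet T).filter fun ϑ => zeta T ϑ = zeta T ϑ₀).card = Nat.card W := by
  have h1 := h.sum_inner h₀
  have h2 : ∑ ϑ ∈ linSet T, classInner (zeta T ϑ) (zeta T ϑ₀) = (Nat.card W : ℂ) := by
    rw [← h1]; refine Finset.sum_congr ?_ fun _ _ => rfl
    ext; simp [linSet]
  rw [Finset.sum_congr rfl fun ϑ hϑ => h.inner_zeta (mem_linSet.mp hϑ) h₀, Finset.sum_boole] at h2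
  exact_mod_cast h2

theorem W_dvd_card : Nat.card W ∣ (linSet T).card := by
  classical
  rw [Finset.card_eq_sum_card_image (zeta T) (linSet T)]
  refine Finset.dvd_sum fun z hz => ?_
  obtain ⟨ϑ, hϑ, rfl⟩ := Finset.mem_image.mp hz
  rw [h.card_fibre (mem_linSet.mp hϑ)]

theorem even_card : Even (linSet T).card := by
  have := h.odd_hom
  rw [← h.card_linSet, Nat.odd_add_one, Nat.not_odd_iff_even] at this
  exact this

theorem two_W_dvd : 2 * Nat.card W ∣ (linSet T).card :=
  (Nat.coprime_two_left.mpr (h.odd_card W)).mul_dvd_of_dvd_of_dvd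
    (even_iff_two_dvd.mp h.even_card) h.W_dvd_card

theorem mem_commutator_of_mem_K (y' : QT T) (hy : ((y' : T) : G) ∈ K) :
    y' ∈ commutator (QT T) := by
  have h1 := h.K_le_derived hy
  rw [← Subgroup.map_subtype_commutator, Subgroup.mem_map] at h1
  obtain ⟨z, hz, e⟩ := h1
  have h2 := Subgroup.mem_map_of_mem (Subgroup.subgroupOfEquivOfLe h.Q_le).symm.toMonoidHom hz
  rw [_root_.commutator_def, Subgroup.map_commutator] at h2
  rw [_root_.commutator_def]
  have h3 : y' ∈ _ := (Subtype.ext (Subtype.ext e.symm) :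
    y' = (Subgroup.subgroupOfEquivOfLe h.Q_le).symm.toMonoidHom z) ▸ h2
  exact (Subgroup.commutator_mono le_top le_top :
    ⁅Subgroup.map (Subgroup.subgroupOfEquivOfLe h.Q_le).symm.toMonoidHom ⊤,
      Subgroup.map (Subgroup.subgroupOfEquivOfLe h.Q_le).symm.toMonoidHom ⊤⁆ ≤
    ⁅(⊤ : Subgroup (QT T)), ⊤⁆) h3

theorem commutator_quot_ne (H : Subgroup (QT T)) [H.Normal]
    (hH : ∀ x : QT T, x ∈ H → (orderOf x).Coprime (Nat.card K)) :
    commutator (QT T ⧸ H) ≠ ⊥ := by
  obtain ⟨⟨y, hy⟩, hy1⟩ := (Subgroup.ne_bot_iff_exists_ne_one).1 h.K_ne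
  have hyQ := h.K_le_Q hy
  set y' : QT T := ⟨⟨y, h.Q_le hyQ⟩, Subgroup.mem_subgroupOf.mpr hyQ⟩ with hy'
  have hc : y' ∈ commutator (QT T) := h.mem_commutator_of_mem_K y' hy
  intro e
  have h3 := Subgroup.mem_map_of_mem (QuotientGroup.mk' H) hc
  rw [_root_.commutator_def, Subgroup.map_commutator] at h3
  have h4 : QuotientGroup.mk' H y' ∈ commutator (QT T ⧸ H) := by
    rw [_root_.commutator_def]; exact Subgroup.commutator_mono le_top le_top h3
  rw [e, Subgroup.mem_bot, QuotientGroup.mk'_apply, QuotientGroup.eq_one_iff] at h4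
  replace h4 := hH _ h4
  have h5 : orderOf y' ∣ Nat.card K := by
    rw [← Subgroup.orderOf_coe y', ← Subgroup.orderOf_coe (y' : T)]
    exact Subgroup.orderOf_dvd_natCard K hy
  rcases (Nat.dvd_prime h.primeK).mp h5 with e1 | e1
  · exact hy1 (Subtype.ext (congrArg (fun z : QT T => ((z : T) : G)) (orderOf_eq_one_iff.mp e1)))
  · rw [e1] at h4; exact h.primeK.ne_one (by simpa using h4)

theorem sq_K_dvd : Nat.card K ^ 2 ∣ Nat.card (QT T →* ℂˣ) := by
  haveI := Fact.mk h.primeK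
  haveI := h.nil_QT
  set H := primeCompl (Nat.card K) (QT T) with hH
  obtain ⟨hmem, -⟩ := primeCompl_spec (Nat.card K) (Γ := QT T)
  have hsurj := QuotientGroup.mk'_surjective H
  have hne := h.commutator_quot_ne H fun x hx => (hmem x).mp hx
  refine (sq_dvd_card_hom (Nat.card K) (isPGroup_quotient (Nat.card K)) hne).trans ?_
  haveI : Finite ((QT T ⧸ H) →* ℂˣ) := by
    haveI : Finite (Abelianization (QT T ⧸ H)) := Quotient.finite _
    exact Nat.finite_of_card_ne_zero (by
      rw [Nat.card_congr Abelianization.lift, card_hom_units]; exact Nat.card_pos.ne')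
  exact Subgroup.card_dvd_of_injective (MonoidHom.compHom' (QuotientGroup.mk' H) :
      ((QT T ⧸ H) →* ℂˣ) →* (QT T →* ℂˣ)) fun a b e => MonoidHom.ext fun x => by
    obtain ⟨y, rfl⟩ := hsurj x
    exact DFunLike.congr_fun e y

theorem card_pos_linSet : 0 < (linSet T).card := by
  by_contra h0
  rw [not_lt, Nat.le_zero] at h0
  have h1 := h.sq_K_dvd
  rw [← h.card_linSet, h0, zero_add, Nat.dvd_one] at h1
  exact h.primeK.ne_one ((Nat.pow_eq_one.mp h1).resolve_right two_ne_zero)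

theorem two_W_le : 2 * Nat.card W ≤ (linSet T).card :=
  Nat.le_of_dvd h.card_pos_linSet h.two_W_dvd

theorem phi_class (ϑ₀ : QT T →* ℂˣ) : IsClassFunction T (phi T ϑ₀) := by
  intro x y
  simp only [phi, Pi.smul_apply, Finset.sum_apply, Pi.sub_apply, smul_eq_mul]
  congr 1
  refine Finset.sum_congr rfl fun ϑ _ => ?_
  rw [h.class_zeta _ x y, h.class_zeta _ x y]

theorem phi_vanish (ϑ₀ : QT T →* ℂˣ) (x : T) (hx : (x : G) ∉ coreSharp T) : phi T ϑ₀ x = 0 := by
  simp only [phi, Pi.smul_apply, Finset.sum_apply]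
  rw [Finset.sum_eq_zero fun ϑ _ => h.sub_vanish _ _ x hx, smul_zero]

variable {ϑ₀ : QT T →* ℂˣ} (h₀ : ϑ₀ ≠ 1)
include h₀

theorem psi_phi {ψ : G → ℂ} (hψ : IsPsi T ϑ₀ ψ) :
    classInner ψ (dmap T (phi T ϑ₀)) =
      ((1 - (Nat.card W : ℝ) / (linSet T).card : ℝ) : ℂ) := by
  classical
  have hM : ((linSet T).card : ℂ) ≠ 0 := Nat.cast_ne_zero.mpr h.card_pos_linSet.ne'
  rw [phi, dmap_smul, dmap_sum, classInner_smul_right, classInner_sum_right,
    Finset.sum_congr rfl (g := fun ϑ => if zeta T ϑ = zeta T ϑ₀ then (0 : ℂ) else 1) fun ϑ hϑ => ?_]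
  swap
  · split_ifs with e
    · rw [e, sub_self, show dmap T (0 : T → ℂ) = 0 from funext fun g => by simp [dmap, dadeIsometry]]
      simp [classInner]
    · exact hψ.one ϑ (mem_linSet.mp hϑ) e
  rw [Finset.sum_ite, Finset.sum_const_zero, zero_add, Finset.sum_const, nsmul_eq_mul, mul_one]
  have h1 := (linSet T).card_filter_add_card_filter_not (fun ϑ => zeta T ϑ = zeta T ϑ₀)
  rw [h.card_fibre h₀] at h1
  have h2 : (((linSet T).filter fun ϑ => ¬ zeta T ϑ = zeta T ϑ₀).card : ℂ) =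
      ((linSet T).card : ℂ) - Nat.card W := by
    conv_rhs => rw [← h1]
    push_cast; ring
  rw [h2, map_inv₀, map_natCast]
  push_cast
  field_simp

theorem phi_inner_zeta {ϑ' : QT T →* ℂˣ} (hϑ' : ϑ' ≠ 1) :
    classInner (phi T ϑ₀) (zeta T ϑ') =
      classInner (zeta T ϑ₀) (zeta T ϑ') - (Nat.card W : ℂ) / (linSet T).card := by
  classical
  have hM : ((linSet T).card : ℂ) ≠ 0 := Nat.cast_ne_zero.mpr h.card_pos_linSet.ne'
  have h1 : ∑ ϑ ∈ linSet T, classInner (zeta T ϑ) (zeta T ϑ') = (Nat.card W : ℂ) := by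
    rw [← h.sum_inner hϑ']; refine Finset.sum_congr ?_ fun _ _ => rfl
    ext; simp [linSet]
  rw [phi, classInner_smul_left, classInner_sum_left,
    Finset.sum_congr rfl fun ϑ _ => classInner_sub_left _ _ _, Finset.sum_sub_distrib, h1,
    Finset.sum_const, nsmul_eq_mul]
  field_simp

theorem phi_self :
    classInner (phi T ϑ₀) (phi T ϑ₀) = ((1 - (Nat.card W : ℝ) / (linSet T).card : ℝ) : ℂ) := by
  classical
  have hM : ((linSet T).card : ℂ) ≠ 0 := Nat.cast_ne_zero.mpr h.card_pos_linSet.ne'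
  have h1 : ∑ ϑ ∈ linSet T, classInner (phi T ϑ₀) (zeta T ϑ) = 0 := by
    rw [Finset.sum_congr rfl fun ϑ hϑ => h.phi_inner_zeta h₀ (mem_linSet.mp hϑ),
      Finset.sum_sub_distrib, Finset.sum_const, nsmul_eq_mul]
    have h2 : ∑ ϑ ∈ linSet T, classInner (zeta T ϑ₀) (zeta T ϑ) = (Nat.card W : ℂ) := by
      have h3 : ∑ ϑ ∈ linSet T, classInner (zeta T ϑ) (zeta T ϑ₀) = (Nat.card W : ℂ) := by
        rw [← h.sum_inner h₀]; refine Finset.sum_congr ?_ fun _ _ => rfl
        ext; simp [linSet]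
      rw [Finset.sum_congr rfl fun ϑ _ => (classInner_conj_symm (zeta T ϑ) (zeta T ϑ₀)).symm,
        ← map_sum, h3, map_natCast]
    rw [h2]; field_simp; ring
  nth_rw 2 [phi]
  rw [classInner_smul_right, classInner_sum_right,
    Finset.sum_congr rfl fun ϑ _ => classInner_sub_right _ _ _, Finset.sum_sub_distrib, h1, sub_zero,
    Finset.sum_const, nsmul_eq_mul, h.phi_inner_zeta h₀ h₀, classInner_irr_self (h.isIrr_zeta h₀),
    map_inv₀, map_natCast]
  push_cast
  field_simp

end TV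

end CfsgLib.Peterfalvi.Pair.TypeV
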