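import Cfsg.Agent.Lib.OddLocal.TypeP
import Cfsg.Agent.Lib.Peterfalvi.TameAll
import Cfsg.Agent.Lib.Peterfalvi.Pair.SideBasic

/-!
A maximal subgroup of type V and its partner of type II.
-/

set_option autoImplicit false
set_option linter.style.haveILetI false
set_option linter.unusedSectionVars false

namespace CfsgLib.Peterfalvi.Pair.TypeV

open Cfsg
open CfsgLib.BG.FixedLine (conj_mem_of_le_normalizer)
open scoped Pointwise

universe u

variable {G : Type u} [Group G] [Finite G] {S T U K W M E : Subgroup G}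

/-- The partner `S` of type II, with complement `U ⊔ K` of its core, and `T` of type V with
complement `W` of its derived subgroup. -/
structure TV (S T U K W : Subgroup G) : Prop where
  hG : IsMinSimpleOddOrder G
  hS : IsCoatom S
  hT : IsCoatom T
  dS : IsSigmaDecomposition S K U
  dT : IsSigmaDecomposition T W ⊥
  U_ne : U ≠ ⊥
  W_ne : W ≠ ⊥
  primeK : (Nat.card K).Prime
  starS : sigmaCore S ⊓ Subgroup.centralizer (K : Set G) = W
  starT : sigmaCore T ⊓ Subgroup.centralizer (W : Set G) = K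
  fitT : fittingHallOf T = sigmaCore T

theorem sigmaDecomposition_of (h : OddLocal.KappaData M K E U) (hc : IsCyclic K) :
    IsSigmaDecomposition M K U := by
  have hKM : K ≤ M := h.hall.1
  have hUN : K ≤ Subgroup.normalizer (U : Set G) := h.hKE.trans h.normalU
  have hKσ : K ≤ Subgroup.normalizer (sigmaCore M : Set G) :=
    hKM.trans (OddLocal.le_normalizer_piCoreOf _ M)
  refine ⟨hc, h.hall, ⟨h.hallU.1, sup_le hKM (OddLocal.piCoreOf_le _ M), ?_, fun m hm => ?_⟩, hUN⟩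
  · refine (Subgroup.eq_bot_iff_forall _).mpr fun x ⟨hxU, hxs⟩ => ?_
    have hxs' : x ∈ ((K ⊔ sigmaCore M : Subgroup G) : Set G) := hxs
    rw [Subgroup.coe_mul_of_left_le_normalizer_right _ _ hKσ] at hxs'
    obtain ⟨k, hk, s, hs, rfl⟩ := Set.mem_mul.mp hxs'
    have hsE : s ∈ E := by
      have := mul_mem (inv_mem (h.hKE hk)) (h.hUE hxU)
      rwa [inv_mul_cancel_left] at this
    obtain rfl : s = 1 := Subgroup.mem_bot.mp (h.hE.2.2.1 ▸ ⟨hsE, hs⟩)
    rw [mul_one] at hxU ⊢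
    by_contra hk1
    exact hk1 (Subgroup.mem_bot.mp (h.fpf k hk hk1 ▸
      ⟨hxU, Subgroup.mem_centralizer_singleton_iff.mpr rfl⟩))
  · obtain ⟨e, he, s, hs, rfl⟩ := h.hE.2.2.2 m hm
    rw [← h.sup_eq, ← SetLike.mem_coe, Subgroup.coe_mul_of_right_le_normalizer_left _ _ hUN] at he
    obtain ⟨a, ha, k, hk, rfl⟩ := Set.mem_mul.mp he
    exact ⟨a, ha, k * s, Subgroup.mul_mem_sup hk hs, mul_assoc _ _ _⟩

/-- A maximal subgroup with `U = ⊥` and nilpotent core gives the data. -/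
theorem exists_tv (hG : IsMinSimpleOddOrder G) (hT : IsCoatom T)
    (hKU : IsSigmaDecomposition T W ⊥) (hW : W ≠ ⊥) (hF : fittingHallOf T = sigmaCore T) :
    ∃ S U K : Subgroup G, TV S T U K W := by
  obtain ⟨S, E, U, hp⟩ := OddLocal.exists_kappa_partner hG hT hKU hW
  have hU : U ≠ ⊥ := hp.nonP1.resolve_left fun h => h rfl
  refine ⟨S, U, _,
    { hG := hG
      hS := hp.pdata.hM
      hT := hT
      dS := sigmaDecomposition_of hp.pdata hp.cyclic_star
      dT := hKU
      U_ne := hU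
      W_ne := hW
      primeK := hp.star_prime rfl
      starS := hp.dual
      starT := rfl
      fitT := hF }⟩

namespace TV

variable (h : TV S T U K W)
include h

theorem K_ne : K ≠ ⊥ := fun e => Nat.not_prime_one (by
  have := h.primeK
  rwa [e, Subgroup.card_bot] at this)

theorem kdS : OddLocal.KappaData S K (U ⊔ K) U :=
  OddLocal.kappaData_of_decomposition h.hG h.hS h.dS h.K_ne

theorem kdT : OddLocal.KappaData T W (⊥ ⊔ W) ⊥ :=
  OddLocal.kappaData_of_decomposition h.hG h.hT h.dT h.W_ne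

theorem derivedT : ⁅T, T⁆ = sigmaCore T :=
  OddLocal.derived_eq_core h.hG h.hT h.dT h.W_ne rfl

theorem nilQ : Group.IsNilpotent (sigmaCore T) := h.fitT ▸ fittingHallOf_isNilpotent T

theorem nilP : Group.IsNilpotent (sigmaCore S) := (h.kdS.U_action h.U_ne).2

theorem Q_le : sigmaCore T ≤ T := OddLocal.piCoreOf_le _ T

theorem W_le_T : W ≤ T := h.dT.hall.1

theorem W_compl : IsComplIn W (sigmaCore T) T := by
  have := (OddLocal.isCompl_UK h.hG h.hT h.dT).1
  rwa [bot_sup_eq] at this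

theorem W_le_P : W ≤ sigmaCore S := h.starS.ge.trans inf_le_left

theorem K_le_Q : K ≤ sigmaCore T := h.starT.ge.trans inf_le_left

theorem K_le_derived : K ≤ ⁅sigmaCore T, sigmaCore T⁆ := by
  have h1 := OddLocal.star_le_second_derived h.hG h.hT h.dT h.W_ne
  rwa [h.starT, h.derivedT] at h1

theorem Q_fix {w : G} (hw : w ∈ W) (hw1 : w ≠ 1) :
    sigmaCore T ⊓ Subgroup.centralizer ({w} : Set G) = K :=
  (h.kdT.action w hw hw1).trans h.starT

theorem P_fix {y : G} (hy : y ∈ K) (hy1 : y ≠ 1) :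
    sigmaCore S ⊓ Subgroup.centralizer ({y} : Set G) = W :=
  (h.kdS.action y hy hy1).trans h.starS

theorem derived_fix {y : G} (hy : y ∈ K) (hy1 : y ≠ 1) :
    ⁅S, S⁆ ⊓ Subgroup.centralizer ({y} : Set G) = W :=
  (OddLocal.derived_inf_centralizer h.hG h.hS h.dS h.K_ne hy hy1).trans h.starS

theorem wsn : IsSelfNormalizingCyclic K W :=
  h.starS ▸ OddLocal.selfNormalizing h.hG h.hS h.dS h.K_ne

theorem W_cyclic : IsCyclic W := h.dT.cyclic

theorem commute {y w : G} (hy : y ∈ K) (hw : w ∈ W) : y * w = w * y :=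
  h.wsn.2.2.2.1 y hy w hw

theorem odd_card (H : Subgroup G) : Odd (Nat.card H) :=
  h.hG.1.of_dvd_nat H.card_subgroup_dvd_card

theorem three_le {H : Subgroup G} (hH : H ≠ ⊥) : 3 ≤ Nat.card H := by
  obtain ⟨j, hj⟩ := h.odd_card H
  have := (Subgroup.one_lt_card_iff_ne_bot H).mpr hH
  omega

theorem hall_coprime : (Nat.card (sigmaCore T)).Coprime (Nat.card W) :=
  Nat.coprime_of_dvd fun r hr h1 h2 => (h.dT.hall.2.1 r hr h2).2.2.1
    (OddLocal.isPi_piCoreOf _ T r hr h1)

theorem K_coprime_W : (Nat.card K).Coprime (Nat.card W) :=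
  h.hall_coprime.coprime_dvd_left (Subgroup.card_dvd_of_le h.K_le_Q)

theorem card_T : Nat.card T = Nat.card W * Nat.card (sigmaCore T) :=
  OddLocal.card_eq_of_isComplIn h.W_compl

theorem P_coprime_U : (Nat.card (sigmaCore S)).Coprime (Nat.card U) :=
  Nat.coprime_of_dvd fun r hr h1 h2 => (h.kdS.hallU.2.1 r hr h2).2.2
    (OddLocal.isPi_piCoreOf _ S r hr h1)

theorem P_coprime_K : (Nat.card (sigmaCore S)).Coprime (Nat.card K) :=
  Nat.coprime_of_dvd fun r hr h1 h2 => (h.dS.hall.2.1 r hr h2).2.2.1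
    (OddLocal.isPi_piCoreOf _ S r hr h1)

theorem P_TI {x : G} (hx : x ∈ sigmaCore S) (hx1 : x ≠ 1) :
    Subgroup.centralizer ({x} : Set G) ≤ S := by
  refine centralizer_le_of_typeII h.hG h.hS
    (OddLocal.isTypeII_of h.hG h.hS h.dS h.K_ne h.U_ne) ?_
  exact ⟨(typeCore_eq_sigmaCore h.hG h.hS).symm ▸ hx, hx1⟩

theorem rankU {l : ℕ} (hl : l.Prime) (hd : l ∣ Nat.card U) : Cfsg.PRankLE l 2 U :=
  OddLocal.prankLE_mono h.kdS.hallU.1
    (OddLocal.prankLE_two_of_not_sigma h.hG h.hS hl (h.kdS.hallU.2.1 l hl hd).2.2)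

/-- The prime of `K` is at most half of every prime of `U` increased by one. -/
theorem le_prime_U {l : ℕ} (hl : l.Prime) (hd : l ∣ Nat.card U) : 2 * Nat.card K ≤ l + 1 := by
  classical
  haveI := Fact.mk hl
  set q := Nat.card K with hq
  set Ω : Subgroup G :=
    { carrier := {x | x ∈ U ∧ x ^ l = 1}
      one_mem' := ⟨one_mem _, one_pow l⟩
      mul_mem' := fun {a b} ha hb => ⟨mul_mem ha.1 hb.1, by
        haveI := h.kdS.comm
        rw [(show Commute a b from congrArg Subtype.val (mul_comm' (⟨a, ha.1⟩ : U) ⟨b, hb.1⟩)).mul_pow,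
          ha.2, hb.2, one_mul]⟩
      inv_mem' := fun {a} ha => ⟨inv_mem ha.1, by rw [inv_pow, ha.2, inv_one]⟩ }
  have hΩU : Ω ≤ U := fun x hx => hx.1
  have hle : Nat.card Ω ≤ l ^ 2 := by
    have h1 := h.rankU hl hd (Ω.subgroupOf U) ⟨⟨fun a b => by
      haveI := h.kdS.comm
      exact Subtype.ext (mul_comm' (a : U) (b : U))⟩⟩ fun a ha => Subtype.ext (by simpa using ha.2)
    rwa [Nat.card_congr (Subgroup.subgroupOfEquivOfLe hΩU).toEquiv] at h1
  have hΩ1 : Ω ≠ ⊥ := by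
    obtain ⟨⟨x, hx⟩, hxo⟩ := exists_prime_orderOf_dvd_card' (G := U) l hd
    intro e
    have hmem : x ∈ Ω := ⟨hx, by
      have := pow_orderOf_eq_one (⟨x, hx⟩ : U)
      rw [hxo] at this
      exact congrArg Subtype.val this⟩
    rw [e, Subgroup.mem_bot] at hmem
    subst hmem
    exact hl.ne_one (by rw [← hxo]; exact orderOf_one)
  have hp : IsPGroup l Ω := fun x => ⟨1, Subtype.ext (by rw [pow_one, SubmonoidClass.coe_pow]; exact x.2.2)⟩
  obtain ⟨i, hi⟩ := hp.exists_card_eq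
  have hi0 : i ≠ 0 := fun e => hΩ1 (Subgroup.card_eq_one.mp (by rw [hi, e, pow_zero]))
  have hi2 : i ≤ 2 := (Nat.pow_le_pow_iff_right hl.one_lt).mp (hi ▸ hle)
  have hmod : Nat.card Ω ≡ 1 [MOD q] := card_modEq_one_of_free h.primeK
    (fun k hk => CfsgLib.BG.FixedLine.mem_normalizer_of_conj fun x hx =>
      ⟨conj_mem_of_le_normalizer (h.dS.normal hk) x hx.1, by rw [conj_pow, hx.2, mul_one, mul_inv_cancel]⟩)
    fun k hk hk1 x hx hc => Subgroup.mem_bot.mp (h.kdS.fpf k hk hk1 ▸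
      ⟨hx.1, Subgroup.mem_centralizer_singleton_iff.mpr hc.symm⟩)
  have hqd : q ∣ l ^ i - 1 := (Nat.modEq_iff_dvd' (Nat.one_le_pow _ _ hl.pos)).mp (hi ▸ hmod).symm
  have hq2 : Odd q := h.odd_card K
  have hl2 : Odd l := (h.odd_card U).of_dvd_nat hd
  obtain ⟨a, ha⟩ := hl2
  obtain ⟨b, hb⟩ := hq2
  have hkey : q ∣ a ∨ q ∣ a + 1 := by
    have h2 : ¬ q ∣ 2 := fun h2 => by
      have := Nat.le_of_dvd two_pos h2
      have := h.three_le h.K_ne
      omega
    rcases (by omega : i = 1 ∨ i = 2) with rfl | rfl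
    · rw [pow_one, ha, Nat.add_sub_cancel] at hqd
      exact Or.inl ((h.primeK.dvd_mul.mp hqd).resolve_left h2)
    · rw [ha, show (2 * a + 1) ^ 2 - 1 = 2 * (2 * (a * (a + 1))) by
        rw [Nat.sub_eq_of_eq_add]; ring] at hqd
      exact h.primeK.dvd_mul.mp
        (((h.primeK.dvd_mul.mp (((h.primeK.dvd_mul.mp hqd).resolve_left h2))).resolve_left h2))
  rcases hkey with hk | hk
  · have := Nat.le_of_dvd (by have := hl.two_le; omega) hk
    omega
  · have := Nat.le_of_dvd (by omega) hk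
    omega

end TV

end CfsgLib.Peterfalvi.Pair.TypeV
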