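import Cfsg.Agent.Lib.Peterfalvi.Pair.TypeV.Restrict
import Cfsg.Agent.Lib.Char.CoherenceLayer
import Cfsg.Agent.Lib.Char.CoherenceIrr
import Cfsg.Agent.Lib.Char.SibleyTI

/-!
The coefficients of the restriction on the characters of a central layer.
-/

set_option autoImplicit false
set_option linter.style.haveILetI false
set_option linter.unusedSectionVars false

namespace CfsgLib.Peterfalvi.Pair.TypeV

open Cfsg CfsgLib.Char CfsgLib.Peterfalvi
open scoped ComplexConjugate CfsgLib.Char Pointwise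

universe u

variable {G : Type u} [Group G] [Fintype G] {S T U K W : Subgroup G} [Fintype T] [Fintype (QT T)]

/-- An irreducible character of the core, trivial on `N0` and nontrivial on `N1`. -/
def InLayer (N0 N1 : Subgroup T) (θ : QT T → ℂ) : Prop :=
  IsIrrCharacter (QT T) θ ∧ (∀ a : QT T, (a : T) ∈ N0 → θ a = θ 1) ∧
    ∃ m : QT T, (m : T) ∈ N1 ∧ θ m ≠ θ 1

/-- The hypotheses on a layer. -/
structure Layer (T K W : Subgroup G) (N0 N1 : Subgroup T) : Prop where
  le : N0 ≤ N1
  le_Q : N1 ≤ QT T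
  central : ∀ x ∈ N1, ∀ y ∈ QT T, x * y * x⁻¹ * y⁻¹ ∈ N0
  fix : ∀ w : T, (w : G) ∈ W → w ≠ 1 → ∀ x ∈ N1, x * w * x⁻¹ * w⁻¹ ∈ N0 → x ∈ N0
  pow : ∃ m : ℕ, N1.relIndex (QT T) = Nat.card K ^ m

namespace TV

variable (h : TV S T U K W) {N0 N1 : Subgroup T} [N0.Normal] [N1.Normal] (hN : Layer T K W N0 N1)
include h hN

theorem layer_mul {θ : QT T → ℂ} (hθ : InLayer N0 N1 θ) :
    (∀ x : QT T, (x : T) ∈ N1 → ∀ y, θ (y * x) * θ 1 = θ y * θ x) ∧
      ∃ k : ℕ, θ 1 = ((Nat.card K ^ k : ℕ) : ℂ) ∧ Nat.card K ^ (2 * k) ∣ N1.relIndex (QT T) := by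
  haveI : (N0.subgroupOf (QT T)).Normal := Subgroup.normal_subgroupOf
  obtain ⟨hmul, e, he, -, hed, hee⟩ := Descent.central_layer (N0.subgroupOf (QT T))
    (N1.subgroupOf (QT T)) (fun x hx => Subgroup.mem_subgroupOf.mpr (hN.le (Subgroup.mem_subgroupOf.mp hx)))
    (fun x hx y => Subgroup.mem_subgroupOf.mpr (by
      push_cast; exact hN.central _ (Subgroup.mem_subgroupOf.mp hx) _ y.2))
    hθ.1 (fun a ha => hθ.2.1 a (Subgroup.mem_subgroupOf.mp ha))
  refine ⟨fun x hx y => hmul x (Subgroup.mem_subgroupOf.mpr hx) y, ?_⟩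
  obtain ⟨m, hm⟩ := hN.pow
  change e ∣ N1.relIndex (QT T) at hed
  change e * e ≤ N1.relIndex (QT T) at hee
  rw [hm] at hed hee ⊢
  obtain ⟨k, -, rfl⟩ := (Nat.dvd_prime_pow h.primeK).mp hed
  rw [← pow_add, ← two_mul] at hee
  exact ⟨k, he, pow_dvd_pow _ ((Nat.pow_le_pow_iff_right h.primeK.one_lt).mp hee)⟩

theorem layer_inertia {θ : QT T → ℂ} (hθ : InLayer N0 N1 θ) : inertia (QT T) θ = QT T := by
  classical
  have hθc := isClassFunction_of_isCharacter (isCharacter_of_isIrr hθ.1)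
  refine le_antisymm (fun t ht => ?_) (le_inertia _ hθc)
  obtain ⟨n, hn, w, hw, rfl⟩ := h.exists_decomp t
  by_contra hne
  have hw1 : w ≠ 1 := fun e => hne (by rw [e, mul_one]; exact hn)
  have hwI : w ∈ inertia (QT T) θ := by
    have := (inertia (QT T) θ).mul_mem ((inertia (QT T) θ).inv_mem (le_inertia _ hθc hn)) ht
    rwa [inv_mul_cancel_left] at this
  obtain ⟨hmul, k, hk, -⟩ := h.layer_mul hN hθ
  haveI : (N0.subgroupOf N1).Normal := Subgroup.normal_subgroupOf
  set π := QuotientGroup.mk' (N0.subgroupOf N1)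
  have hcomm : ∀ a b : N1, π a * π b = π b * π a := fun a b => by
    rw [← commutatorElement_eq_one_iff_mul_comm, ← map_commutatorElement]
    refine (QuotientGroup.eq_one_iff _).mpr (Subgroup.mem_subgroupOf.mpr ?_)
    rw [commutatorElement_def]; push_cast
    exact hN.central _ a.2 _ (hN.le_Q b.2)
  let c : N1 → N1 := fun x =>
    ⟨(x : T)⁻¹ * (w * x * w⁻¹), N1.mul_mem (N1.inv_mem x.2) ((Subgroup.Normal.conj_mem (inferInstance : N1.Normal)) _ x.2 w)⟩
  let f : N1 →* N1 ⧸ N0.subgroupOf N1 := MonoidHom.mk' (fun x => π (c x)) fun a b => by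
    rw [show c (a * b) = b⁻¹ * c a * b * c b from Subtype.ext (by simp only [c]; push_cast; group)]
    rw [map_mul, map_mul, map_mul, mul_assoc (π b⁻¹), hcomm (c a) b, ← mul_assoc, ← map_mul π b⁻¹,
      inv_mul_cancel, map_one, one_mul]
  have hker : f.ker = N0.subgroupOf N1 := by
    refine le_antisymm (fun x hx => Subgroup.mem_subgroupOf.mpr (hN.fix w hw hw1 _ x.2 ?_)) ?_
    · have h1 := Subgroup.mem_subgroupOf.mp ((QuotientGroup.eq_one_iff _).mp (MonoidHom.mem_ker.mp hx))
      have h2 := (Subgroup.Normal.conj_mem (inferInstance : N0.Normal)) _ (N0.inv_mem h1) (x : T)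
      simp only [c] at h2
      rwa [show (x : T) * ((x : T)⁻¹ * (w * x * w⁻¹))⁻¹ * (x : T)⁻¹ = x * w * (x : T)⁻¹ * w⁻¹ by group] at h2
    · intro x hx
      refine MonoidHom.mem_ker.mpr ((QuotientGroup.eq_one_iff _).mpr (Subgroup.mem_subgroupOf.mpr ?_))
      exact N0.mul_mem (N0.inv_mem (Subgroup.mem_subgroupOf.mp hx))
        ((Subgroup.Normal.conj_mem (inferInstance : N0.Normal)) _ (Subgroup.mem_subgroupOf.mp hx) w)
  have hsurj : Function.Surjective f := by
    rw [← MonoidHom.range_eq_top]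
    refine Subgroup.eq_top_of_card_eq _ ?_
    rw [← Subgroup.index_ker, hker, Subgroup.index_eq_card]
  obtain ⟨m, hm, hm1⟩ := hθ.2.2
  refine hm1 ?_
  obtain ⟨y, hy⟩ := hsurj (π ⟨m, hm⟩)
  have ha := Subgroup.mem_subgroupOf.mp (QuotientGroup.eq.mp (hy : (QuotientGroup.mk (c y) : N1 ⧸ _) = _))
  simp only [Subgroup.coe_mul, Subgroup.coe_inv] at ha
  set y' : QT T := ⟨y, hN.le_Q y.2⟩
  set z : QT T := ⟨w * y * w⁻¹, (normal_QT T).conj_mem _ (hN.le_Q y.2) w⟩ with hz
  set a : QT T := ⟨((c y : N1) : T)⁻¹ * m, hN.le_Q (hN.le ha)⟩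
  have hθ1 : θ 1 ≠ 0 := by
    rw [hk]; exact Nat.cast_ne_zero.mpr (pow_ne_zero _ Nat.card_pos.ne')
  have e : m = y'⁻¹ * z * a := Subtype.ext (by simp only [y', z, a, c]; push_cast; group)
  have hzy : θ z = θ y' := (mem_inertia_iff (QT T)).mp hwI y'
  have hz1 : (z : T) ∈ N1 := (Subgroup.Normal.conj_mem (inferInstance : N1.Normal)) _ y.2 w
  have h1 : θ (y'⁻¹ * z) * θ 1 = θ 1 * θ 1 := by
    rw [hmul z hz1, hzy, ← hmul y' y.2, inv_mul_cancel]
  have h2 := hmul a (hN.le ha) (y'⁻¹ * z)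
  rw [hθ.2.1 a ha, ← e, h1] at h2
  exact mul_right_cancel₀ hθ1 h2

theorem layer_irr {θ : QT T → ℂ} (hθ : InLayer N0 N1 θ) :
    IsIrrCharacter T (indFun (QT T) θ) := by
  refine isIrr_of_norm_one (isCharacter_indFun _ (isCharacter_of_isIrr hθ.1)) ?_
  classical
  rw [classInner_indFun_indFun (QT T) hθ.1 hθ.1, if_pos (self_mem_orbit _ _), h.layer_inertia hN hθ,
    div_self (Nat.cast_ne_zero.mpr Nat.card_pos.ne')]

theorem layer_mem {θ : QT T → ℂ} (hθ : InLayer N0 N1 θ) :
    indFun (QT T) θ ∈ inducedIrrAbove (QT T) N0 \ inducedIrrAbove (QT T) N1 := by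
  obtain ⟨m, hm, hne⟩ := hθ.2.2
  refine ⟨⟨θ, hθ.1, fun e => hne (by rw [e]), hθ.2.1, rfl⟩, ?_⟩
  rintro ⟨η, hη, -, hker, he⟩
  obtain ⟨g, hg⟩ := (mem_orbit (QT T)).mp ((Descent.indFun_eq_iff (QT T) hη hθ.1).mp he)
  refine hne ?_
  rw [← hg, conjBy_apply, conjBy_apply_one]
  exact hker _ ((Subgroup.Normal.conj_mem (inferInstance : N1.Normal)) _ hm g)

omit h hN in
theorem layer_of_mem {φ : T → ℂ}
    (hφ : φ ∈ inducedIrrAbove (QT T) N0 \ inducedIrrAbove (QT T) N1) :
    ∃ θ, InLayer N0 N1 θ ∧ φ = indFun (QT T) θ := by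
  obtain ⟨⟨θ, h0, h1, h2, rfl⟩, hnot⟩ := hφ
  refine ⟨θ, ⟨h0, h2, ?_⟩, rfl⟩
  by_contra hcon
  push Not at hcon
  exact hnot ⟨θ, h0, h1, hcon, rfl⟩

theorem layer_props {φ : T → ℂ}
    (hφ : φ ∈ inducedIrrAbove (QT T) N0 \ inducedIrrAbove (QT T) N1) :
    AChar (coreSharp T) T φ := by
  obtain ⟨θ, hθ, rfl⟩ := layer_of_mem hφ
  have hi := h.layer_irr hN hθ
  refine ⟨hi, fun e => ?_, fun x hx1 hx => indFun_notMem_of_normal _ _ fun hc =>
    hx (h.mem_coreSharp.mpr ⟨hc, hx1⟩)⟩
  have hone := irr_real_of_odd (h.odd_card T) ⟨_, hi⟩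
    fun g => Complex.conj_eq_iff_im.mp (congrFun e g)
  have h1 := congrFun hone 1
  obtain ⟨-, k, hk, -⟩ := h.layer_mul hN hθ
  simp only [indFun_one, h.index_QT, hk, ← Nat.cast_mul] at h1
  have h2 : Nat.card W * Nat.card K ^ k = 1 := Nat.cast_eq_one.mp h1
  have := h.three_le h.W_ne
  have := (mul_eq_one.mp h2).1
  omega

theorem layer_span {α : T → ℂ}
    (hα : α ∈ zspanOn (inducedIrrAbove (QT T) N0 \ inducedIrrAbove (QT T) N1) {1}ᶜ) :
    IsGeneralizedCharacter T α ∧ ∀ x : T, (x : G) ∉ coreSharp T → α x = 0 := by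
  obtain ⟨hαz, h1⟩ := Coherence.mem_zspanOn_iff.mp hα
  have : IsGeneralizedCharacter T α ∧ ∀ x : T, x ∉ QT T → α x = 0 := by
    clear h1 hα
    induction hαz using Submodule.span_induction with
    | mem φ hφ =>
      exact ⟨isGeneralized_of_isIrr (h.layer_props hN hφ).1, fun x hx =>
        (h.layer_props hN hφ).2.2 x (fun e => hx (e ▸ (QT T).one_mem)) fun hc => hx (h.mem_coreSharp.mp hc).1⟩
    | zero => exact ⟨isGeneralized_zero, fun _ _ => rfl⟩
    | add a b _ _ ha hb =>
      exact ⟨isGeneralized_add ha.1 hb.1, fun x hx => by rw [Pi.add_apply, ha.2 x hx, hb.2 x hx, add_zero]⟩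
    | smul n a _ ha =>
      refine ⟨?_, fun x hx => by rw [Pi.smul_apply, ha.2 x hx, smul_zero]⟩
      rw [← Int.cast_smul_eq_zsmul ℂ]
      exact isGeneralized_intCast_smul ha.1 n
  refine ⟨this.1, fun x hx => ?_⟩
  by_cases hx1 : x = 1
  · rw [hx1, h1]
  · exact this.2 x fun hc => hx (h.mem_coreSharp.mpr ⟨hc, hx1⟩)

theorem layer_coherent (hne : ∃ θ : QT T → ℂ, InLayer N0 N1 θ) :
    IsCoherent (inducedIrrAbove (QT T) N0 \ inducedIrrAbove (QT T) N1) {1}ᶜ (dmap T) := by
  classical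
  set X := inducedIrrAbove (QT T) N0 \ inducedIrrAbove (QT T) N1 with hX
  have hspec : ∀ φ, ∃ μ : G → ℂ, φ ∈ X → DadeMu (coreSharp T) T (supportR T) φ μ := fun φ => by
    by_cases hφ : φ ∈ X
    · exact (exists_dadeMu h.dade (h.layer_props hN hφ)).imp fun _ hμ _ => hμ
    · exact ⟨0, fun h' => absurd h' hφ⟩
  choose μ hμ using hspec
  have hpair : ∀ φ ∈ X, μ φ ≠ -conjFun (μ φ) := by
    intro φ hφ e
    obtain ⟨h1, h2, -⟩ := hμ φ hφ
    have h3 := classInner_irr_self h1
    nth_rw 2 [e] at h3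
    rw [classInner_neg_right, classInner_irr_ne h1 (SibleyTI.irr_conj h1) h2.symm] at h3
    norm_num at h3
  have hcl : ∀ φ ∈ X, conjFun φ ∈ X := by
    intro φ hφ
    obtain ⟨θ, ⟨h0, h1, m, hm, h2⟩, rfl⟩ := layer_of_mem hφ
    rw [Descent.conjFun_indFun]
    exact h.layer_mem hN ⟨SibleyTI.irr_conj h0, fun a ha => by simp only [conjFun, h1 a ha],
      m, hm, fun e => h2 ((starRingEnd ℂ).injective e)⟩
  have hS : IsCoherenceSystem X (dmap T) (fun φ => {μ φ, -conjFun (μ φ)}) :=
    { nonempty := hne.elim fun θ hθ => ⟨_, h.layer_mem hN hθ⟩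
      isCharacter := fun χ hχ => isCharacter_of_isIrr (h.layer_props hN hχ).1
      conj_mem := hcl
      conj_ne := fun χ hχ => (h.layer_props hN hχ).2.1
      isometry := ⟨fun α _ β _ => dmap_add α β, fun α _ n => by
          rw [← Int.cast_smul_eq_zsmul ℂ, dmap_smul, Int.cast_smul_eq_zsmul],
        fun α hα β hβ => dade_isometry h.dade
          (isClassFunction_of_isGeneralized (h.layer_span hN hα).1) (h.layer_span hN hα).2
          (isClassFunction_of_isGeneralized (h.layer_span hN hβ).1),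
        fun α hα => h.dmap_gen (h.layer_span hN hα).1 (h.layer_span hN hα).2⟩
      map_one := fun α _ => dade_apply_one h.dade α
      orthogonal := fun χ hχ φ hφ hne => classInner_irr_ne (h.layer_props hN hχ).1
        (h.layer_props hN hφ).1 hne
      orthonormal := fun χ hχ => by
        obtain ⟨h1, h2, -⟩ := hμ χ hχ
        have h1' := SibleyTI.irr_conj h1
        simp only [Finset.mem_insert, Finset.mem_singleton]
        rintro a (rfl | rfl) b (rfl | rfl)
        · rw [if_pos rfl, classInner_irr_self h1]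
        · rw [if_neg (hpair χ hχ), classInner_neg_right, classInner_irr_ne h1 h1' h2.symm, neg_zero]
        · rw [if_neg (hpair χ hχ).symm, classInner_neg_left, classInner_irr_ne h1' h1 h2, neg_zero]
        · rw [if_pos rfl, classInner_neg_left, classInner_neg_right, neg_neg, classInner_irr_self h1']
      virtual := fun χ hχ => by
        simp only [Finset.mem_insert, Finset.mem_singleton]
        rintro a (rfl | rfl)
        · exact isGeneralized_of_isIrr (hμ χ hχ).1
        · exact isGeneralized_neg (isGeneralized_of_isIrr (SibleyTI.irr_conj (hμ χ hχ).1))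
      sum_eq := fun χ hχ => by
        rw [Finset.sum_pair (hpair χ hχ)]
        exact (hμ χ hχ).2.2.trans (sub_eq_add_neg _ _)
      disjoint := fun χ hχ φ hφ ho1 ho2 => by
        have e1 : φ ≠ χ := fun e => by
          rw [e, classInner_irr_self (h.layer_props hN hχ).1] at ho1; exact one_ne_zero ho1
        have e2 : φ ≠ conjFun χ := fun e => by
          rw [e, classInner_irr_self (SibleyTI.irr_conj (h.layer_props hN hχ).1)] at ho2
          exact one_ne_zero ho2
        obtain ⟨d1, d2⟩ := dadeMu_disjoint h.dade (h.layer_props hN hχ) (h.layer_props hN hφ) e1 e2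
          (hμ χ hχ) (hμ φ hφ)
        have i1 := (hμ χ hχ).1
        have i2 := (hμ φ hφ).1
        have i1' := SibleyTI.irr_conj i1
        have i2' := SibleyTI.irr_conj i2
        have d3 : conjFun (μ φ) ≠ μ χ := fun e => d2 (by rw [← e, Coherence.conjFun_conjFun])
        have d4 : conjFun (μ φ) ≠ conjFun (μ χ) := fun e => d1 (by
          rw [← Coherence.conjFun_conjFun (μ φ), e, Coherence.conjFun_conjFun])
        simp only [Finset.mem_insert, Finset.mem_singleton]
        rintro a (rfl | rfl) b (rfl | rfl) <;>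
          simp only [classInner_neg_left, classInner_neg_right, classInner_irr_ne i2 i1 d1,
            classInner_irr_ne i2 i1' d2, classInner_irr_ne i2' i1 d3, classInner_irr_ne i2' i1' d4,
            classInner_irr_ne i1 i2 d1.symm, classInner_irr_ne i1 i2' d3.symm,
            classInner_irr_ne i1' i2 d2.symm, classInner_irr_ne i1' i2' d4.symm, neg_zero] }
  have h3 : 3 ≤ Nat.card K := h.three_le h.K_ne
  refine Descent.coherent_layer (QT T) h.primeK h3 N0 N1 hN.le hN.le_Q
    (fun φ hφ => (h.layer_props hN hφ).1) hS (fun φ hφ => ?_) (h.index_QT ▸ h.K_coprime_W)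
  obtain ⟨θ, hθ, rfl⟩ := layer_of_mem hφ
  obtain ⟨-, k, hk, hkd⟩ := h.layer_mul hN hθ
  exact ⟨k, by rw [indFun_one, hk, Nat.cast_mul], hkd⟩

/-- The coefficients are proportional to the degrees on a layer missing the signed character. -/
theorem engine (hlt : Nat.card K < Nat.card W) {ϑ₀ : QT T →* ℂˣ} (h₀ : ϑ₀ ≠ 1) {ψ : G → ℂ}
    (hψ : IsPsi T ϑ₀ ψ) (hζ : ∀ m : QT T, (m : T) ∈ N1 → ϑ₀ m = 1) {θ θ' : QT T → ℂ}
    (hθ : InLayer N0 N1 θ) (hθ' : InLayer N0 N1 θ') :
    θ' 1 * classInner (resZero T ψ) θ = θ 1 * classInner (resZero T ψ) θ' := by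
  classical
  obtain ⟨-, τ₁, hτ, hag⟩ := h.layer_coherent hN ⟨θ, hθ⟩
  set X := inducedIrrAbove (QT T) N0 \ inducedIrrAbove (QT T) N1 with hX
  have hirr : ∀ ξ ∈ X, IsIrrCharacter T ξ := fun ξ hξ => (h.layer_props hN hξ).1
  have hψc := isClassFunction_of_isGeneralized hψ.gen
  have hψ1 : ψ 1 ≠ 0 ∧ conj (ψ 1) = ψ 1 := by
    rcases hψ.signed with hs | hs
    · obtain ⟨d, hd⟩ := exists_nat_degree (isCharacter_of_isIrr hs)
      exact ⟨irr_degree_ne_zero hs, by rw [hd, map_natCast]⟩
    · obtain ⟨d, hd⟩ := exists_nat_degree (isCharacter_of_isIrr hs)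
      refine ⟨fun e => irr_degree_ne_zero hs (by rw [Pi.neg_apply, e, neg_zero]), ?_⟩
      rw [Pi.neg_apply] at hd
      rw [← neg_neg (ψ 1), hd, map_neg, map_natCast]
  -- the layer avoids the distinguished character
  have havoid : ∀ η, InLayer N0 N1 η → indFun (QT T) η ≠ zeta T ϑ₀ ∧
      indFun (QT T) η ≠ conjFun (zeta T ϑ₀) := by
    intro η hη
    have key : ∀ ϑ : QT T →* ℂˣ, (∀ m : QT T, (m : T) ∈ N1 → ϑ m = 1) →
        indFun (QT T) η ≠ zeta T ϑ := by
      intro ϑ hϑ e
      obtain ⟨m, hm, hne⟩ := hη.2.2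
      obtain ⟨g, hg⟩ := (mem_orbit (QT T)).mp ((Descent.indFun_eq_iff (QT T) (isIrr_lf ϑ) hη.1).mp e)
      refine hne ?_
      rw [← hg, conjBy_apply, conjBy_apply_one]
      show ((ϑ _ : ℂˣ) : ℂ) = ((ϑ 1 : ℂˣ) : ℂ)
      rw [map_one, hϑ _ ((Subgroup.Normal.conj_mem (inferInstance : N1.Normal)) _ hm g)]
    refine ⟨key ϑ₀ hζ, ?_⟩
    rw [h.zeta_conj]
    exact key _ fun m hm => by rw [MonoidHom.inv_apply, hζ m hm, inv_one]
  have horth : ∀ η, InLayer N0 N1 η → classInner (τ₁ (indFun (QT T) η)) ψ = 0 := by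
    intro η hη
    set ξ := indFun (QT T) η with hξ
    have hξX : ξ ∈ X := h.layer_mem hN hη
    have hξc : conjFun ξ ∈ X := by
      rw [hξ, Descent.conjFun_indFun]
      obtain ⟨h0, h1, m, hm, h2⟩ := hη
      exact h.layer_mem hN ⟨SibleyTI.irr_conj h0, fun a ha => by simp only [conjFun, h1 a ha],
        m, hm, fun e => h2 ((starRingEnd ℂ).injective e)⟩
    by_contra hne
    obtain ⟨c, hc2, hc⟩ : ∃ c : ℂ, c * conj c = 1 ∧ τ₁ ξ = c • ψ := by
      obtain ⟨ε, hε, k, hk⟩ := Coherence.signed_of_image hirr hτ hξX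
      rcases hψ.signed with hs | hs
      · refine ⟨ε, by rcases hε with e | e <;> simp [e], ?_⟩
        rw [hk] at hne ⊢
        rw [classInner_smul_left, classInner_irr k.2 hs] at hne
        split_ifs at hne with e
        · rw [e]
        · simp at hne
      · refine ⟨-ε, by rcases hε with e | e <;> simp [e], ?_⟩
        rw [hk] at hne ⊢
        have hne' : classInner (k : G → ℂ) (-ψ) ≠ 0 := fun e => hne (by
          rw [classInner_smul_left, ← neg_neg ψ, classInner_neg_right, e, neg_zero, mul_zero])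
        rw [classInner_irr k.2 hs] at hne'
        split_ifs at hne' with e
        · rw [e, smul_neg, neg_smul]
        · simp at hne'
    set v := τ₁ (conjFun ξ) with hv
    have hc0 : c ≠ 0 := fun e => by simp [e] at hc2
    have hne' : conjFun ξ ≠ ξ := (h.layer_props hN hξX).2.1
    have hvψ : classInner v ψ = 0 := by
      have h1 := hτ.2.2.1 _ (Coherence.subset_zspan hξc) _ (Coherence.subset_zspan hξX)
      rw [← hv, hc, classInner_smul_right, classInner_irr_ne (hirr _ hξc) (hirr _ hξX) hne'] at h1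
      exact (mul_eq_zero.mp h1).resolve_left (by simpa using hc0)
    have hdiff : ξ - conjFun ξ ∈ zspanOn X {1}ᶜ := Coherence.sub_mem_zspanOn hξX hξc
      (Coherence.conjFun_one (isCharacter_of_isIrr (hirr _ hξX))).symm
    have hlhs : dmap T (ξ - conjFun ξ) = c • ψ - v := by
      rw [← hag _ hdiff, Coherence.map_sub_of_isometry hτ (Coherence.subset_zspan hξX)
        (Coherence.subset_zspan hξc) (Coherence.zspan_zsmul _ (Coherence.subset_zspan hξc)), hc]
    have h0 : classInner (dmap T (ξ - conjFun ξ)) (ψ - conjFun ψ) = 0 := by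
      obtain ⟨a1, a2⟩ := havoid η hη
      have hz := h.isIrr_zeta h₀
      rw [← hψ.eq, show dmap T (ξ - conjFun ξ) = dadeIsometry _ _ _ _ from rfl,
        show dmap T (zeta T ϑ₀ - conjFun (zeta T ϑ₀)) = dadeIsometry _ _ _ _ from rfl,
        dade_isometry h.dade (isClassFunction_of_isGeneralized (h.layer_span hN hdiff).1)
          (h.layer_span hN hdiff).2 (sub_conj_props (h.achar h₀)).2.1,
        classInner_sub_left, classInner_sub_right, classInner_sub_right,
        classInner_irr_ne (hirr _ hξX) hz a1, classInner_irr_ne (hirr _ hξX) (SibleyTI.irr_conj hz) a2,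
        classInner_irr_ne (hirr _ hξc) hz (fun e => a2 (by rw [← e, Coherence.conjFun_conjFun])),
        classInner_irr_ne (hirr _ hξc) (SibleyTI.irr_conj hz) (fun e => a1 (by
          show ξ = _
          rw [← Coherence.conjFun_conjFun ξ, e, Coherence.conjFun_conjFun]))]
      norm_num
    rw [hlhs, classInner_sub_left, classInner_sub_right, classInner_sub_right, classInner_smul_left,
      classInner_smul_left, hψ.self, hψ.orth, hvψ] at h0
    have hvψ' : classInner v (conjFun ψ) = -c := by linear_combination h0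
    have hvv : classInner v v = 1 := by
      rw [hv, hτ.2.2.1 _ (Coherence.subset_zspan hξc) _ (Coherence.subset_zspan hξc),
        classInner_irr_self (hirr _ hξc)]
    have hvz : v + c • conjFun ψ = 0 := by
      refine eq_zero_of_classInner_self ?_
      rw [classInner_add_left, classInner_add_right, classInner_add_right, classInner_smul_right,
        classInner_smul_left, classInner_smul_left, classInner_smul_right, hvv, hvψ', hψ.conj_self,
        ← classInner_conj_symm v (conjFun ψ), hvψ', map_neg]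
      linear_combination -hc2
    have h1 := congrFun hlhs 1
    have h2 := congrFun hvz 1
    simp only [dade_apply_one h.dade, Pi.sub_apply, Pi.smul_apply, smul_eq_mul] at h1
    simp only [Pi.add_apply, Pi.smul_apply, smul_eq_mul, conjFun, hψ1.2, Pi.zero_apply] at h2
    have h3 : c * ψ 1 = 0 := by linear_combination (-1/2 : ℂ) * h1 + (1/2 : ℂ) * h2
    exact mul_ne_zero hc0 hψ1.1 h3
  -- the difference
  obtain ⟨-, k, hk, -⟩ := h.layer_mul hN hθ
  obtain ⟨-, k', hk', -⟩ := h.layer_mul hN hθ'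
  set b := Nat.card K ^ k
  set a := Nat.card K ^ k'
  have hξ := Coherence.subset_zspan (h.layer_mem hN hθ)
  have hξ' := Coherence.subset_zspan (h.layer_mem hN hθ')
  set α := (a : ℤ) • indFun (QT T) θ - (b : ℤ) • indFun (QT T) θ' with hα
  have hαX : α ∈ zspanOn X {1}ᶜ := Coherence.mem_zspanOn_iff.mpr
    ⟨Coherence.zspan_sub (Coherence.zspan_zsmul _ hξ) (Coherence.zspan_zsmul _ hξ'), by
      simp [hα, indFun_one, hk, hk']; ring⟩
  have hA : classInner (dmap T α) ψ = 0 := by
    rw [← hag α hαX, hα, Coherence.map_sub_of_isometry hτ (Coherence.zspan_zsmul _ hξ)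
      (Coherence.zspan_zsmul _ hξ') (Coherence.zspan_zsmul _ (Coherence.zspan_zsmul _ hξ')),
      hτ.2.1 _ hξ, hτ.2.1 _ hξ', ← Int.cast_smul_eq_zsmul ℂ, ← Int.cast_smul_eq_zsmul ℂ (b : ℤ),
      classInner_sub_left, classInner_smul_left, classInner_smul_left, horth θ hθ, horth θ' hθ']
    ring
  rw [h.dmap_eq_ind hlt (isClassFunction_of_isGeneralized (h.layer_span hN hαX).1) (h.layer_span hN hαX).2,
    frobenius_reciprocity T α hψc, hα, ← Int.cast_smul_eq_zsmul ℂ, ← Int.cast_smul_eq_zsmul ℂ (b : ℤ),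
    classInner_sub_left, classInner_smul_left, classInner_smul_left,
    frobenius_reciprocity (QT T) θ (isClassFunction_restrict T hψc),
    frobenius_reciprocity (QT T) θ' (isClassFunction_restrict T hψc)] at hA
  have hB := congrArg (starRingEnd ℂ) hA
  simp only [map_sub, map_mul, classInner_conj_symm, Int.cast_natCast, map_natCast, map_zero] at hB
  rw [inner_resZero, inner_resZero, hk, hk', map_natCast, map_natCast]
  unfold resQ
  linear_combination hB

end TV

end CfsgLib.Peterfalvi.Pair.TypeV
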