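import Cfsg.Agent.Lib.Char.FrobAction
import Mathlib.GroupTheory.Nilpotent
import Mathlib.GroupTheory.SpecificGroups.Cyclic

/-!
The elements of an abelian Frobenius kernel with fixed points on a group where the complement has
cyclic centralizer: few proper subgroups cover them.
-/

set_option autoImplicit false
set_option linter.style.haveILetI false
set_option linter.unusedSectionVars false

namespace CfsgLib.Peterfalvi.Pair.TypeV

universe u v

variable {Y : Type u} [Group Y] [Finite Y] {U E : Subgroup Y}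

/-- The fixed points of a set of operators. -/
def fixBy {P : Type v} [Group P] (f : Y →* MulAut P) (A : Set Y) : Subgroup P where
  carrier := {x | ∀ a ∈ A, f a x = x}
  one_mem' := fun a _ => map_one (f a)
  mul_mem' := fun {x y} hx hy a ha => by rw [map_mul, hx a ha, hy a ha]
  inv_mem' := fun {x} hx a ha => by rw [map_inv, hx a ha]

theorem fixBy_mono {P : Type v} [Group P] (f : Y →* MulAut P) {A B : Set Y} (h : A ⊆ B) :
    fixBy f B ≤ fixBy f A := fun _ hx a ha => hx a (h ha)

/-- The data of a Frobenius group with abelian kernel and complement of prime order. -/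
structure FrobPair (U E : Subgroup Y) : Prop where
  compl : Subgroup.IsComplement' U E
  normal : ∀ e ∈ E, ∀ u ∈ U, e * u * e⁻¹ ∈ U
  fpf : ∀ e ∈ E, e ≠ 1 → ∀ u ∈ U, e * u = u * e → u = 1
  prime : (Nat.card E).Prime
  comm : ∀ a ∈ U, ∀ b ∈ U, a * b = b * a

/-- An automorphism fixed coset of a normal subgroup of coprime order has a fixed element. -/
theorem exists_fixed_lift {P : Type v} [Group P] [Finite P] (φ : MulAut P) {l : ℕ} [Fact l.Prime]
    (hφ : φ ^ l = 1) (N : Subgroup P) (hN : ∀ x ∈ N, φ x ∈ N) (hl : ¬ l ∣ Nat.card N) {x : P}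
    (hx : x⁻¹ * φ x ∈ N) : ∃ n ∈ N, φ (x * n) = x * n := by
  let α : N → N := fun n => ⟨x⁻¹ * φ x * φ n, mul_mem hx (hN n n.2)⟩
  have hiter : ∀ (k : ℕ) (n : N), ((α^[k]) n : P) = x⁻¹ * (φ ^ k) (x * n) := by
    intro k
    induction k with
    | zero => intro n; simp
    | succ k ih =>
      intro n
      rw [Function.iterate_succ_apply', pow_succ', MulAut.mul_apply]
      show x⁻¹ * φ x * φ ((α^[k]) n : P) = _
      rw [ih, map_mul, map_inv]
      group
  have hper : Function.Injective α := fun a b e => by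
    have h1 := congrArg Subtype.val e
    simp only [α, mul_right_inj] at h1
    exact Subtype.ext (φ.injective h1)
  let σ : Equiv.Perm N := Equiv.ofBijective α (Finite.injective_iff_bijective.mp hper)
  have hpow : σ ^ l = 1 := Equiv.ext fun n => by
    refine Subtype.ext ?_
    rw [Equiv.Perm.coe_pow, show (σ : N → N) = α from rfl, hiter, hφ]
    simp
  letI act : MulAction (Subgroup.zpowers σ) N := MulAction.compHom N (Subgroup.zpowers σ).subtype
  have hp : IsPGroup l (Subgroup.zpowers σ) := by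
    intro g
    obtain ⟨i, hi⟩ := g.2
    refine ⟨1, Subtype.ext ?_⟩
    rw [SubgroupClass.coe_pow, pow_one, ← hi, ← zpow_natCast, ← zpow_mul, mul_comm, zpow_mul,
      zpow_natCast, hpow, one_zpow, Subgroup.coe_one]
  obtain ⟨n, hn⟩ := hp.nonempty_fixed_point_of_prime_not_dvd_card N hl
  refine ⟨n, n.2, ?_⟩
  have h1 : α n = n := hn ⟨σ, Subgroup.mem_zpowers σ⟩
  have h2 : x⁻¹ * φ x * φ n = (n : P) := congrArg Subtype.val h1
  rw [map_mul]
  calc φ x * φ n = x * (x⁻¹ * φ x * φ n) := by group
    _ = x * n := by rw [h2]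

section Layer

variable {V : Type v} [CommGroup V] [Finite V] (f : Y →* MulAut V)

theorem invariant_fix (hF : FrobPair U E) {H : Set Y} (hHU : H ⊆ U)
    (hH : ∀ e ∈ E, ∀ u ∈ H, e⁻¹ * u * e ∈ H) {y : Y} {x : V} (hx : x ∈ fixBy f H) :
    f y x ∈ fixBy f H := by
  intro a ha
  obtain ⟨⟨u, e⟩, rfl⟩ := hF.compl.2 y
  have ha' := hH e e.2 a ha
  show f a (f ((u : Y) * e) x) = f ((u : Y) * e) x
  rw [← MulAut.mul_apply, ← map_mul,
    show a * ((u : Y) * e) = (u : Y) * e * ((e : Y)⁻¹ * a * e) by
      rw [← mul_assoc, hF.comm a (hHU ha) u u.2]; group,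
    map_mul, MulAut.mul_apply, hx _ ha']

variable {r : ℕ} [hr : Fact r.Prime]

/-- An irreducible module where the complement has small centralizer. -/
theorem layer (hF : FrobPair U E) (hexp : ∀ x : V, x ^ r = 1) (hcop : r.Coprime (Nat.card Y))
    (hirr : ∀ S : Subgroup V, (∀ y, ∀ x ∈ S, f y x ∈ S) → S = ⊥ ∨ S = ⊤) [Nontrivial V]
    (hU : fixBy f (U : Set Y) = ⊥) (hE : Nat.card (fixBy f (E : Set Y)) ≤ r)
    (hgcd : (r - 1).Coprime (Nat.card U)) :
    fixBy f (E : Set Y) ≠ ⊥ ∧ ∀ v ∈ U, fixBy f {v} ≠ ⊥ → fixBy f {v} = ⊤ := by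
  classical
  haveI : Fintype Y := Fintype.ofFinite Y
  constructor
  · intro hE1
    let g : Y → V →* V := fun y => (f y).toMonoidHom
    have h := CfsgLib.FrobAction.card_fixed_points (p := r) (Y := Y) hexp
      hcop U E hF.compl hF.normal hF.fpf g
      (fun x => by simp [g]) (fun y z x => by simp [g])
    have h1 : ∀ A : Subgroup Y,
        Nat.card {x : V // ∀ a ∈ A, g a x = x} = Nat.card (fixBy f (A : Set Y)) := fun A => rfl
    rw [h1, h1, h1, hE1, hU, Subgroup.card_bot, one_pow, one_mul,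
      show fixBy f ((⊤ : Subgroup Y) : Set Y) = ⊥ from
        le_bot_iff.mp (hU ▸ fixBy_mono f (by simp)), Subgroup.card_bot, one_pow, one_mul] at h
    have := Finite.one_lt_card (α := V)
    omega
  intro v hv hvfix
  -- a minimal subgroup of fixed points invariant under `U`
  obtain ⟨X, hXmin⟩ := exists_minimal_of_wellFoundedLT (fun S : Subgroup V =>
    S ≤ fixBy f {v} ∧ S ≠ ⊥ ∧ ∀ a ∈ U, ∀ x ∈ S, f a x ∈ S) ⟨fixBy f {v}, le_rfl, hvfix, fun a ha x hx b hb => by
      rw [Set.mem_singleton_iff] at hb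
      subst hb
      rw [← MulAut.mul_apply, ← map_mul, hF.comm b hv a ha, map_mul, MulAut.mul_apply, hx b rfl]⟩
  obtain ⟨⟨hXv, hX1, hXinv⟩, hXm⟩ := hXmin
  set H : Set Y := {u | u ∈ U ∧ ∀ x ∈ X, f u x = x} with hH
  by_cases hinv : ∀ e ∈ E, ∀ u ∈ H, e⁻¹ * u * e ∈ H
  · -- the kernel is invariant: it fixes everything
    have hle : X ≤ fixBy f H := fun x hx a ha => ha.2 x hx
    rcases hirr (fixBy f H) (fun y x hx => invariant_fix f hF (fun a ha => ha.1) hinv hx) with h | h
    · exact absurd (le_bot_iff.mp (h ▸ hle)) hX1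
    · refine top_le_iff.mp (h ▸ fixBy_mono f ?_)
      rintro a rfl
      exact ⟨hv, fun x hx => hXv hx a rfl⟩
  exfalso
  push Not at hinv
  obtain ⟨e₀, he₀, u₀, hu₀, hne⟩ := hinv
  -- the translates have distinct kernels
  have hstab : ∀ e ∈ E, e ≠ 1 → ∃ w ∈ U, w ∉ H ∧ e⁻¹ * w * e ∈ H := by
    intro e he he1
    by_contra hcon
    push Not at hcon
    haveI : Fact (Nat.card E).Prime := ⟨hF.prime⟩
    have hgen : (⟨e₀, he₀⟩ : E) ∈ Subgroup.zpowers (⟨e, he⟩ : E) :=
      mem_zpowers_of_prime_card rfl (fun h => he1 (congrArg Subtype.val h))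
    obtain ⟨i, hi⟩ := (isOfFinOrder_of_finite (⟨e, he⟩ : E)).mem_powers_iff_mem_zpowers.mpr hgen
    have hi' : e ^ i = e₀ := congrArg Subtype.val hi
    have hfin : Set.Finite H := Set.toFinite _
    have hb : Set.BijOn (fun w => e * w * e⁻¹) H H := by
      refine (hfin.injOn_iff_bijOn_of_mapsTo ?_).mp fun a _ b _ h => by simpa using h
      intro w hw
      by_contra hn
      exact hcon (e * w * e⁻¹) (hF.normal e he w hw.1) hn (by
        rwa [show e⁻¹ * (e * w * e⁻¹) * e = w by group])
    have hk : ∀ (j : ℕ), ∀ w ∈ H, (e ^ j)⁻¹ * w * e ^ j ∈ H := by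
      intro j
      induction j with
      | zero => intro w hw; simpa using hw
      | succ j ih =>
        intro w hw
        obtain ⟨w', hw', hww⟩ := hb.surjOn hw
        rw [show (e ^ (j + 1))⁻¹ * w * e ^ (j + 1) = (e ^ j)⁻¹ * w' * e ^ j by
          rw [← hww, pow_succ']; group]
        exact ih w' hw'
    exact hne (hi' ▸ hk i u₀ hu₀)
  choose! w hwU hwH hwe using hstab
  -- the norm is injective on `X`
  haveI : Fintype E := Fintype.ofFinite E
  let nm : V →* V :=
    { toFun := fun x => ∏ e : E, f e x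
      map_one' := by simp
      map_mul' := fun a b => by simp [Finset.prod_mul_distrib] }
  let D : Y → V →* V := fun u =>
    { toFun := fun x => x⁻¹ * f u x
      map_one' := by simp
      map_mul' := fun a b => by rw [map_mul, mul_inv, mul_mul_mul_comm] }
  have hDU : ∀ a ∈ U, ∀ e : E, ∀ x ∈ X, (e : Y) ≠ 1 →
      f a (D (w e) x) = D (w e) (f a x) := by
    intro a ha e x _ he
    show f a (x⁻¹ * f (w e) x) = (f a x)⁻¹ * f (w e) (f a x)
    rw [map_mul, map_inv, ← MulAut.mul_apply, ← map_mul, hF.comm a ha _ (hwU e e.2 he),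
      map_mul, MulAut.mul_apply]
  have hDX : ∀ e : E, (e : Y) ≠ 1 → ∀ x ∈ X, D (w e) x ∈ X ∧ (D (w e) x = 1 → x = 1) := by
    intro e he x hx
    refine ⟨mul_mem (inv_mem hx) (hXinv _ (hwU e e.2 he) x hx), fun hd => ?_⟩
    by_contra hx1
    have hle : X ⊓ fixBy f {w e} ≤ X := inf_le_left
    have h1 : X ≤ X ⊓ fixBy f {w e} := hXm ⟨hle.trans hXv, fun h => hx1 (by
        have : x ∈ X ⊓ fixBy f {w (e : Y)} := ⟨hx, fun b hb => by
          rw [Set.mem_singleton_iff] at hb
          subst hb
          exact (inv_mul_eq_one.mp hd).symm⟩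
        rwa [h, Subgroup.mem_bot] at this), fun a ha y hy => ⟨hXinv a ha y hy.1, fun b hb => by
          rw [Set.mem_singleton_iff] at hb
          subst hb
          rw [← MulAut.mul_apply, ← map_mul, hF.comm _ (hwU e e.2 he) a ha, map_mul,
            MulAut.mul_apply, hy.2 _ rfl]⟩⟩ hle
    exact hwH e e.2 he ⟨hwU e e.2 he, fun y hy => (h1 hy).2 _ rfl⟩
  have hinj : ∀ x ∈ X, nm x = 1 → x = 1 := by
    intro x hx hnx
    suffices key : ∀ s : Finset E, (1 : E) ∉ s → ∃ F : V →* V,
        (∀ e ∈ s, ∀ y ∈ X, F (f e y) = 1) ∧ (∀ y ∈ X, F y ∈ X ∧ (F y = 1 → y = 1)) by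
      obtain ⟨F, hF1, hF2⟩ := key (Finset.univ.erase 1) (Finset.notMem_erase _ _)
      refine (hF2 x hx).2 ?_
      have h := congrArg F hnx
      rw [map_one, show nm x = ∏ e : E, f e x from rfl, map_prod,
        Finset.prod_eq_single (1 : E) (fun e _ he => hF1 e (Finset.mem_erase.mpr ⟨he, Finset.mem_univ _⟩) x hx)
          (fun h' => absurd (Finset.mem_univ _) h'), OneMemClass.coe_one, map_one,
        MulAut.one_apply] at h
      exact h
    intro s
    induction s using Finset.induction_on with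
    | empty => exact fun _ => ⟨MonoidHom.id V, fun e he => absurd he (Finset.notMem_empty e), fun y hy => ⟨hy, id⟩⟩
    | insert e s hes ih =>
      intro h1
      obtain ⟨F, hF1, hF2⟩ := ih fun h => h1 (Finset.mem_insert_of_mem h)
      have he1 : (e : Y) ≠ 1 := fun h => h1 (by
        rw [show (1 : E) = e from Subtype.ext h.symm]; exact Finset.mem_insert_self _ _)
      refine ⟨F.comp (D (w e)), fun e' he' y hy => ?_, fun y hy => ?_⟩
      · rcases Finset.mem_insert.mp he' with rfl | he'
        · have hc : f (w e') (f e' y) = f e' y := by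
            rw [← MulAut.mul_apply, ← map_mul, show w e' * (e' : Y) = e' * ((e' : Y)⁻¹ * w e' * e') by group,
              map_mul, MulAut.mul_apply, (hwe e' e'.2 he1).2 y hy]
          rw [MonoidHom.comp_apply, show D (w e') (f e' y) = (f e' y)⁻¹ * f (w e') (f e' y) from rfl, hc,
            inv_mul_cancel, map_one]
        · have hu := hwU e e.2 he1
          set u' := (e' : Y)⁻¹ * w e * e' with hu'
          have hu'U : u' ∈ U := by
            have := hF.normal (e' : Y)⁻¹ (inv_mem e'.2) _ hu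
            rwa [inv_inv] at this
          have hc : D (w e) (f e' y) = f e' (y⁻¹ * f u' y) := by
            show (f e' y)⁻¹ * f (w e) (f e' y) = _
            rw [map_mul (f (e' : Y)), map_inv, ← MulAut.mul_apply, ← map_mul, ← MulAut.mul_apply,
              ← map_mul, show (e' : Y) * u' = w e * e' by rw [hu']; group]
          rw [MonoidHom.comp_apply, hc]
          exact hF1 e' he' _ (mul_mem (inv_mem hy) (hXinv _ hu'U y hy))
      · have h := hDX e he1 y hy
        exact ⟨(hF2 _ h.1).1, fun hd => h.2 ((hF2 _ h.1).2 hd)⟩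
  -- `X` has order `r`
  have hfixed : ∀ x, nm x ∈ fixBy f (E : Set Y) := by
    intro x a ha
    show f a (∏ e : E, f e x) = ∏ e : E, f e x
    rw [map_prod]
    exact Fintype.prod_equiv (Equiv.mulLeft (⟨a, ha⟩ : E)) _ _ fun e => by
      rw [← MulAut.mul_apply, ← map_mul]; rfl
  have hcard : Nat.card X ≤ r := le_trans (Nat.card_le_card_of_injective
    (fun x : X => (⟨nm x, hfixed x⟩ : fixBy f (E : Set Y))) fun a b h => by
      refine Subtype.ext (mul_inv_eq_one.mp (hinj _ (mul_mem a.2 (inv_mem b.2)) ?_))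
      rw [map_mul, map_inv, mul_inv_eq_one]
      exact congrArg Subtype.val h) hE
  obtain ⟨⟨x₀, hx₀⟩, hx₀1⟩ := Subgroup.ne_bot_iff_exists_ne_one.mp hX1
  have hord : orderOf x₀ = r := (orderOf_eq_prime (hexp x₀) fun h => hx₀1 (Subtype.ext h))
  have hXz : Subgroup.zpowers x₀ = X := Subgroup.eq_of_le_of_card_ge (Subgroup.zpowers_le.mpr hx₀)
    (by rw [Nat.card_zpowers, hord]; exact hcard)
  have htriv : ∀ u ∈ U, f u x₀ = x₀ := by
    intro u hu
    have hm : f u x₀ ∈ Subgroup.zpowers x₀ := hXz.symm ▸ hXinv u hu x₀ hx₀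
    obtain ⟨i, hi⟩ := (isOfFinOrder_of_finite x₀).mem_powers_iff_mem_zpowers.mpr hm
    have hi' : f u x₀ = x₀ ^ i := hi.symm
    have hk : ∀ j : ℕ, f (u ^ j) x₀ = x₀ ^ i ^ j := by
      intro j
      induction j with
      | zero => simp
      | succ j ih =>
        rw [pow_succ' u, map_mul, MulAut.mul_apply, ih, map_pow, hi', ← pow_mul, pow_succ']
    have h1 := hk (Nat.card U)
    have hu1 : u ^ Nat.card U = 1 := orderOf_dvd_iff_pow_eq_one.mp (Subgroup.orderOf_dvd_natCard _ hu)
    rw [hu1, map_one, MulAut.one_apply] at h1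
    have h2 : i ^ Nat.card U ≡ 1 [MOD r] := by
      have h3 : x₀ ^ (i ^ Nat.card U) = x₀ ^ 1 := by rw [pow_one]; exact h1.symm
      rw [pow_eq_pow_iff_modEq, hord] at h3
      exact h3
    have h3 : i ≡ 1 [MOD r] := by
      have e1 : ((i : ZMod r)) ^ Nat.card U = 1 := by
        rw [← Nat.cast_pow, ← Nat.cast_one, ZMod.natCast_eq_natCast_iff]
        exact h2
      have hi0 : (i : ZMod r) ≠ 0 := fun h => by
        rw [h, zero_pow Nat.card_pos.ne'] at e1
        exact zero_ne_one e1
      have e2 := (pow_gcd_eq_one (a := (i : ZMod r))).mpr ⟨ZMod.pow_card_sub_one_eq_one hi0, e1⟩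
      rw [hgcd, pow_one] at e2
      rw [← Nat.cast_one, ZMod.natCast_eq_natCast_iff] at e2
      exact e2
    rw [hi']
    calc x₀ ^ i = x₀ ^ 1 := by rw [pow_eq_pow_iff_modEq, hord]; exact h3
      _ = x₀ := pow_one _
  have hHU : ∀ u ∈ U, u ∈ H := by
    refine fun u hu => ⟨hu, fun x hx => ?_⟩
    rw [← hXz] at hx
    obtain ⟨i, rfl⟩ := hx
    rw [map_zpow, htriv u hu]
  refine hne (hHU _ ?_)
  have := hF.normal e₀⁻¹ (inv_mem he₀) u₀ hu₀.1
  rwa [inv_inv] at this

end Layer

/-- The cover of the elements with fixed points. -/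
theorem exists_bad_cover (hF : FrobPair U E) :
    ∀ (n : ℕ) {P : Type v} [Group P] [Finite P] [Group.IsNilpotent P] (f : Y →* MulAut P),
      Nat.card P ≤ n → (Nat.card P).Coprime (Nat.card Y) → Odd (Nat.card P) →
      (∃ v₀ ∈ U, (orderOf v₀).Prime ∧ fixBy f {v₀} = ⊥) → IsCyclic (fixBy f (E : Set Y)) →
      (∀ r : ℕ, r.Prime → r ∣ Nat.card (fixBy f (E : Set Y)) → (r - 1).Coprime (Nat.card U)) →
      ∃ ℋ : Finset (Subgroup Y), (∀ H ∈ ℋ, H < U) ∧
        3 ^ ℋ.card ≤ Nat.card (fixBy f (E : Set Y)) ∧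
        ∀ v ∈ U, fixBy f {v} ≠ ⊥ → ∃ H ∈ ℋ, v ∈ H := by
  classical
  intro n
  induction n with
  | zero => intro P _ _ _ f h; exact absurd h (by have := Nat.card_pos (α := P); omega)
  | succ n ih =>
    intro P _ _ _ f hn hcop hodd hv₀ hcyc hgcd
    rcases subsingleton_or_nontrivial P with hP | hP
    · exact ⟨∅, by simp, by simpa using Nat.card_pos, fun v _ h => absurd (Subsingleton.elim _ _) h⟩
    obtain ⟨v₀, hv₀U, hv₀p, hv₀f⟩ := hv₀
    -- a minimal invariant central subgroup of prime exponent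
    haveI : Nontrivial (Subgroup.center P) := (Subgroup.nontrivial_iff_ne_bot _).mpr
      (Group.IsNilpotent.center_ne_bot P)
    obtain ⟨z, hz⟩ := exists_ne (1 : Subgroup.center P)
    obtain ⟨r, hr, hrd⟩ := Nat.exists_prime_and_dvd (n := orderOf (z : P))
      (fun e => hz (Subtype.ext (orderOf_eq_one_iff.mp e)))
    haveI := Fact.mk hr
    have hrP : r ∣ Nat.card P := hrd.trans (orderOf_dvd_natCard _)
    have hrY : r.Coprime (Nat.card Y) := hcop.coprime_dvd_left hrP
    let S₀ : Subgroup P :=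
      { carrier := {x | x ∈ Subgroup.center P ∧ x ^ r = 1}
        one_mem' := ⟨one_mem _, one_pow r⟩
        mul_mem' := fun {a b} ha hb => ⟨mul_mem ha.1 hb.1, by
          rw [(show Commute a b from (Subgroup.mem_center_iff.mp hb.1 a)).mul_pow, ha.2, hb.2, one_mul]⟩
        inv_mem' := fun {a} ha => ⟨inv_mem ha.1, by rw [inv_pow, ha.2, inv_one]⟩ }
    have hS₀ : S₀ ≠ ⊥ := by
      intro h
      have hm : (z : P) ^ (orderOf (z : P) / r) ∈ S₀ := ⟨pow_mem z.2 _, by
        rw [← pow_mul, Nat.div_mul_cancel hrd, pow_orderOf_eq_one]⟩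
      rw [h, Subgroup.mem_bot] at hm
      have h2 := orderOf_dvd_of_pow_eq_one hm
      have h3 : orderOf (z : P) / r < orderOf (z : P) := Nat.div_lt_self (orderOf_pos _) hr.one_lt
      have h4 : 0 < orderOf (z : P) / r :=
        Nat.div_pos (Nat.le_of_dvd (orderOf_pos _) hrd) hr.pos
      exact absurd (Nat.le_of_dvd h4 h2) (by omega)
    obtain ⟨N, ⟨⟨hNc, hN1, hNinv⟩, hNmin⟩⟩ := exists_minimal_of_wellFoundedLT (fun S : Subgroup P =>
        (∀ x ∈ S, x ∈ Subgroup.center P ∧ x ^ r = 1) ∧ S ≠ ⊥ ∧ ∀ y, ∀ x ∈ S, f y x ∈ S)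
      ⟨S₀, fun x hx => hx, hS₀, fun y x hx => ⟨Subgroup.mem_center_iff.mpr fun g => by
          obtain ⟨g', rfl⟩ := (f y).surjective g
          rw [← map_mul, ← map_mul, Subgroup.mem_center_iff.mp hx.1 g'],
          by rw [← map_pow, hx.2, map_one]⟩⟩
    haveI hNn : N.Normal := ⟨fun x hx g => by
      rw [Subgroup.mem_center_iff.mp (hNc x hx).1 g, mul_inv_cancel_right]; exact hx⟩
    haveI : IsMulCommutative N := ⟨⟨fun a b => Subtype.ext (Subgroup.mem_center_iff.mp (hNc _ b.2).1 a)⟩⟩
    letI : CommGroup N := { (inferInstance : Group N) with mul_comm := mul_comm' }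
    haveI : Nontrivial N := (Subgroup.nontrivial_iff_ne_bot N).mpr hN1
    -- the two actions
    let eq' : ∀ y, N ≃* N := fun y =>
      { toFun := fun x => ⟨f y x, hNinv y x x.2⟩
        invFun := fun x => ⟨f y⁻¹ x, hNinv _ x x.2⟩
        left_inv := fun x => Subtype.ext (show f y⁻¹ (f y x) = x by
          rw [← MulAut.mul_apply, ← map_mul, inv_mul_cancel, map_one, MulAut.one_apply])
        right_inv := fun x => Subtype.ext (show f y (f y⁻¹ x) = x by
          rw [← MulAut.mul_apply, ← map_mul, mul_inv_cancel, map_one, MulAut.one_apply])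
        map_mul' := fun a b => Subtype.ext (map_mul (f y) (a : P) (b : P)) }
    let fN : Y →* MulAut N :=
      { toFun := eq'
        map_one' := MulEquiv.ext fun x => Subtype.ext (show f 1 x = x by rw [map_one, MulAut.one_apply])
        map_mul' := fun a b => MulEquiv.ext fun x => Subtype.ext
          (show f (a * b) x = f a (f b x) by rw [map_mul, MulAut.mul_apply]) }
    have hNmap : ∀ y, N.map ((f y).toMonoidHom) = N := fun y => le_antisymm
      (by rintro _ ⟨x, hx, rfl⟩; exact hNinv y x hx) fun x hx => ⟨f y⁻¹ x, hNinv _ x hx, by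
        show f y (f y⁻¹ x) = x
        rw [← MulAut.mul_apply, ← map_mul, mul_inv_cancel, map_one, MulAut.one_apply]⟩
    let fQ : Y →* MulAut (P ⧸ N) :=
      { toFun := fun y => QuotientGroup.congr N N (f y) (hNmap y)
        map_one' := MulEquiv.ext fun x => by
          obtain ⟨x, rfl⟩ := QuotientGroup.mk_surjective x
          show ((f 1 x : P) : P ⧸ N) = x
          rw [map_one, MulAut.one_apply]
        map_mul' := fun a b => MulEquiv.ext fun x => by
          obtain ⟨x, rfl⟩ := QuotientGroup.mk_surjective x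
          show ((f (a * b) x : P) : P ⧸ N) = (f a (f b x) : P)
          rw [map_mul, MulAut.mul_apply] }
    have hmk : ∀ (y : Y) (x : P), fQ y (x : P ⧸ N) = ((f y x : P) : P ⧸ N) := fun y x => rfl
    have hNr : ∀ x : N, x ^ r = 1 := fun x => Subtype.ext (hNc x x.2).2
    have hNd : Nat.card N ∣ Nat.card P := N.card_subgroup_dvd_card
    have hnot : ∀ {l : ℕ}, l.Prime → l ∣ Nat.card Y → ¬ l ∣ Nat.card N := fun {l} hl hlY hlN =>
      Nat.not_coprime_of_dvd_of_dvd hl.one_lt (hlN.trans hNd) hlY hcop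
    -- lifting of fixed points
    have hlift : ∀ (A : Subgroup Y) (a : Y), a ∈ A → (orderOf a).Prime → A ≤ Subgroup.zpowers a →
        ∀ x : P, (x : P ⧸ N) ∈ fixBy fQ (A : Set Y) → ∃ n ∈ N, x * n ∈ fixBy f (A : Set Y) := by
      intro A a ha hap hA x hx
      haveI := Fact.mk hap
      obtain ⟨n, hn, hne⟩ := exists_fixed_lift (f a) (l := orderOf a)
        (by rw [← map_pow, pow_orderOf_eq_one, map_one]) N (fun y hy => hNinv a y hy)
        (hnot hap (orderOf_dvd_natCard a)) (x := x) (QuotientGroup.eq.mp (by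
          have := hx a ha; rw [hmk] at this; exact this.symm))
      refine ⟨n, hn, fun b hb => ?_⟩
      obtain ⟨i, hi⟩ := (isOfFinOrder_of_finite a).mem_powers_iff_mem_zpowers.mpr (hA hb)
      rw [← hi]
      clear hi
      show f (a ^ i) (x * n) = x * n
      induction i with
      | zero => simp
      | succ i ih =>
        rw [pow_succ, map_mul f, MulAut.mul_apply, hne]
        exact ih
    obtain ⟨⟨eE, heE⟩, heE1⟩ := Subgroup.ne_bot_iff_exists_ne_one.mp
      (show E ≠ ⊥ from fun e => Nat.not_prime_one (Subgroup.card_bot (G := Y) ▸ e ▸ hF.prime))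
    have heo : orderOf eE = Nat.card E := ((Nat.dvd_prime hF.prime).mp
      (Subgroup.orderOf_dvd_natCard _ heE)).resolve_left fun h => heE1
        (Subtype.ext (orderOf_eq_one_iff.mp h))
    have hEz : E = Subgroup.zpowers eE := (Subgroup.eq_of_le_of_card_ge
      (Subgroup.zpowers_le.mpr heE) (by rw [Nat.card_zpowers, heo])).symm
    -- the comparison of the centralizers of the complement
    let φ : fixBy f (E : Set Y) →* fixBy fQ (E : Set Y) :=
      { toFun := fun x => ⟨((x : P) : P ⧸ N), fun a ha => by rw [hmk, x.2 a ha]⟩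
        map_one' := rfl
        map_mul' := fun _ _ => rfl }
    have hφ : Function.Surjective φ := by
      rintro ⟨x, hx⟩
      obtain ⟨x, rfl⟩ := QuotientGroup.mk_surjective x
      obtain ⟨n, hn, hxn⟩ := hlift E eE heE (heo ▸ hF.prime) hEz.le x hx
      exact ⟨⟨x * n, hxn⟩, Subtype.ext (QuotientGroup.eq.mpr (by simpa using inv_mem hn))⟩
    have hker : Nat.card φ.ker = Nat.card (fixBy fN (E : Set Y)) := by
      refine Nat.card_congr
        { toFun := fun x => ⟨⟨x.1, (QuotientGroup.eq_one_iff _).mp (congrArg Subtype.val x.2)⟩,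
            fun a ha => Subtype.ext (x.1.2 a ha)⟩
          invFun := fun x => ⟨⟨x.1, fun a ha => congrArg Subtype.val (x.2 a ha)⟩,
            Subtype.ext ((QuotientGroup.eq_one_iff _).mpr x.1.2)⟩
          left_inv := fun x => rfl
          right_inv := fun x => rfl }
    have hc : Nat.card (fixBy f (E : Set Y)) =
        Nat.card (fixBy fQ (E : Set Y)) * Nat.card (fixBy fN (E : Set Y)) := by
      rw [← hker, ← Nat.card_congr (QuotientGroup.quotientKerEquivOfSurjective φ hφ).toEquiv]
      exact Subgroup.card_eq_card_quotient_mul_card_subgroup _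
    haveI := hcyc
    haveI hcycQ : IsCyclic (fixBy fQ (E : Set Y)) := isCyclic_of_surjective φ hφ
    haveI hcycN : IsCyclic (fixBy fN (E : Set Y)) := by
      let ι : fixBy fN (E : Set Y) →* fixBy f (E : Set Y) :=
        { toFun := fun x => ⟨x.1, fun a ha => congrArg Subtype.val (x.2 a ha)⟩
          map_one' := rfl
          map_mul' := fun _ _ => rfl }
      exact isCyclic_of_injective ι fun a b h => by
        have := congrArg (fun t : fixBy f (E : Set Y) => (t : P)) h
        exact Subtype.ext (Subtype.ext this)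
    have hv₀N : fixBy fN {v₀} = ⊥ := (Subgroup.eq_bot_iff_forall _).mpr fun x hx => Subtype.ext
      ((Subgroup.eq_bot_iff_forall _).mp hv₀f x fun a ha => congrArg Subtype.val (hx a ha))
    have hleE : Nat.card (fixBy fN (E : Set Y)) ≤ r := by
      rw [← IsCyclic.exponent_eq_card]
      exact Nat.le_of_dvd hr.pos (Monoid.exponent_dvd_of_forall_pow_eq_one fun x => Subtype.ext
        (hNr x.1))
    have hlayer : ∀ hg : (r - 1).Coprime (Nat.card U), _ := fun hg => layer fN hF hNr hrY
      (fun S hS => by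
        rcases eq_or_ne S ⊥ with h | h
        · exact Or.inl h
        refine Or.inr (top_le_iff.mp fun x _ => ?_)
        have hle : S.map N.subtype ≤ N := Subgroup.map_subtype_le S
        have h1 := hNmin ⟨fun y hy => hNc y (hle hy), fun e => h (by
          rwa [Subgroup.map_eq_bot_iff_of_injective _ N.subtype_injective] at e), fun y x hx => by
            obtain ⟨x, hx', rfl⟩ := hx
            exact ⟨fN y x, hS y x hx', rfl⟩⟩ hle x.2
        obtain ⟨x', hx', e⟩ := h1
        rwa [← Subtype.ext (a1 := x') (a2 := x) e])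
      (le_bot_iff.mp (hv₀N ▸ fixBy_mono fN (Set.singleton_subset_iff.mpr hv₀U))) hleE hg
    -- the prime divides the order of the centralizer
    have hrE : r ∣ Nat.card (fixBy f (E : Set Y)) := by
      by_contra hnd
      have h1 : fixBy fN (E : Set Y) = ⊥ := by
        refine (Subgroup.eq_bot_iff_forall _).mpr fun x hx => ?_
        by_contra hx1
        refine hnd ?_
        rw [hc]
        refine Dvd.dvd.mul_left ?_ _
        have ho : orderOf (⟨x, hx⟩ : fixBy fN (E : Set Y)) = r :=
          orderOf_eq_prime (Subtype.ext (hNr x)) fun h => hx1 (congrArg Subtype.val h)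
        exact ho ▸ orderOf_dvd_natCard _
      haveI : Fintype Y := Fintype.ofFinite Y
      let g : Y → N →* N := fun y => (fN y).toMonoidHom
      have h := CfsgLib.FrobAction.card_fixed_points (p := r) (Y := Y) hNr
        hrY U E hF.compl hF.normal hF.fpf g
        (fun x => by simp [g]) (fun y z x => by simp [g])
      have h2 : ∀ A : Subgroup Y,
          Nat.card {x : N // ∀ a ∈ A, g a x = x} = Nat.card (fixBy fN (A : Set Y)) := fun A => rfl
      have h3 : fixBy fN (U : Set Y) = ⊥ :=
        le_bot_iff.mp (hv₀N ▸ fixBy_mono fN (Set.singleton_subset_iff.mpr hv₀U))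
      rw [h2, h2, h2, h1, h3, Subgroup.card_bot, one_pow, one_mul,
        show fixBy fN ((⊤ : Subgroup Y) : Set Y) = ⊥ from
          le_bot_iff.mp (h3 ▸ fixBy_mono fN (by simp)), Subgroup.card_bot, one_pow, one_mul] at h
      have := Finite.one_lt_card (α := N)
      omega
    obtain ⟨hNE, hNv⟩ := hlayer (hgcd r hr hrE)
    -- recursion
    have hPQ : Nat.card P = Nat.card (P ⧸ N) * Nat.card N :=
      Subgroup.card_eq_card_quotient_mul_card_subgroup N
    have hN2 : 1 < Nat.card N := Finite.one_lt_card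
    obtain ⟨ℋ, hlt, hcard, hcov⟩ := ih fQ
      (by have := Nat.card_pos (α := P ⧸ N); nlinarith)
      (hcop.coprime_dvd_left (hPQ ▸ dvd_mul_right _ _))
      (hodd.of_dvd_nat (hPQ ▸ dvd_mul_right _ _))
      ⟨v₀, hv₀U, hv₀p, (Subgroup.eq_bot_iff_forall _).mpr fun x hx => by
        obtain ⟨x, rfl⟩ := QuotientGroup.mk_surjective x
        obtain ⟨m, hm, hxm⟩ := hlift (Subgroup.zpowers v₀) v₀ (Subgroup.mem_zpowers v₀) hv₀p le_rfl x
          (fun b hb => by
            obtain ⟨i, rfl⟩ := (isOfFinOrder_of_finite v₀).mem_powers_iff_mem_zpowers.mpr hb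
            clear hb
            induction i with
            | zero => simp
            | succ i ih' =>
              show fQ (v₀ ^ (i + 1)) (x : P ⧸ N) = x
              rw [pow_succ, map_mul, MulAut.mul_apply, hx v₀ rfl]
              exact ih')
        have h1 : x * m = 1 := (Subgroup.eq_bot_iff_forall _).mp hv₀f _ fun b hb => by
          rw [Set.mem_singleton_iff] at hb
          exact hxm b (hb ▸ Subgroup.mem_zpowers v₀)
        exact (QuotientGroup.eq_one_iff x).mpr (by rw [eq_inv_of_mul_eq_one_left h1]; exact inv_mem hm)⟩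
      hcycQ (fun s hs hsd => hgcd s hs (hsd.trans (hc ▸ dvd_mul_right _ _)))
    let H₀ : Subgroup Y :=
      { carrier := {v | v ∈ U ∧ ∀ x ∈ N, f v x = x}
        one_mem' := ⟨one_mem _, fun x _ => by rw [map_one, MulAut.one_apply]⟩
        mul_mem' := fun {a b} ha hb => ⟨mul_mem ha.1 hb.1, fun x hx => by
          rw [map_mul, MulAut.mul_apply, hb.2 x hx, ha.2 x hx]⟩
        inv_mem' := fun {a} ha => ⟨inv_mem ha.1, fun x hx => by
          conv_lhs => rw [← ha.2 x hx]
          rw [← MulAut.mul_apply, ← map_mul, inv_mul_cancel, map_one, MulAut.one_apply]⟩ }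
    have hH₀ : H₀ < U := lt_of_le_not_ge (fun v hv => hv.1) fun h => by
      obtain ⟨x, hx⟩ := exists_ne (1 : N)
      exact hx ((Subgroup.eq_bot_iff_forall _).mp hv₀N x fun a ha => by
        rw [Set.mem_singleton_iff] at ha
        subst ha
        exact Subtype.ext ((h hv₀U).2 x x.2))
    refine ⟨insert H₀ ℋ, (Finset.forall_mem_insert _ _ _).mpr ⟨hH₀, hlt⟩, ?_, fun v hv hvf => ?_⟩
    · have h3 : 3 ≤ Nat.card (fixBy fN (E : Set Y)) := by
        have h1 := Subgroup.one_lt_card_iff_ne_bot (fixBy fN (E : Set Y)) |>.mpr hNE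
        have h2 : Odd (Nat.card (fixBy fN (E : Set Y))) := hodd.of_dvd_nat
          ((Subgroup.card_subgroup_dvd_card _).trans hNd)
        rcases h2 with ⟨j, hj⟩
        omega
      calc 3 ^ (insert H₀ ℋ).card ≤ 3 ^ (ℋ.card + 1) :=
            Nat.pow_le_pow_right (by omega) (Finset.card_insert_le _ _)
        _ = 3 ^ ℋ.card * 3 := pow_succ _ _
        _ ≤ _ := by rw [hc]; exact Nat.mul_le_mul hcard h3
    · obtain ⟨⟨x, hx⟩, hx1⟩ := Subgroup.ne_bot_iff_exists_ne_one.mp hvf
      by_cases hxN : x ∈ N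
      · refine ⟨H₀, Finset.mem_insert_self _ _, hv, fun y hy => ?_⟩
        have hne : fixBy fN {v} ≠ ⊥ := fun h => hx1 (Subtype.ext (congrArg (fun t : N => (t : P))
          ((Subgroup.eq_bot_iff_forall _).mp h ⟨x, hxN⟩ fun a ha => Subtype.ext (hx a ha))))
        exact congrArg Subtype.val ((hNv v hv hne).ge (Subgroup.mem_top (⟨y, hy⟩ : N)) v rfl)
      · obtain ⟨H, hH, hvH⟩ := hcov v hv fun h => hxN ((QuotientGroup.eq_one_iff x).mp
          ((Subgroup.eq_bot_iff_forall _).mp h (x : P ⧸ N) fun a ha => by rw [hmk, hx a ha]))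
        exact ⟨H, Finset.mem_insert_of_mem hH, hvH⟩

end CfsgLib.Peterfalvi.Pair.TypeV
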