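import Cfsg.Agent.Lib.Peterfalvi.Pair.TypeV.Data
import Cfsg.Agent.Lib.Peterfalvi.Pair.TypeV.LayerFix

/-!
The elements of `U` with fixed points on the core, and the elements of order not prime to `|W|`.
-/

set_option autoImplicit false
set_option linter.style.haveILetI false
set_option linter.unusedSectionVars false

namespace CfsgLib.Peterfalvi.Pair.TypeV

open Cfsg
open CfsgLib.BG.FixedLine (conj_mem_of_le_normalizer)
open scoped Pointwise

universe u

variable {G : Type u} [Group G] [Finite G] {S T U K W : Subgroup G}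

/-- The elements of `U` with fixed points on the core of `S`. -/
def bad (S U : Subgroup G) : Set G :=
  {v | v ∈ U ∧ sigmaCore S ⊓ Subgroup.centralizer ({v} : Set G) ≠ ⊥}

/-- The elements of order not prime to `|W|`. -/
def singular (W : Subgroup G) : Set G :=
  {g | ¬ (orderOf g).Coprime (Nat.card W)}

/-- A count of conjugates of a set invariant under a subgroup. -/
theorem card_conj_mul_le (H N : Subgroup G) (hNH : N ≤ H) (X : Set G)
    (hX : ∀ n ∈ N, ∀ x ∈ X, n * x * n⁻¹ ∈ X) :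
    {g : G | ∃ y ∈ H, y * g * y⁻¹ ∈ X}.ncard * Nat.card N ≤ X.ncard * Nat.card H := by
  classical
  haveI : Fintype G := Fintype.ofFinite G
  set D : Finset (G × G) := (Finset.univ.filter (· ∈ H)) ×ˢ (Finset.univ.filter (· ∈ X))
  set φ : G × G → G := fun p => p.1⁻¹ * p.2 * p.1
  have himg : {g : G | ∃ y ∈ H, y * g * y⁻¹ ∈ X} = ↑(D.image φ) := by
    ext g
    simp only [Set.mem_ofPred_eq, Finset.coe_image, Set.mem_image, D, φ, Finset.coe_product,
      Finset.coe_filter, Finset.mem_univ, true_and, Set.mem_prod, Prod.exists]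
    constructor
    · rintro ⟨y, hy, hyx⟩; exact ⟨y, _, ⟨hy, hyx⟩, by group⟩
    · rintro ⟨y, x, ⟨hy, hx⟩, rfl⟩; exact ⟨y, hy, by simpa [mul_assoc] using hx⟩
  rw [himg, Set.ncard_coe_finset]
  have h := Finset.mul_card_image_le_card (f := φ) D (Nat.card N) fun a ha => ?_
  · rw [mul_comm]
    refine h.trans (le_of_eq ?_)
    rw [Finset.card_product, Set.ncard_eq_toFinset_card', mul_comm]
    congr 1
    · congr 1; ext; simp
    · rw [Nat.card_eq_fintype_card, Fintype.card_subtype]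
  · obtain ⟨⟨y, x⟩, hp, rfl⟩ := Finset.mem_image.mp ha
    simp only [D, Finset.mem_product, Finset.mem_filter, Finset.mem_univ, true_and] at hp
    rw [Nat.card_eq_fintype_card, Fintype.card_subtype]
    refine Finset.card_le_card_of_injOn (fun n => (n * y, n * x * n⁻¹)) (fun n hn => ?_)
      fun n _ m _ e => by simpa using congrArg Prod.fst e
    simp only [Finset.coe_filter, Finset.mem_univ, true_and, Set.mem_ofPred_eq] at hn
    simp only [Finset.coe_filter, Set.mem_ofPred_eq, D, φ, Finset.mem_product, Finset.mem_filter,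
      Finset.mem_univ, true_and]
    exact ⟨⟨mul_mem (hNH hn) hp.1, hX n hn x hp.2⟩, by group⟩

namespace TV

variable (h : TV S T U K W)
include h

theorem one_mem_bad : (1 : G) ∈ bad S U := ⟨one_mem _, by
  intro e
  have hle : W ≤ sigmaCore S ⊓ Subgroup.centralizer ({1} : Set G) := le_inf h.W_le_P fun w _ =>
    Subgroup.mem_centralizer_singleton_iff.mpr (by simp)
  exact h.W_ne (le_bot_iff.mp (e ▸ hle))⟩

/-- A free element of prime order. -/
theorem exists_free {l : ℕ} (hl : l.Prime) (hd : l ∣ Nat.card U) :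
    ∃ y ∈ U, ∃ e : ℕ, orderOf y = l ^ (e + 1) ∧
      (∀ w ∈ U, (∃ k, w ^ l ^ k = 1) → w ^ l ^ (e + 1) = 1) ∧
      sigmaCore S ⊓ Subgroup.centralizer ({y ^ l ^ e} : Set G) = ⊥ :=
  OddLocal.exists_max_free h.hG h.hS h.dS h.K_ne hl hd

theorem exists_free_prime : ∃ v ∈ U, (orderOf v).Prime ∧ v ∉ bad S U := by
  obtain ⟨l, hl, hd⟩ := Nat.exists_prime_and_dvd fun e : Nat.card U = 1 =>
    h.U_ne (Subgroup.card_eq_one.1 e)
  obtain ⟨y, hy, e, hye, -, hfree⟩ := h.exists_free hl hd
  refine ⟨y ^ l ^ e, pow_mem hy _, ?_, fun hb => hb.2 hfree⟩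
  rw [orderOf_pow' _ (pow_ne_zero _ hl.pos.ne'), hye,
    Nat.gcd_eq_right (pow_dvd_pow l e.le_succ), pow_succ, Nat.mul_div_cancel_left _ (pow_pos hl.pos e)]
  exact hl

/-- The elements with fixed points are covered by few proper subgroups. -/
theorem exists_cover
    (hgcd : ∀ r : ℕ, r.Prime → r ∣ Nat.card W → (r - 1).Coprime (Nat.card U)) :
    ∃ ℋ : Finset (Subgroup G), (∀ H ∈ ℋ, H < U) ∧ 3 ^ ℋ.card ≤ Nat.card W ∧
      ∀ v ∈ bad S U, ∃ H ∈ ℋ, v ∈ H := by
  classical
  set P := sigmaCore S with hP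
  have hUS : U ≤ S := h.kdS.hallU.1
  have hKS : K ≤ S := h.dS.hall.1
  have hYS : U ⊔ K ≤ S := sup_le hUS hKS
  have hYN : U ⊔ K ≤ Subgroup.normalizer (P : Set G) := hYS.trans (OddLocal.le_normalizer_piCoreOf _ S)
  haveI : Group.IsNilpotent P := h.nilP
  let f : ↥(U ⊔ K) →* MulAut P := (MulAut.conjNormal (H := P.subgroupOf (Subgroup.normalizer (P : Set G)))).comp
    (Subgroup.inclusion hYN) |> fun φ =>
    ((MulAut.congr (Subgroup.subgroupOfEquivOfLe Subgroup.le_normalizer)).toMonoidHom.comp φ)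
  have hf : ∀ (y : ↥(U ⊔ K)) (x : P), ((f y x : P) : G) = y * x * (y : G)⁻¹ := fun y x => rfl
  have hfix : ∀ (A : Subgroup G) (hA : A ≤ U ⊔ K) (x : P),
      x ∈ fixBy f ((A.subgroupOf (U ⊔ K) : Subgroup _) : Set _) ↔
        (x : G) ∈ Subgroup.centralizer (A : Set G) := by
    intro A hA x
    rw [Subgroup.mem_centralizer_iff]
    refine ⟨fun hx a ha => ?_, fun hx a ha => Subtype.ext ?_⟩
    · have := congrArg Subtype.val (hx ⟨a, hA ha⟩ ha)
      rw [hf] at this
      exact mul_inv_eq_iff_eq_mul.mp this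
    · rw [hf, hx a ha, mul_inv_cancel_right]
  have hfix1 : ∀ (v : ↥(U ⊔ K)) (x : P),
      x ∈ fixBy f {v} ↔ (x : G) ∈ Subgroup.centralizer ({(v : G)} : Set G) := by
    intro v x
    rw [Subgroup.mem_centralizer_singleton_iff]
    refine ⟨fun hx => ?_, fun hx a ha => ?_⟩
    · have := congrArg Subtype.val (hx v rfl)
      rw [hf] at this
      exact (mul_inv_eq_iff_eq_mul.mp this).symm
    · rw [Set.mem_singleton_iff] at ha
      subst ha
      exact Subtype.ext (by rw [hf, ← hx, mul_inv_cancel_right])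
  have hbad : ∀ v : ↥(U ⊔ K), (v : G) ∈ U → ((v : G) ∈ bad S U ↔ fixBy f {v} ≠ ⊥) := by
    intro v hv
    refine ⟨fun hb e => hb.2 ?_, fun hne => ⟨hv, fun e => hne ?_⟩⟩
    · refine (Subgroup.eq_bot_iff_forall _).mpr fun x hx => ?_
      exact congrArg Subtype.val ((Subgroup.eq_bot_iff_forall _).mp e ⟨x, hx.1⟩ ((hfix1 v _).mpr hx.2))
    · refine (Subgroup.eq_bot_iff_forall _).mpr fun x hx => Subtype.ext ?_
      exact (Subgroup.eq_bot_iff_forall _).mp e _ ⟨x.2, (hfix1 v x).mp hx⟩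
  set U' := U.subgroupOf (U ⊔ K) with hU'
  set E := K.subgroupOf (U ⊔ K) with hE
  haveI := h.kdS.comm
  have hF : FrobPair U' E := by
    refine ⟨?_, fun e he u hu => ?_, fun e he he1 u hu hc => ?_, ?_, fun a ha b hb => ?_⟩
    · refine Subgroup.isComplement'_of_coprime ?_ ?_
      · rw [Nat.card_congr (Subgroup.subgroupOfEquivOfLe (le_sup_left (b := K))).toEquiv,
          Nat.card_congr (Subgroup.subgroupOfEquivOfLe (le_sup_right (a := U))).toEquiv]
        exact (OddLocal.isCompl_UK h.hG h.hS h.dS).2.symm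
      · rw [Nat.card_congr (Subgroup.subgroupOfEquivOfLe (le_sup_left (b := K))).toEquiv,
          Nat.card_congr (Subgroup.subgroupOfEquivOfLe (le_sup_right (a := U))).toEquiv]
        exact Nat.coprime_of_dvd fun r hr h1 h2 =>
          (h.kdS.hallU.2.1 r hr h1).2.1 (h.dS.hall.2.1 r hr h2)
    · exact conj_mem_of_le_normalizer (h.dS.normal he) _ hu
    · refine Subtype.ext (Subgroup.mem_bot.mp (h.kdS.fpf e he (fun e' => he1 (Subtype.ext e')) ▸
        ⟨hu, Subgroup.mem_centralizer_singleton_iff.mpr (congrArg Subtype.val hc).symm⟩))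
    · rw [hE, Nat.card_congr (Subgroup.subgroupOfEquivOfLe (le_sup_right (a := U))).toEquiv]
      exact h.primeK
    · have := congrArg Subtype.val (mul_comm' (⟨(a : G), ha⟩ : U) ⟨(b : G), hb⟩)
      exact Subtype.ext this
  have hW : Nat.card (fixBy f (E : Set _)) = Nat.card W := by
    rw [← h.starS]
    refine Nat.card_congr
      { toFun := fun x => ⟨x.1, x.1.2, (hfix K le_sup_right x.1).mp x.2⟩
        invFun := fun x => ⟨⟨x.1, x.2.1⟩, (hfix K le_sup_right _).mpr x.2.2⟩
        left_inv := fun x => rfl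
        right_inv := fun x => rfl }
  haveI := h.W_cyclic
  have hcyc : IsCyclic (fixBy f (E : Set _)) := by
    let ι : fixBy f (E : Set _) →* W :=
      { toFun := fun x => ⟨x.1, h.starS ▸ ⟨x.1.2, (hfix K le_sup_right x.1).mp x.2⟩⟩
        map_one' := rfl
        map_mul' := fun _ _ => rfl }
    exact isCyclic_of_injective ι fun a b e =>
      Subtype.ext (Subtype.ext (congrArg (fun t : W => (t : G)) e))
  have hU'c : Nat.card U' = Nat.card U :=
    Nat.card_congr (Subgroup.subgroupOfEquivOfLe (le_sup_left (b := K))).toEquiv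
  obtain ⟨v₀, hv₀, hv₀p, hv₀f⟩ := h.exists_free_prime
  obtain ⟨ℋ, hlt, hcard, hcov⟩ := exists_bad_cover hF (Nat.card P) f le_rfl
    (by rw [(OddLocal.isCompl_UK h.hG h.hS h.dS).2]
        exact Nat.Coprime.mul_right h.P_coprime_U h.P_coprime_K)
    (h.odd_card P) ⟨⟨v₀, Subgroup.mem_sup_left hv₀⟩, hv₀, by
      rwa [show orderOf (⟨v₀, Subgroup.mem_sup_left hv₀⟩ : ↥(U ⊔ K)) = orderOf v₀ from
        (Subgroup.orderOf_coe _).symm], by
      by_contra hne
      exact hv₀f ((hbad ⟨v₀, Subgroup.mem_sup_left hv₀⟩ hv₀).mpr hne)⟩ hcyc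
    (fun r hr hrd => hU'c.symm ▸ hgcd r hr (hW ▸ hrd))
  refine ⟨ℋ.image fun H => H.map (U ⊔ K).subtype, fun H hH => ?_,
    (Nat.pow_le_pow_right (by omega) Finset.card_image_le).trans (hW ▸ hcard), fun v hv => ?_⟩
  · obtain ⟨H₀, hH₀, rfl⟩ := Finset.mem_image.mp hH
    have h1 := Subgroup.map_subtype_lt_map_subtype.mpr (hlt H₀ hH₀)
    rwa [hU', Subgroup.map_subgroupOf_eq_of_le le_sup_left] at h1
  · obtain ⟨H, hH, hvH⟩ := hcov ⟨v, Subgroup.mem_sup_left hv.1⟩ hv.1
      ((hbad ⟨v, Subgroup.mem_sup_left hv.1⟩ hv.1).mp hv)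
    exact ⟨_, Finset.mem_image_of_mem _ hH, ⟨v, Subgroup.mem_sup_left hv.1⟩, hvH, rfl⟩

/-- The bound given by the cover. -/
theorem bad_mul_le {l : ℕ} (hl : ∀ r : ℕ, r.Prime → r ∣ Nat.card U → l ≤ r)
    (hgcd : ∀ r : ℕ, r.Prime → r ∣ Nat.card W → (r - 1).Coprime (Nat.card U)) :
    ∃ m : ℕ, 3 ^ m ≤ Nat.card W ∧ (bad S U).ncard * l ≤ m * Nat.card U := by
  classical
  haveI : Fintype G := Fintype.ofFinite G
  obtain ⟨ℋ, hlt, hcard, hcov⟩ := h.exists_cover hgcd
  refine ⟨ℋ.card, hcard, ?_⟩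
  have h1 : (bad S U).ncard ≤ ∑ H ∈ ℋ, Nat.card H := by
    have hsub : bad S U ⊆ ↑(ℋ.biUnion fun H => Finset.univ.filter (· ∈ H)) := fun v hv => by
      obtain ⟨H, hH, hvH⟩ := hcov v hv
      simp only [Finset.coe_biUnion, Finset.coe_filter, Finset.mem_univ, true_and, Set.mem_iUnion,
        Set.mem_ofPred_eq, Finset.mem_coe]
      exact ⟨H, hH, hvH⟩
    refine (Set.ncard_le_ncard hsub (Finset.finite_toSet _)).trans ?_
    rw [Set.ncard_coe_finset]
    refine Finset.card_biUnion_le.trans (le_of_eq (Finset.sum_congr rfl fun H _ => ?_))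
    rw [Nat.card_eq_fintype_card, Fintype.card_subtype]
  refine (Nat.mul_le_mul_right l h1).trans ?_
  rw [Finset.sum_mul, ← smul_eq_mul, ← Finset.sum_const]
  refine Finset.sum_le_sum fun H hH => ?_
  have hne : H.relIndex U ≠ 1 := fun e => (hlt H hH).not_ge (Subgroup.relIndex_eq_one.mp e)
  have hmul := Subgroup.relIndex_mul_relIndex ⊥ H U bot_le (hlt H hH).le
  rw [Subgroup.relIndex_bot_left, Subgroup.relIndex_bot_left] at hmul
  obtain ⟨r, hr, hrd⟩ := Nat.exists_prime_and_dvd hne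
  rw [← hmul]
  refine Nat.mul_le_mul_left _ ((hl r hr (hrd.trans ?_)).trans
    (Nat.le_of_dvd (Nat.pos_of_ne_zero Subgroup.index_ne_zero_of_finite) hrd))
  exact hmul ▸ dvd_mul_left _ _

/-- The bound given by a free line. -/
theorem good_mul_ge {l : ℕ} (hl : l.Prime) (hd : l ∣ Nat.card U) :
    (l - 1) * Nat.card U + (bad S U).ncard * l ^ 2 ≤ Nat.card U * l ^ 2 := by
  classical
  haveI : Fintype G := Fintype.ofFinite G
  haveI := Fact.mk hl
  haveI := h.kdS.comm
  letI : CommGroup U := { (inferInstance : Group U) with mul_comm := mul_comm' }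
  obtain ⟨y, hy, e, hye, hmax, hfree⟩ := h.exists_free hl hd
  set a := (Nat.card U).factorization l with ha
  set m := Nat.card U / l ^ a with hm
  have hum : l ^ a * m = Nat.card U := Nat.mul_div_cancel' (Nat.ordProj_dvd _ _)
  let φ : U →* U := powMonoidHom (m * l ^ e)
  have hφl : ∀ v : U, (φ v) ^ l = 1 := by
    intro v
    refine Subtype.ext ?_
    simp only [φ, powMonoidHom_apply, SubmonoidClass.coe_pow, Subgroup.coe_one]
    rw [← pow_mul, mul_assoc, ← pow_succ, pow_mul]
    refine hmax _ (pow_mem v.2 _) ⟨a, ?_⟩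
    rw [← pow_mul, mul_comm, hum]
    exact orderOf_dvd_iff_pow_eq_one.mp (Subgroup.orderOf_dvd_natCard _ v.2)
  have hrange : Nat.card φ.range ≤ l ^ 2 := h.rankU hl hd φ.range
    ⟨⟨fun a b => Subtype.ext (mul_comm (a : U) (b : U))⟩⟩ (by rintro _ ⟨v, rfl⟩; exact hφl v)
  set x : U := φ ⟨y, hy⟩ with hx
  have hzo : orderOf (y ^ l ^ e) = l := by
    rw [orderOf_pow' _ (pow_ne_zero _ hl.pos.ne'), hye,
      Nat.gcd_eq_right (pow_dvd_pow l e.le_succ), pow_succ, Nat.mul_div_cancel_left _ (pow_pos hl.pos e)]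
  have hco : m.Coprime (orderOf (y ^ l ^ e)) := by
    rw [hzo]
    exact (Nat.coprime_ordCompl hl Nat.card_pos.ne').symm
  have hxo : orderOf x = l := by
    rw [← Subgroup.orderOf_coe, hx]
    simp only [φ, powMonoidHom_apply, SubmonoidClass.coe_pow]
    rw [mul_comm m, pow_mul, Nat.Coprime.orderOf_pow hco.symm, hzo]
  have hgood : ∀ v : U, φ v ∈ Subgroup.zpowers x → φ v ≠ 1 → (v : G) ∉ bad S U := by
    intro v hv hv1 hb
    refine hb.2 (le_bot_iff.mp (hfree ▸ ?_))
    intro c hc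
    refine ⟨hc.1, Subgroup.mem_centralizer_singleton_iff.mpr ?_⟩
    have hcom : Commute c (v : G) := Subgroup.mem_centralizer_singleton_iff.mp hc.2
    -- the line of `φ v` is the free line
    have hmem : y ^ l ^ e ∈ Subgroup.zpowers ((φ v : U) : G) := by
      have h1 : Subgroup.zpowers (φ v) = Subgroup.zpowers x :=
        Subgroup.eq_of_le_of_card_ge (Subgroup.zpowers_le.mpr hv) (by
          rw [Nat.card_zpowers, Nat.card_zpowers, hxo, orderOf_eq_prime (hφl v) hv1])
      obtain ⟨i, hi⟩ := exists_pow_eq_self_of_coprime hco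
      have h2 : x ^ i ∈ Subgroup.zpowers (φ v) := h1.symm ▸ pow_mem (Subgroup.mem_zpowers x) i
      obtain ⟨j, hj⟩ := h2
      refine ⟨j, ?_⟩
      have h3 := congrArg Subtype.val hj
      simp only [SubgroupClass.coe_zpow, SubmonoidClass.coe_pow] at h3
      rw [show ((x : U) : G) = (y ^ l ^ e) ^ m by
        rw [hx, ← pow_mul, mul_comm]; rfl, hi] at h3
      exact h3
    obtain ⟨j, hj⟩ := hmem
    rw [← hj]
    refine (Commute.zpow_right ?_ j).eq
    rw [show ((φ v : U) : G) = (v : G) ^ (m * l ^ e) from rfl]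
    exact hcom.pow_right _
  -- the count
  set S₁ := Finset.univ.filter fun v : U => φ v ∈ Subgroup.zpowers x ∧ φ v ≠ 1
  set S₂ := Finset.univ.filter fun v : U => (v : G) ∈ bad S U
  have hdis : Disjoint S₁ S₂ := Finset.disjoint_filter.mpr fun v _ hv hb => hgood v hv.1 hv.2 hb
  have hS₂ : S₂.card = (bad S U).ncard := by
    rw [Set.ncard_eq_toFinset_card' (bad S U)]
    exact Finset.card_bij (fun v _ => (v : G)) (fun v hv => by simpa [S₂] using hv)
      (fun a _ b _ e => Subtype.ext e) fun g hg => by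
        simp only [Set.mem_toFinset] at hg
        exact ⟨⟨g, hg.1⟩, by simpa [S₂] using hg, rfl⟩
  have hS₁ : S₁.card = (l - 1) * Nat.card φ.ker := by
    rw [Finset.card_eq_sum_card_fiberwise (f := φ)
      (t := Finset.univ.filter fun z : U => z ∈ Subgroup.zpowers x ∧ z ≠ 1)
      (fun v hv => by simpa [S₁] using hv)]
    have hfib : ∀ z ∈ (Finset.univ.filter fun z : U => z ∈ Subgroup.zpowers x ∧ z ≠ 1),
        (S₁.filter fun v => φ v = z).card = Nat.card φ.ker := by
      intro z hz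
      simp only [Finset.mem_filter, Finset.mem_univ, true_and] at hz
      obtain ⟨v₀, hv₀⟩ : z ∈ φ.range :=
        (Subgroup.zpowers_le.mpr (show x ∈ φ.range from ⟨_, rfl⟩)) hz.1
      rw [Nat.card_eq_fintype_card, Fintype.card_subtype]
      refine Finset.card_bij (fun v _ => v * v₀⁻¹) (fun v hv => ?_) (fun a _ b _ e => by simpa using e)
        fun k hk => ⟨k * v₀, ?_, by simp⟩
      · simp only [S₁, Finset.mem_filter, Finset.mem_univ, true_and] at hv
        simp [MonoidHom.mem_ker, hv.2, hv₀]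
      · simp only [Finset.mem_filter, Finset.mem_univ, true_and, MonoidHom.mem_ker] at hk
        simp [S₁, hk, hv₀, hz]
    rw [Finset.sum_congr rfl hfib, Finset.sum_const, smul_eq_mul]
    congr 1
    have hc : (Finset.univ.filter fun z : U => z ∈ Subgroup.zpowers x).card = l := by
      rw [← Fintype.card_subtype, ← Nat.card_eq_fintype_card, ← hxo, ← Nat.card_zpowers]
    rw [show (Finset.univ.filter fun z : U => z ∈ Subgroup.zpowers x ∧ z ≠ 1) =
      (Finset.univ.filter fun z : U => z ∈ Subgroup.zpowers x).erase 1 by ext z; simp [and_comm],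
      Finset.card_erase_of_mem (by simp), hc]
  have hker : Nat.card φ.range * Nat.card φ.ker = Nat.card U := by
    rw [← Subgroup.index_ker, Subgroup.index_mul_card]
  have hsum : S₁.card + (bad S U).ncard ≤ Nat.card U := by
    rw [← hS₂, ← Finset.card_union_of_disjoint hdis, Nat.card_eq_fintype_card]
    exact Finset.card_le_univ _
  calc (l - 1) * Nat.card U + (bad S U).ncard * l ^ 2
      ≤ (l - 1) * (l ^ 2 * Nat.card φ.ker) + (bad S U).ncard * l ^ 2 := by
        refine Nat.add_le_add_right (Nat.mul_le_mul_left _ ?_) _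
        rw [← hker]; exact Nat.mul_le_mul_right _ hrange
    _ = (S₁.card + (bad S U).ncard) * l ^ 2 := by rw [hS₁]; ring
    _ ≤ _ := Nat.mul_le_mul_right _ hsum

end TV

end CfsgLib.Peterfalvi.Pair.TypeV
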