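import Cfsg.Agent.Lib.Peterfalvi.Pair.TypeV.GoodSet
import Mathlib.Data.Real.Basic
import Mathlib.Tactic.Linarith
import Mathlib.Tactic.FieldSimp
import Mathlib.Tactic.Positivity

/-!
The arithmetic of the case `|K| < |W|`.
-/

set_option autoImplicit false
set_option linter.style.haveILetI false
set_option linter.unusedSectionVars false

namespace CfsgLib.Peterfalvi.Pair.TypeV

open Cfsg

universe u

/-- Powers of three outgrow multiples. -/
theorem not_four_pow_le {m : ℕ} (hm : 3 ≤ m) : ¬ 4 * 3 ^ m ≤ 18 * m := by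
  intro h
  have : ∀ k, 3 ≤ k → 9 * k ≤ 3 ^ k := by
    intro k hk
    induction k, hk using Nat.le_induction with
    | base => norm_num
    | succ j hj ih => rw [pow_succ]; omega
  have := this m hm
  omega

variable {G : Type u} [Group G] [Finite G] {S T U K W : Subgroup G}

namespace TV

variable (h : TV S T U K W)
include h

/-- The good elements of `U` are too many. -/
theorem false_of_good_le (hlt : Nat.card K < Nat.card W)
    (hle : (1 - 1 / (Nat.card W : ℝ) - ((bad S U).ncard : ℝ) / Nat.card U) / Nat.card K ≤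
      5 * Nat.card W / (2 * Nat.card K * (2 * (Nat.card W : ℝ) - 1) ^ 2)) : False := by
  classical
  set p := Nat.card W with hp
  set q := Nat.card K with hq
  set uu := Nat.card U with huu
  have hq3 : 3 ≤ q := h.three_le h.K_ne
  have hp5 : 5 ≤ p := by
    obtain ⟨i, hi⟩ : Odd q := h.odd_card K
    obtain ⟨j, hj⟩ : Odd p := h.odd_card W
    omega
  have hu0 : (0 : ℝ) < uu := by exact_mod_cast Nat.card_pos
  have hq0 : (0 : ℝ) < q := by exact_mod_cast Nat.card_pos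
  have hp5' : (5 : ℝ) ≤ p := by exact_mod_cast hp5
  set g : ℝ := (uu : ℝ) - ((bad S U).ncard : ℝ) with hg
  have hsq : (0 : ℝ) < (2 * (p : ℝ) - 1) ^ 2 := by
    have : (0 : ℝ) < 2 * (p : ℝ) - 1 := by linarith
    positivity
  -- the bound on the good elements
  have hgood : (p : ℝ) * g * (2 * (p : ℝ) - 1) ^ 2 ≤
      (uu : ℝ) * ((2 * (p : ℝ) - 1) ^ 2 + 5 / 2 * (p : ℝ) ^ 2) := by
    rw [div_le_div_iff₀ hq0 (by positivity)] at hle
    have hp0 : (0 : ℝ) < p := by linarith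
    have e : (1 - 1 / (p : ℝ) - ((bad S U).ncard : ℝ) / uu) * (2 * q * (2 * (p : ℝ) - 1) ^ 2) * (p * uu) =
        ((p : ℝ) * g - uu) * (2 * q * (2 * (p : ℝ) - 1) ^ 2) := by
      rw [hg]; field_simp; ring
    have h2 := mul_le_mul_of_nonneg_right hle (show (0 : ℝ) ≤ p * uu by positivity)
    rw [e] at h2
    have h3 : (q : ℝ) * (((p : ℝ) * g - uu) * (2 * (2 * (p : ℝ) - 1) ^ 2)) ≤
        (q : ℝ) * (5 * (p : ℝ) ^ 2 * uu) := by nlinarith
    have h4 := le_of_mul_le_mul_left h3 hq0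
    nlinarith
  have hgood5 : 5 * (p : ℝ) * g ≤ 9 * uu := by
    by_contra hc
    push Not at hc
    have h1 := mul_lt_mul_of_pos_right hc hsq
    nlinarith [mul_le_mul_of_nonneg_left hp5' (show (0 : ℝ) ≤ (p : ℝ) by linarith),
      mul_nonneg hu0.le (show (0 : ℝ) ≤ 4 * (2 * (p : ℝ) - 1) ^ 2 - 25 / 2 * (p : ℝ) ^ 2 by nlinarith)]
  have hline : ∀ l : ℕ, l.Prime → l ∣ uu → ((l : ℝ) - 1) * uu ≤ g * (l : ℝ) ^ 2 := by
    intro l hl hd
    have h1 := (Nat.cast_le (α := ℝ)).mpr (h.good_mul_ge hl hd)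
    push_cast [Nat.cast_sub hl.one_le] at h1
    rw [hg, huu]; linarith
  have hl5 : ∀ l : ℕ, l.Prime → l ∣ uu → 5 ≤ l := fun l hl hd => by
    have := h.le_prime_U hl hd
    omega
  by_cases hgcd : ∀ r : ℕ, r.Prime → r ∣ p → (r - 1).Coprime uu
  swap
  · push Not at hgcd
    obtain ⟨r, hr, hrp, hco⟩ := hgcd
    obtain ⟨l, hl, hl1, hl2⟩ := Nat.Prime.not_coprime_iff_dvd.mp hco
    have h5 := hl5 l hl hl2
    have h2l : 2 * l + 1 ≤ p := by
      have hlo : Odd l := Odd.of_dvd_nat (h.odd_card U) hl2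
      have hro : Odd r := Odd.of_dvd_nat (h.odd_card W) hrp
      have hrle := Nat.le_of_dvd Nat.card_pos hrp
      obtain ⟨k, hk⟩ := hl1
      obtain ⟨i, hi⟩ := hro
      have hr2 := hr.two_le
      have hkev : 2 ∣ k := by
        refine ((Nat.coprime_two_left.mpr hlo).dvd_of_dvd_mul_left ?_)
        exact ⟨i, by omega⟩
      obtain ⟨k', rfl⟩ := hkev
      have : k' ≠ 0 := fun e => by subst e; omega
      have : 2 * l * 1 ≤ 2 * l * k' := Nat.mul_le_mul_left _ (by omega)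
      have : l * (2 * k') = 2 * l * k' := by ring
      omega
    have hp11 : (11 : ℝ) ≤ p := by exact_mod_cast (show 11 ≤ p by omega)
    have h2l' : 2 * (l : ℝ) + 1 ≤ p := by exact_mod_cast h2l
    have h5' : (5 : ℝ) ≤ l := by exact_mod_cast h5
    have h169 : 100 * (p : ℝ) * g ≤ 169 * uu := by
      by_contra hc
      push Not at hc
      have h1 := mul_lt_mul_of_pos_right hc hsq
      nlinarith [mul_nonneg hu0.le
        (show (0 : ℝ) ≤ 69 * (2 * (p : ℝ) - 1) ^ 2 - 250 * (p : ℝ) ^ 2 by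
          nlinarith [mul_le_mul_of_nonneg_left hp11 (show (0 : ℝ) ≤ (p : ℝ) by linarith)])]
    have h1 := hline l hl hl2
    have h3 : 100 * (p : ℝ) * ((l : ℝ) - 1) * uu ≤ 169 * (l : ℝ) ^ 2 * uu := by
      have h4 := mul_le_mul_of_nonneg_left h1 (show (0 : ℝ) ≤ 100 * (p : ℝ) by linarith)
      have h6 := mul_le_mul_of_nonneg_right h169 (sq_nonneg (l : ℝ))
      nlinarith
    have h4 := le_of_mul_le_mul_right h3 hu0
    nlinarith [mul_le_mul_of_nonneg_right h2l' (show (0 : ℝ) ≤ (l : ℝ) - 1 by linarith),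
      mul_le_mul_of_nonneg_left h5' (show (0 : ℝ) ≤ (l : ℝ) by linarith)]
  obtain ⟨l₀, hl₀, hl₀d, hmin⟩ : ∃ l, l.Prime ∧ l ∣ uu ∧ ∀ r, r.Prime → r ∣ uu → l ≤ r := by
    have hne : uu ≠ 1 := fun e => h.U_ne (Subgroup.card_eq_one.mp e)
    exact ⟨uu.minFac, Nat.minFac_prime hne, Nat.minFac_dvd _, fun r hr hd =>
      Nat.minFac_le_of_dvd hr.two_le hd⟩
  obtain ⟨m, hm, hbad⟩ := h.bad_mul_le hmin hgcd
  have h5 := hl5 l₀ hl₀ hl₀d
  have h5' : (5 : ℝ) ≤ l₀ := by exact_mod_cast h5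
  by_cases hlm : 2 * m ≤ l₀
  · have hb : 2 * ((bad S U).ncard : ℝ) ≤ uu := by
      have h1 : (((bad S U).ncard : ℝ)) * l₀ ≤ m * uu := by exact_mod_cast hbad
      have h2 : 2 * (m : ℝ) ≤ l₀ := by exact_mod_cast hlm
      have h3 : (2 * ((bad S U).ncard : ℝ)) * l₀ ≤ (uu : ℝ) * l₀ := by nlinarith
      exact le_of_mul_le_mul_right h3 (by linarith)
    have : (uu : ℝ) ≤ 2 * g := by rw [hg]; linarith
    nlinarith
  push Not at hlm
  have hm3 : 3 ≤ m := by omega
  refine not_four_pow_le hm3 ?_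
  have h1 := hline l₀ hl₀ hl₀d
  have h3 : 5 * (p : ℝ) * ((l₀ : ℝ) - 1) * uu ≤ 9 * (l₀ : ℝ) ^ 2 * uu := by
    have h4 := mul_le_mul_of_nonneg_left h1 (show (0 : ℝ) ≤ 5 * (p : ℝ) by linarith)
    have h6 := mul_le_mul_of_nonneg_right hgood5 (sq_nonneg (l₀ : ℝ))
    nlinarith
  have h4 := le_of_mul_le_mul_right h3 hu0
  have h6 : 4 * (p : ℝ) * l₀ ≤ 9 * (l₀ : ℝ) * l₀ := by nlinarith
  have h7 : 4 * p ≤ 9 * l₀ := by exact_mod_cast le_of_mul_le_mul_right h6 (by linarith)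
  omega

end TV

end CfsgLib.Peterfalvi.Pair.TypeV
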