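import Cfsg.Agent.Lib.Peterfalvi.Pair.TypeV.LargeFacts
import Mathlib.GroupTheory.NoncommCoprod

/-!
The elements of order prime to `|K|` in the core.
-/

set_option autoImplicit false
set_option linter.style.haveILetI false
set_option linter.unusedSectionVars false

namespace CfsgLib.Peterfalvi.Pair.TypeV

open Cfsg CfsgLib.Char
open CfsgLib.Peterfalvi.Pair (Lin)
open scoped ComplexConjugate CfsgLib.Char Pointwise

universe u

/-- The projection of a nilpotent group to its elements of order prime to `q`. -/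
theorem exists_proj {Γ : Type u} [Group Γ] [Finite Γ] [Group.IsNilpotent Γ] (q : ℕ)
    [hq : Fact q.Prime] :
    ∃ π : Γ →* primeCompl q Γ, (∀ x : primeCompl q Γ, π x = x) ∧
      ∀ x, π x = 1 ↔ ∃ j, x ^ q ^ j = 1 := by
  obtain ⟨hmem, k, hk, hco⟩ := primeCompl_spec q (Γ := Γ)
  obtain ⟨P⟩ : Nonempty (Sylow q Γ) := inferInstance
  set R := primeCompl q Γ
  have hcomm : ∀ (a : (P : Subgroup Γ)) (b : R), Commute (a : Γ) b := by
    intro a b
    obtain ⟨e, he⟩ := P.2 a
    refine Hall.commute_of_coprime_orderOf (p := q) (j := e) ?_ ((hmem _).mp b.2)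
    exact orderOf_dvd_of_pow_eq_one (congrArg Subtype.val he)
  set f : ↥(P : Subgroup Γ) × ↥R →* Γ := (P : Subgroup Γ).subtype.noncommCoprod R.subtype hcomm
  have hinj : Function.Injective f := by
    refine (injective_iff_map_eq_one f).mpr fun ⟨a, b⟩ e => ?_
    change (a : Γ) * b = 1 at e
    obtain ⟨i, hi⟩ := P.2 a
    have h1 : orderOf (b : Γ) ∣ q ^ i := by
      rw [← inv_eq_of_mul_eq_one_right e, orderOf_inv]
      exact orderOf_dvd_of_pow_eq_one (congrArg Subtype.val hi)
    have h2 : (b : Γ) = 1 := orderOf_eq_one_iff.mp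
      (Nat.eq_one_of_dvd_coprimes (((hmem _).mp b.2).pow_right i) dvd_rfl h1)
    rw [h2, mul_one] at e
    exact Prod.ext (Subtype.ext e) (Subtype.ext h2)
  have hsurj : Function.Surjective f := by
    have hbij := (Nat.bijective_iff_injective_and_card f).mpr ⟨hinj, ?_⟩
    · exact hbij.2
    refine le_antisymm (Nat.card_le_card_of_injective f hinj) ?_
    rw [Nat.card_prod, hk, mul_comm (Nat.card (P : Subgroup Γ))]
    refine Nat.mul_le_mul_left _ (Nat.le_of_dvd Nat.card_pos ?_)
    exact P.pow_dvd_card_of_pow_dvd_card (hk ▸ dvd_mul_left _ _)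
  set e := MulEquiv.ofBijective f ⟨hinj, hsurj⟩
  refine ⟨(MonoidHom.snd _ _).comp e.symm.toMonoidHom, fun x => ?_, fun x => ?_⟩
  · show (e.symm (x : Γ)).2 = x
    rw [show (x : Γ) = e (1, x) from (one_mul _).symm, MulEquiv.symm_apply_apply]
  · obtain ⟨⟨a, b⟩, rfl⟩ := hsurj x
    show (e.symm (e (a, b))).2 = 1 ↔ _
    rw [MulEquiv.symm_apply_apply]
    refine ⟨fun hb => ?_, fun ⟨j, hj⟩ => ?_⟩
    · obtain ⟨i, hi⟩ := P.2 a
      change b = 1 at hb
      exact ⟨i, by rw [hb, ← map_pow]; rw [show ((a, (1 : R)) : ↥(P : Subgroup Γ) × ↥R) ^ q ^ i = 1 from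
        Prod.ext hi (one_pow _), map_one]⟩
    · rw [← map_pow] at hj
      have h1 := congrArg Prod.snd ((injective_iff_map_eq_one f).mp hinj _ hj)
      change b ^ q ^ j = 1 at h1
      show b = 1
      refine Subtype.ext (orderOf_eq_one_iff.mp (Nat.eq_one_of_dvd_coprimes
        (((hmem _).mp b.2).pow_right j) dvd_rfl (orderOf_dvd_of_pow_eq_one ?_)))
      exact congrArg Subtype.val h1

variable {G : Type u} [Group G] [Fintype G] {S T U K W : Subgroup G} [Fintype T] [Fintype (QT T)]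

/-- The part of the core of order prime to `|K|`, inside `T`. -/
noncomputable def complT (T K : Subgroup G) : Subgroup T :=
  (primeCompl (Nat.card K) (QT T)).map (QT T).subtype

theorem complT_le : complT T K ≤ QT T := by
  rintro _ ⟨m, -, rfl⟩
  exact m.2

namespace TV

variable (h : TV S T U K W)
include h

theorem mem_complT {x : T} :
    x ∈ complT T K ↔ x ∈ QT T ∧ (orderOf x).Coprime (Nat.card K) := by
  haveI := Fact.mk h.primeK
  haveI := h.nil_QT
  obtain ⟨hmem, -⟩ := primeCompl_spec (Nat.card K) (Γ := QT T)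
  constructor
  · rintro ⟨m, hm, rfl⟩
    exact ⟨m.2, by rw [Subgroup.coe_subtype, Subgroup.orderOf_coe]; exact (hmem m).mp hm⟩
  · rintro ⟨hx, hco⟩
    exact ⟨⟨x, hx⟩, (hmem _).mpr (by rwa [← Subgroup.orderOf_coe]), rfl⟩

theorem complT_normal : (complT T K).Normal := ⟨fun x hx g => by
  rw [h.mem_complT] at hx ⊢
  refine ⟨(normal_QT T).conj_mem x hx.1 g, ?_⟩
  rw [show orderOf (g * x * g⁻¹) = orderOf x from
    orderOf_injective (MulAut.conj g).toMonoidHom (MulAut.conj g).injective x]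
  exact hx.2⟩

theorem complT_meet {x : T} (hx : x ∈ complT T K) (hK : (x : G) ∈ K) : x = 1 := by
  have h1 : orderOf x ∣ Nat.card K := by
    rw [← Subgroup.orderOf_coe]; exact Subgroup.orderOf_dvd_natCard K hK
  exact orderOf_eq_one_iff.mp (Nat.eq_one_of_dvd_coprimes (h.mem_complT.mp hx).2 dvd_rfl h1)

theorem complT_relIndex : ∃ k : ℕ, (complT T K).relIndex (QT T) = Nat.card K ^ k := by
  haveI := Fact.mk h.primeK
  haveI := h.nil_QT
  obtain ⟨k, hk⟩ := IsPGroup.iff_card.mp (isPGroup_quotient (Nat.card K) (Γ := QT T))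
  refine ⟨k, ?_⟩
  rw [complT, Subgroup.relIndex, Subgroup.subgroupOf,
    Subgroup.comap_map_eq_self_of_injective (QT T).subtype_injective]
  exact hk

/-- The degree bound. -/
theorem degree_bound {b : Lin K} {χ : T → ℂ} {δ n : ℤ} {d : ℕ} (hμ : MuData T K W b χ δ n d) :
    Nat.card K * (d * d) ≤ (complT T K).relIndex (QT T) ∧
      Nat.card K * (2 * Nat.card W - 1) ^ 2 ≤ (complT T K).relIndex (QT T) := by
  classical
  haveI := Fact.mk h.primeK
  haveI := h.nil_QT
  haveI := h.complT_normal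
  set R := primeCompl (Nat.card K) (QT T) with hR
  have htriv := h.mu_trivial hμ (complT T K) complT_le fun x hx hK => h.complT_meet hx hK
  have hker : ∀ u ∈ R, (fun m : QT T => χ m) u = (fun m : QT T => χ m) 1 := fun u hu => by
    show χ u = χ ((1 : QT T) : T)
    rw [htriv (u : T) ⟨u, hu, rfl⟩, Subgroup.coe_one]
  obtain ⟨η, hη⟩ := Blocks.exists_inflate_eq_of_ker R ⟨_, hμ.res_irr⟩ hker
  have hη1 : (η : QT T ⧸ R → ℂ) 1 = d := by
    have h1 := congrFun (congrArg Subtype.val hη) 1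
    simp only [Blocks.inflate, Function.comp_apply, map_one, Subgroup.coe_one, hμ.deg] at h1
    exact h1.symm
  haveI : Nontrivial (QT T ⧸ R) := QuotientGroup.nontrivial_iff.mpr fun e => by
    obtain ⟨⟨y, hy⟩, hy1⟩ := (Subgroup.ne_bot_iff_exists_ne_one).1 h.K_ne
    set y' : QT T := ⟨⟨y, h.Q_le (h.K_le_Q hy)⟩, Subgroup.mem_subgroupOf.mpr (h.K_le_Q hy)⟩
    have h1 : ((y' : T) : T) ∈ complT T K := ⟨y', by rw [SetLike.mem_coe, ← hR, e]; exact Subgroup.mem_top _, rfl⟩
    exact hy1 (Subtype.ext (congrArg (fun t : T => (t : G)) (h.complT_meet h1 hy)))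
  have hP := isPGroup_quotient (Nat.card K) (Γ := QT T)
  have hz := hP.center_nontrivial
  obtain ⟨j, hj0, hj⟩ := (hP.to_subgroup (Subgroup.center (QT T ⧸ R))).nontrivial_iff_card.mp hz
  have hqZ : Nat.card K ≤ Nat.card (Subgroup.center (QT T ⧸ R)) := by
    rw [hj]; exact Nat.le_self_pow hj0.ne' _
  have hb := Codegree.sq_degree_le_index η.2 (Subgroup.center (QT T ⧸ R)) le_rfl hη1
  have hA : (complT T K).relIndex (QT T) = Nat.card (QT T ⧸ R) := by
    rw [complT, Subgroup.relIndex, Subgroup.subgroupOf,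
    Subgroup.comap_map_eq_self_of_injective (QT T).subtype_injective]
    rfl
  have h1 : Nat.card K * (d * d) ≤ (complT T K).relIndex (QT T) := by
    rw [hA, ← (Subgroup.center (QT T ⧸ R)).card_mul_index]
    exact Nat.mul_le_mul hqZ hb
  refine ⟨h1, le_trans (Nat.mul_le_mul_left _ ?_) h1⟩
  have h2 := h.mu_degree hμ
  rw [pow_two]
  exact Nat.mul_le_mul (by omega) (by omega)

end TV

end CfsgLib.Peterfalvi.Pair.TypeV
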