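import Cfsg.Agent.Lib.Peterfalvi.Pair.TypeV.LargeTest
import Cfsg.Agent.Lib.Peterfalvi.Pair.TypeV.LargeSplit
import Cfsg.Agent.Lib.Peterfalvi.Pair.TypeV.Engine

/-!
The case of a core which is not of prime power order.
-/

set_option autoImplicit false
set_option linter.style.haveILetI false
set_option linter.unusedSectionVars false

namespace CfsgLib.Peterfalvi.Pair.TypeV

open Cfsg CfsgLib.Char
open CfsgLib.Peterfalvi.Pair (Lin IsGrid tilde exists_grid exists_conj_coset)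
open scoped ComplexConjugate CfsgLib.Char Pointwise commutatorElement

universe u

variable {G : Type u} [Group G] [Fintype G] {S T U K W : Subgroup G} [Fintype T] [Fintype (QT T)]

namespace TV

variable (h : TV S T U K W)
include h

/-- The layer of the abelianised part of order prime to `|K|`. -/
theorem compl_layer [(complT T K).Normal] :
    Layer T K W ⁅complT T K, complT T K⁆ (complT T K) := by
  classical
  haveI := Fact.mk h.primeK
  haveI := h.nil_QT
  set R := complT T K with hR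
  have hfix : ∀ w : T, (w : G) ∈ W → w ≠ 1 → ∀ x ∈ R, x * w = w * x → x = 1 := fun w hw hw1 x hx hc => by
    refine h.complT_meet hx ?_
    rw [← h.Q_fix hw fun e => hw1 (Subtype.ext e)]
    exact ⟨Subgroup.mem_subgroupOf.mp (complT_le hx),
      Subgroup.mem_centralizer_singleton_iff.mpr (congrArg Subtype.val hc)⟩
  refine ⟨Subgroup.commutator_le_left _ _, complT_le, fun x hx y hy => ?_, fun w hw hw1 x hx hc => ?_,
    h.complT_relIndex⟩
  · obtain ⟨π, hπ, hker⟩ := exists_proj (Γ := QT T) (Nat.card K)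
    obtain ⟨m, hm, rfl⟩ := hx
    obtain ⟨y, rfl⟩ : ∃ y' : QT T, (y' : T) = y := ⟨⟨y, hy⟩, rfl⟩
    set r : QT T := (π y : QT T) with hr
    set a : QT T := y * r⁻¹ with ha
    have ha1 : π a = 1 := by rw [ha, map_mul, map_inv, hr, hπ (π y), mul_inv_cancel]
    obtain ⟨j, hj⟩ := (hker a).mp ha1
    have hcom : Commute (m : QT T) a :=
      (Hall.commute_of_coprime_orderOf (p := Nat.card K) (j := j) (orderOf_dvd_of_pow_eq_one hj)
        (((primeCompl_spec (Nat.card K)).1 m).mp hm)).symm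
    have e : m * y * m⁻¹ * y⁻¹ = a * (m * r * m⁻¹ * r⁻¹) * a⁻¹ := by
      have hy' : y = a * r := by rw [ha]; group
      rw [hy', show m * (a * r) * m⁻¹ = (m * a) * (r * m⁻¹) by group, hcom.eq]; group
    show ((QT T).subtype m) * (y : T) * ((QT T).subtype m)⁻¹ * (y : T)⁻¹ ∈ _
    rw [show ((QT T).subtype m) * (y : T) * ((QT T).subtype m)⁻¹ * (y : T)⁻¹ =
      ((m * y * m⁻¹ * y⁻¹ : QT T) : T) by push_cast; rfl, e]
    simp only [Subgroup.coe_mul, Subgroup.coe_inv]
    refine Subgroup.Normal.conj_mem inferInstance _ ?_ _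
    rw [← commutatorElement_def]
    exact Subgroup.commutator_mem_commutator ⟨m, hm, rfl⟩ ⟨(π y : QT T), (π y).2, rfl⟩
  · set N0 := ⁅R, R⁆
    have hco : (Nat.card N0).Coprime (orderOf w) := by
      refine (h.hall_coprime.coprime_dvd_left ?_).coprime_dvd_right ?_
      · rw [← h.QT_card]
        exact Subgroup.card_dvd_of_le ((Subgroup.commutator_le_left _ _).trans complT_le)
      · rw [← Subgroup.orderOf_coe]; exact Subgroup.orderOf_dvd_natCard W hw
    obtain ⟨e, he, y, hy, hyw, heq⟩ := exists_conj_coset (X := N0) (s := w)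
      (by rw [Subgroup.normalizer_eq_top (H := N0)]; exact Subgroup.mem_top _) hco hc
    have hy1 := hfix w hw hw1 y (Subgroup.commutator_le_left _ _ hy) hyw
    rw [hy1, one_mul] at heq
    have h1 : e * x * w = w * (e * x) := by
      calc e * x * w = e * (x * w * x⁻¹ * w⁻¹ * w) * e⁻¹ * (e * x) := by group
        _ = w * (e * x) := by rw [heq]
    have h2 := hfix w hw hw1 (e * x) (mul_mem (Subgroup.commutator_le_left _ _ he) hx) h1
    rw [eq_inv_of_mul_eq_one_right h2]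
    exact inv_mem he

/-- The test inequality when the core is not of prime power order. -/
theorem bound_of_compl (hlt : Nat.card K < Nat.card W) (hR : primeCompl (Nat.card K) (QT T) ≠ ⊥) :
    (1 - 1 / (Nat.card W : ℝ) - ((bad S U).ncard : ℝ) / Nat.card U) / Nat.card K ≤
      5 * Nat.card W / (2 * Nat.card K * (2 * (Nat.card W : ℝ) - 1) ^ 2) := by
  classical
  haveI := Fact.mk h.primeK
  haveI := h.nil_QT
  haveI := h.complT_normal
  set R' := primeCompl (Nat.card K) (QT T) with hR'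
  set R := complT T K with hRdef
  set N0 := ⁅R, R⁆ with hN0
  have hmemR : ∀ m : QT T, (m : T) ∈ R ↔ m ∈ R' := fun m => by
    rw [hRdef, complT]; exact Subgroup.mem_map_iff_mem (QT T).subtype_injective
  have hlayer := h.compl_layer
  rw [← hRdef, ← hN0] at hlayer
  obtain ⟨π, hπ, hker⟩ := exists_proj (Γ := QT T) (Nat.card K)
  -- a linear character trivial on the complement
  have hne : commutator (QT T ⧸ R') ≠ ⊥ :=
    h.commutator_quot_ne R' fun x hx => ((primeCompl_spec (Nat.card K)).1 x).mp hx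
  have hRtop : R' ≠ ⊤ := fun e => hne (by
    haveI : Subsingleton (QT T ⧸ R') := QuotientGroup.subsingleton_iff.mpr e
    exact Subsingleton.elim _ _)
  obtain ⟨θ₀, hθ₀, hθ₀1, hθ₀ne, hθ₀R⟩ := Descent.exists_linear R' hRtop
  set ϑ₀ := linearHom (isCharacter_of_isIrr hθ₀) hθ₀1
  have h₀ : ϑ₀ ≠ 1 := fun e => hθ₀ne (funext fun m => by
    rw [← linearHom_apply (isCharacter_of_isIrr hθ₀) hθ₀1 m]
    simp [ϑ₀] at e
    rw [e, MonoidHom.one_apply, Units.val_one])
  have h₀R : ∀ m : QT T, (m : T) ∈ R → ϑ₀ m = 1 := fun m hm => Units.ext (by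
    rw [linearHom_apply, hθ₀R m ((hmemR m).mp hm), hθ₀1, Units.val_one])
  -- a linear member of the layer
  obtain ⟨θ₁, hθ₁, hθ₁1, hθ₁ne, -⟩ := Descent.exists_linear (⊥ : Subgroup R') (fun e => hR (by
    have := congrArg (Subgroup.map R'.subtype) e
    rw [Subgroup.map_bot, ← MonoidHom.range_eq_map, Subgroup.range_subtype] at this
    exact this.symm))
  set f := linearHom (isCharacter_of_isIrr hθ₁) hθ₁1 with hf
  set ϑ₁ : QT T →* ℂˣ := f.comp π with hϑ₁
  obtain ⟨m₀, hm₀⟩ : ∃ m₀ : R', f m₀ ≠ 1 := by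
    by_contra hc
    push Not at hc
    refine hθ₁ne (funext fun m => ?_)
    rw [← linearHom_apply (isCharacter_of_isIrr hθ₁) hθ₁1 m, ← hf, hc m, Units.val_one]
  have hm₀' : ϑ₁ m₀ ≠ 1 := by rwa [hϑ₁, MonoidHom.comp_apply, hπ]
  have hϑ₁1 : ϑ₁ ≠ 1 := fun e => hm₀' (by rw [e, MonoidHom.one_apply])
  have hN0c : ∀ m : QT T, (m : T) ∈ N0 → m ∈ commutator (QT T) := fun m hm => by
    have h1 : ⁅R, R⁆ ≤ ⁅QT T, QT T⁆ := Subgroup.commutator_mono complT_le complT_le
    have h2 := h1 hm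
    rw [← Subgroup.map_subtype_commutator] at h2
    exact (Subgroup.mem_map_iff_mem (QT T).subtype_injective).mp h2
  have hmem₁ : InLayer N0 R (lf ϑ₁) := by
    refine ⟨isIrr_lf _, fun a ha => ?_, (m₀ : QT T), (hmemR _).mpr m₀.2, ?_⟩
    · show ((ϑ₁ a : ℂˣ) : ℂ) = ((ϑ₁ 1 : ℂˣ) : ℂ)
      rw [map_one, MonoidHom.mem_ker.mp (Abelianization.commutator_subset_ker ϑ₁ (hN0c a ha))]
    · show ((ϑ₁ m₀ : ℂˣ) : ℂ) ≠ ((ϑ₁ 1 : ℂˣ) : ℂ)
      rw [map_one]
      exact fun e => hm₀' (Units.ext e)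
  have hζne : zeta T ϑ₁ ≠ zeta T ϑ₀ := by
    intro e
    obtain ⟨g, hg⟩ := (mem_orbit (QT T)).mp
      ((Descent.indFun_eq_iff (QT T) (isIrr_lf ϑ₀) (isIrr_lf ϑ₁)).mp e)
    refine hm₀' (Units.ext ?_)
    show lf ϑ₁ m₀ = ((1 : ℂˣ) : ℂ)
    rw [← hg, conjBy_apply]
    show ((ϑ₀ _ : ℂˣ) : ℂ) = _
    rw [h₀R _ (Subgroup.Normal.conj_mem inferInstance _ ((hmemR _).mpr m₀.2) g)]
  obtain ⟨η, hη⟩ := exists_grid h.wsn (h.odd_card K) (h.odd_card W)
  obtain ⟨b, hb⟩ : ∃ b : Lin K, b ≠ 1 := by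
    refine Fintype.exists_ne_of_one_lt_card ?_ 1
    rw [hη.cardJ]; exact h.primeK.one_lt
  obtain ⟨χ, δ, n, d, hμ⟩ := h.exists_mu hb
  obtain ⟨ψ, hψ⟩ := h.exists_psi h₀
  obtain ⟨a, ha⟩ := exists_int_classInner (h.dmap_gen (h.base_gen ϑ₀) (h.base_vanish ϑ₀)) hψ.gen
  obtain ⟨D, e, hd⟩ := h.exists_resData hlt h₀ hψ ha
  set s := shift T D e with hsdef
  obtain ⟨hs0, -⟩ := h.shift_le hlt h₀ hψ hd
  rw [← hsdef] at hs0
  -- the coefficients on the layer
  have hcoef : ∀ θ, InLayer N0 R θ → classInner (resZero T ψ) θ = -(s : ℂ) * θ 1 := by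
    intro θ hθ
    have h1 := h.engine hlayer hlt h₀ hψ h₀R hθ hmem₁
    rw [hd.lin₀ hϑ₁1, if_neg hζne, show lf ϑ₁ 1 = 1 by simp [lf], one_mul, ← hsdef] at h1
    rw [h1]; push_cast; ring
  -- the members of the layer
  set Mem := (Finset.univ.filter fun θ : IrrCharacter (QT T) => InLayer N0 R (θ : QT T → ℂ)).image
    (Subtype.val : IrrCharacter (QT T) → QT T → ℂ) with hMem
  have hMemiff : ∀ θ, θ ∈ Mem ↔ InLayer N0 R θ := fun θ => by
    simp only [hMem, Finset.mem_image, Finset.mem_filter, Finset.mem_univ, true_and]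
    exact ⟨fun ⟨θ', h1, e'⟩ => e' ▸ h1, fun h1 => ⟨⟨θ, h1.1⟩, h1, rfl⟩⟩
  set A := R.relIndex (QT T) with hA
  set r := N0.relIndex R with hr
  have hN0R : N0 ≤ R := Subgroup.commutator_le_left _ _
  have hsum : ∑ θ ∈ Mem, ‖θ 1‖ ^ 2 = (A : ℝ) * ((r : ℝ) - 1) := by
    rw [hMem, Finset.sum_image fun _ _ _ _ e' => Subtype.ext e', Finset.sum_filter]
    have hA0 := TIKernel.sum_sq_constant (N0.subgroupOf (QT T))
    have hA1 := TIKernel.sum_sq_constant (R.subgroupOf (QT T))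
    refine Complex.ofReal_injective ?_
    have e1 : (N0.subgroupOf (QT T)).index = r * A :=
      (Subgroup.relIndex_mul_relIndex N0 R (QT T) hN0R complT_le).symm
    rw [e1] at hA0
    rw [show (R.subgroupOf (QT T)).index = A from rfl] at hA1
    push_cast at hA0 ⊢
    rw [show (A : ℂ) * ((r : ℂ) - 1) = (r : ℂ) * A - A by ring, ← hA0, ← hA1, ← Finset.sum_sub_distrib]
    refine Finset.sum_congr rfl fun θ _ => ?_
    obtain ⟨k, hk, -⟩ := exists_degree_dvd_card θ.2
    have hsub : (∃ k : QT T, k ∈ N0.subgroupOf (QT T) ∧ (θ : QT T → ℂ) k ≠ (θ : QT T → ℂ) 1) →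
        ∃ k : QT T, k ∈ R.subgroupOf (QT T) ∧ (θ : QT T → ℂ) k ≠ (θ : QT T → ℂ) 1 :=
      fun ⟨k, h1, h2⟩ => ⟨k, Subgroup.mem_subgroupOf.mpr (hN0R (Subgroup.mem_subgroupOf.mp h1)), h2⟩
    have hiff : InLayer N0 R (θ : QT T → ℂ) ↔
        (∃ k : QT T, k ∈ R.subgroupOf (QT T) ∧ (θ : QT T → ℂ) k ≠ (θ : QT T → ℂ) 1) ∧
        ¬ ∃ k : QT T, k ∈ N0.subgroupOf (QT T) ∧ (θ : QT T → ℂ) k ≠ (θ : QT T → ℂ) 1 := by
      constructor
      · rintro ⟨-, h1, m, hm, h2⟩
        exact ⟨⟨m, Subgroup.mem_subgroupOf.mpr hm, h2⟩, fun ⟨k, hk', h3⟩ =>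
          h3 (h1 k (Subgroup.mem_subgroupOf.mp hk'))⟩
      · rintro ⟨⟨m, hm, h2⟩, h1⟩
        refine ⟨θ.2, fun k hk' => ?_, m, Subgroup.mem_subgroupOf.mp hm, h2⟩
        by_contra h3
        exact h1 ⟨k, Subgroup.mem_subgroupOf.mpr hk', h3⟩
    by_cases hb0 : ∃ k : QT T, k ∈ N0.subgroupOf (QT T) ∧ (θ : QT T → ℂ) k ≠ (θ : QT T → ℂ) 1
    · rw [if_pos hb0, if_pos (hsub hb0), if_neg fun hc => (hiff.mp hc).2 hb0]; simp
    by_cases hb1 : ∃ k : QT T, k ∈ R.subgroupOf (QT T) ∧ (θ : QT T → ℂ) k ≠ (θ : QT T → ℂ) 1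
    · rw [if_neg hb0, if_pos hb1, if_pos (hiff.mpr ⟨hb1, hb0⟩), hk, Complex.norm_natCast]
      push_cast; ring
    · rw [if_neg hb0, if_neg hb1, if_neg fun hc => hb1 (hiff.mp hc).1]; simp
  -- the number of cosets
  have hr1 : r ≠ 1 := fun e' => by
    obtain ⟨m, hm, hne'⟩ := hmem₁.2.2
    exact hne' (hmem₁.2.1 m (Subgroup.relIndex_eq_one.mp e' hm))
  have hdvd : Nat.card W ∣ r - 1 := by
    set πq := QuotientGroup.mk' N0
    have hsurj : Function.Surjective πq := QuotientGroup.mk'_surjective N0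
    haveI : (R.map πq).Normal := Subgroup.Normal.map inferInstance πq hsurj
    have hc : Nat.card (R.map πq) = r := by
      rw [← Subgroup.relIndex_bot_left, ← Subgroup.relIndex_comap, MonoidHom.comap_bot,
        QuotientGroup.ker_mk']
    rw [← hc]
    refine Descent.dvd_card_sub_one _ _ fun x hx hx1 => ?_
    obtain ⟨x, hxR, rfl⟩ := hx
    have hcent : Subgroup.centralizer ({πq x} : Set (T ⧸ N0)) = (QT T).map πq := by
      apply le_antisymm
      · intro y hy
        obtain ⟨g, rfl⟩ := hsurj y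
        obtain ⟨m, hm, w, hw, rfl⟩ := h.exists_decomp g
        rw [Subgroup.mem_centralizer_singleton_iff] at hy
        by_cases hw1 : w = 1
        · rw [hw1, mul_one]; exact Subgroup.mem_map_of_mem _ hm
        exfalso
        refine hx1 ((QuotientGroup.eq_one_iff _).mpr (hlayer.fix w hw hw1 x hxR ?_))
        have hm' : πq x * πq m = πq m * πq x := by
          have h1 := (QuotientGroup.eq_one_iff _).mpr (hlayer.central x hxR m hm)
          change πq (x * m * x⁻¹ * m⁻¹) = 1 at h1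
          simp only [map_mul, map_inv] at h1
          rwa [mul_inv_eq_one, mul_inv_eq_iff_eq_mul] at h1
        rw [map_mul, mul_assoc (πq m), ← mul_assoc (πq x), hm', mul_assoc (πq m),
          mul_right_inj] at hy
        refine (QuotientGroup.eq_one_iff _).mp ?_
        show πq (x * w * x⁻¹ * w⁻¹) = 1
        rw [map_mul, map_mul, map_mul, map_inv, map_inv, ← hy]; group
      · rintro _ ⟨g, hg, rfl⟩
        rw [Subgroup.mem_centralizer_singleton_iff]
        have h1 := (QuotientGroup.eq_one_iff _).mpr (hlayer.central x hxR g hg)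
        change πq (x * g * x⁻¹ * g⁻¹) = 1 at h1
        simp only [map_mul, map_inv] at h1
        rw [mul_inv_eq_one, mul_inv_eq_iff_eq_mul] at h1
        exact h1.symm
    rw [hcent, Subgroup.index_map_eq _ hsurj (by rw [QuotientGroup.ker_mk']; exact hN0R.trans complT_le),
      h.index_QT]
  have hr2p : 2 * Nat.card W + 1 ≤ r := by
    have hr0 : 0 < r := Nat.pos_of_ne_zero Subgroup.index_ne_zero_of_finite
    have hrodd : Odd r := (h.odd_card T).of_dvd_nat
      ((Subgroup.relIndex_dvd_card N0 R).trans (Subgroup.card_subgroup_dvd_card R))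
    obtain ⟨i, hi⟩ := hrodd
    have h2 : 2 * Nat.card W ∣ r - 1 :=
      (Nat.coprime_two_left.mpr (h.odd_card W)).mul_dvd_of_dvd_of_dvd ⟨i, by omega⟩ hdvd
    have := Nat.le_of_dvd (by omega) h2
    omega
  -- Bessel
  set F := Mem.filter fun θ => θ 1 ≠ 1 with hF
  have hbes := h.bessel_res h₀ hd F fun θ hθ => by
    obtain ⟨h1, h2⟩ := Finset.mem_filter.mp hθ
    exact ⟨((hMemiff θ).mp h1).1, h2⟩
  rw [← hsdef] at hbes
  set M := (linSet T).card with hM
  set p := Nat.card W with hp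
  set N := resNorm T ψ with hN
  have hNp := (h.res_norm_ineq hlt hψ.gen hψ.self).1
  rw [← hN, ← hp] at hNp
  have hlin : ((Mem.filter fun θ => ¬ θ 1 ≠ 1).card : ℝ) ≤ M := by
    rw [hM, ← Finset.card_image_of_injective (linSet T) (f := lf) fun _ _ e' => lf_inj e']
    refine Nat.cast_le.mpr (Finset.card_le_card fun θ hθ => ?_)
    obtain ⟨h1, h2⟩ := Finset.mem_filter.mp hθ
    rw [not_not] at h2
    obtain ⟨hirr, -, m, -, hne'⟩ := (hMemiff θ).mp h1
    set g := linearHom (isCharacter_of_isIrr hirr) h2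
    have he' : lf g = θ := funext fun x => linearHom_apply _ h2 x
    refine Finset.mem_image.mpr ⟨g, mem_linSet.mpr fun e' => hne' ?_, he'⟩
    rw [← he', e']; simp [lf]
  have hweight : s ^ 2 * ((A : ℝ) * ((r : ℝ) - 1)) ≤
      (M : ℝ) * s ^ 2 + ∑ θ ∈ F, ‖classInner (resZero T ψ) θ‖ ^ 2 := by
    rw [← hsum, ← Finset.sum_filter_add_sum_filter_not Mem (fun θ => θ 1 ≠ 1), mul_add, add_comm]
    refine add_le_add ?_ (le_of_eq ?_)
    · rw [Finset.sum_congr rfl fun θ hθ => by rw [not_not.mp (Finset.mem_filter.mp hθ).2],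
        Finset.sum_const, norm_one, one_pow, nsmul_one, mul_comm]
      exact mul_le_mul_of_nonneg_right hlin (sq_nonneg s)
    · rw [Finset.mul_sum]
      refine Finset.sum_congr rfl fun θ hθ => ?_
      rw [hcoef θ ((hMemiff θ).mp (Finset.mem_filter.mp hθ).1), norm_mul, norm_neg, Complex.norm_real,
        Real.norm_eq_abs, mul_pow, sq_abs]
  obtain ⟨hdeg, hbig⟩ := h.degree_bound hμ
  rw [← hRdef, ← hA] at hdeg hbig
  rw [← hp] at hbig
  have hd2 : 2 * p ≤ d + 1 := h.mu_degree hμ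
  have hp3 : (3 : ℝ) ≤ p := by exact_mod_cast h.three_le h.W_ne
  have hp0 : (0 : ℝ) < p := by linarith
  have hq3 : (3 : ℝ) ≤ Nat.card K := by exact_mod_cast h.three_le h.K_ne
  have hd5 : (5 : ℝ) ≤ d := by exact_mod_cast (show 5 ≤ d by have := h.three_le h.W_ne; omega)
  have hdeg' : (Nat.card K : ℝ) * ((d : ℝ) * d) ≤ A := by exact_mod_cast hdeg
  have hbig' : (Nat.card K : ℝ) * (2 * (p : ℝ) - 1) ^ 2 ≤ A := by
    have := (Nat.cast_le (α := ℝ)).mpr hbig
    push_cast [Nat.cast_sub (show 1 ≤ 2 * p by have := h.three_le h.W_ne; omega)] at this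
    exact this
  have hA0 : (0 : ℝ) < A := by nlinarith
  have hr2p' : 2 * (p : ℝ) ≤ (r : ℝ) - 1 := by
    have : (2 : ℝ) * p + 1 ≤ r := by exact_mod_cast hr2p
    linarith
  have hW : s ^ 2 * ((A : ℝ) * (2 * p)) ≤ 2 * p * s - ((p : ℝ) - N) := by
    have h1 := mul_le_mul_of_nonneg_left (mul_le_mul_of_nonneg_left hr2p' hA0.le) (sq_nonneg s)
    nlinarith [sq_nonneg ((a : ℝ) + 1 - s)]
  have hsA : s * A ≤ 1 := by
    rcases hs0.eq_or_lt with e' | e'
    · rw [← e']; simp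
    · have h1 : s * (2 * p) * (s * A) ≤ s * (2 * p) * 1 := by nlinarith
      exact le_of_mul_le_mul_left h1 (by positivity)
  have hsd : s * ((d : ℝ) + 1) < (p : ℝ) / 2 := by
    have h1 : (d : ℝ) + 1 ≤ A := by nlinarith
    have h2 : s * ((d : ℝ) + 1) ≤ 1 := (mul_le_mul_of_nonneg_left h1 hs0).trans hsA
    linarith
  have htest := h.test_of_small hlt h₀ hη hψ hd ha hb hμ (r := (p : ℝ) / 2) (by linarith)
    (by
      rw [← hsdef, ← hp]
      have hA6 : (6 : ℝ) ≤ A := by nlinarith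
      have h1 : s * 6 ≤ 1 := (mul_le_mul_of_nonneg_left hA6 hs0).trans hsA
      nlinarith)
    (by rw [← hsdef, ← hp]; linarith)
  refine htest.trans ?_
  rw [← hN, ← hp]
  have hrem : (p : ℝ) - N ≤ (p : ℝ) / (2 * A) := by
    rw [le_div_iff₀ (by positivity)]
    nlinarith [sq_nonneg (2 * (A : ℝ) * s - 1)]
  rw [show 1 - N / (p : ℝ) = ((p : ℝ) - N) / p by field_simp, div_le_iff₀ hp0]
  refine hrem.trans ?_
  rw [show 5 * (p : ℝ) / (2 * Nat.card K * (2 * (p : ℝ) - 1) ^ 2) * p =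
    5 * (p : ℝ) ^ 2 / (2 * (Nat.card K * (2 * (p : ℝ) - 1) ^ 2)) by ring]
  have hpos : (0 : ℝ) < Nat.card K * (2 * (p : ℝ) - 1) ^ 2 := by
    have : (0 : ℝ) < 2 * (p : ℝ) - 1 := by linarith
    positivity
  refine le_trans (div_le_div_of_nonneg_left hp0.le (by positivity) (mul_le_mul_of_nonneg_left hbig' zero_le_two))
    (div_le_div_of_nonneg_right ?_ (by positivity))
  nlinarith

end TV

end CfsgLib.Peterfalvi.Pair.TypeV
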