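import Cfsg.Agent.Lib.Peterfalvi.Pair.TypeV.Beta
import Cfsg.Agent.Lib.Peterfalvi.Pair.TypeV.Bound
import Cfsg.Agent.Lib.Peterfalvi.Pair.TypeV.Counts
import Cfsg.Agent.Lib.Peterfalvi.Pair.TypeV.ArithSmall
import Cfsg.Agent.Lib.Char.Codegree

/-!
`|W| < |K|` is impossible.
-/

set_option autoImplicit false
set_option linter.style.haveILetI false
set_option linter.unusedSectionVars false

namespace CfsgLib.Peterfalvi.Pair.TypeV

open Cfsg CfsgLib.Char
open CfsgLib.BG.FixedLine (conj_mem_of_le_normalizer)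
open CfsgLib.Peterfalvi.Pair (Lin IsGrid exists_grid)
open scoped ComplexConjugate CfsgLib.Char Pointwise commutatorElement

universe u

variable {G : Type u} [Group G] [Fintype G] {S T U K W : Subgroup G}

/-- A nilpotent group with nontrivial derived subgroup has a nonlinear character of degree
squared at most the index of the derived subgroup. -/
theorem exists_small_nonlinear {Γ : Type u} [Group Γ] [Finite Γ] [hn : Group.IsNilpotent Γ]
    (hne : commutator Γ ≠ ⊥) :
    ∃ θ : Γ → ℂ, IsIrrCharacter Γ θ ∧ ∃ d : ℕ, θ 1 = d ∧ 2 ≤ d ∧ d * d ≤ (commutator Γ).index := by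
  classical
  set C := commutator Γ with hC
  set D : Subgroup Γ := ⁅C, (⊤ : Subgroup Γ)⁆ with hD
  haveI : D.Normal := inferInstance
  have hlt : ¬ C ≤ D := by
    intro hle
    have hall : ∀ n, C ≤ (⊤ : Subgroup Γ).lowerCentralSeries n := by
      intro n
      induction n with
      | zero => rw [Subgroup.lowerCentralSeries_zero]; exact le_top
      | succ k ih =>
        rw [Subgroup.lowerCentralSeries_succ]
        exact hle.trans (Subgroup.commutator_mono ih le_rfl)
    obtain ⟨n, hn'⟩ := Subgroup.nilpotent_iff_lowerCentralSeries.mp hn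
    exact hne (le_bot_iff.mp (hn' ▸ hall n))
  obtain ⟨u, huC, huD⟩ := SetLike.not_le_iff_exists.mp hlt
  haveI : Fintype (Γ ⧸ D) := Fintype.ofFinite _
  obtain ⟨χ, hχ⟩ : ∃ χ : IrrCharacter (Γ ⧸ D),
      (χ : Γ ⧸ D → ℂ) (u : Γ ⧸ D) ≠ (χ : Γ ⧸ D → ℂ) 1 := by
    by_contra hc
    push Not at hc
    exact huD ((QuotientGroup.eq_one_iff u).mp (eq_one_of_forall_irr hc))
  obtain ⟨d, hd, hd0, -⟩ := exists_degree_dvd_card χ.2
  set π := QuotientGroup.mk' D with hπ
  have hπs := QuotientGroup.mk'_surjective D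
  set Z := C.map π with hZ
  have hZc : Z ≤ Subgroup.center (Γ ⧸ D) := by
    rintro _ ⟨c, hc, rfl⟩
    refine Subgroup.mem_center_iff.mpr fun g => ?_
    obtain ⟨g, rfl⟩ := hπs g
    rw [← map_mul, ← map_mul, hπ, QuotientGroup.mk'_eq_mk']
    refine ⟨(g * c)⁻¹ * (c * g), ?_, mul_inv_cancel_left _ _⟩
    have : (g * c)⁻¹ * (c * g) = ⁅c⁻¹, g⁻¹⁆ := by rw [commutatorElement_def]; group
    rw [this]
    exact Subgroup.commutator_mem_commutator (inv_mem hc) (Subgroup.mem_top _)
  have hidx : Z.index ≤ C.index := by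
    rw [hZ, hπ, Subgroup.index_map_eq _ hπs (by rw [QuotientGroup.ker_mk']; exact Subgroup.commutator_le_left _ _)]
  refine ⟨fun g => (χ : Γ ⧸ D → ℂ) (π g), isIrrCharacter_comp hπs χ.2, d, by simp [hd], ?_,
    (Codegree.sq_degree_le_index χ.2 Z hZc hd).trans hidx⟩
  by_contra hd1
  have hd1' : d = 1 := by omega
  refine hχ ?_
  rw [hd1', Nat.cast_one] at hd
  set f := linearHom (isCharacter_of_isIrr χ.2) hd with hf
  rw [← linearHom_apply (isCharacter_of_isIrr χ.2) hd, ← linearHom_apply (isCharacter_of_isIrr χ.2) hd,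
    ← hf, map_one]
  have hu := Abelianization.commutator_subset_ker (f.comp π) huC
  rw [MonoidHom.mem_ker, MonoidHom.comp_apply] at hu
  exact congrArg _ hu

theorem small_test {d : ℕ} (h2 : 2 ≤ d) (h5 : d ≤ 5) (e : ℤ) {ff : ℝ}
    (hff : ff ≤ 3 + (d : ℝ) ^ 2 / 8) (hff0 : 0 < ff) :
    1 / 56 ≤ ((e : ℝ) + 7 * d / 8) ^ 2 / ff := by
  rw [le_div_iff₀ hff0]
  have key : ∀ r : ℝ, (∀ n : ℤ, r ≤ |(n : ℝ) + 7 * d / 8|) → 0 ≤ r →
      (3 + (d : ℝ) ^ 2 / 8) / 56 ≤ r ^ 2 → 1 / 56 * ff ≤ ((e : ℝ) + 7 * d / 8) ^ 2 := by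
    intro r hr hr0 h'
    have h1 := hr e
    nlinarith [sq_abs ((e : ℝ) + 7 * d / 8), abs_nonneg ((e : ℝ) + 7 * d / 8)]
  have hcase : ∀ n : ℤ, ∀ k : ℤ, (n ≤ k ∨ k + 1 ≤ n) := fun n k => by omega
  interval_cases d
  · refine key (1 / 4) (fun n => ?_) (by norm_num) (by norm_num)
    rcases hcase n (-2) with h | h
    · have : (n : ℝ) ≤ -2 := by exact_mod_cast h
      rw [le_abs]; right; norm_num; linarith
    · have : (-1 : ℝ) ≤ n := by exact_mod_cast h
      rw [le_abs]; left; norm_num; linarith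
  · refine key (3 / 8) (fun n => ?_) (by norm_num) (by norm_num)
    rcases hcase n (-3) with h | h
    · have : (n : ℝ) ≤ -3 := by exact_mod_cast h
      rw [le_abs]; right; norm_num; linarith
    · have : (-2 : ℝ) ≤ n := by exact_mod_cast h
      rw [le_abs]; left; norm_num; linarith
  · refine key (1 / 2) (fun n => ?_) (by norm_num) (by norm_num)
    rcases hcase n (-4) with h | h
    · have : (n : ℝ) ≤ -4 := by exact_mod_cast h
      rw [le_abs]; right; norm_num; linarith
    · have : (-3 : ℝ) ≤ n := by exact_mod_cast h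
      rw [le_abs]; left; norm_num; linarith
  · refine key (3 / 8) (fun n => ?_) (by norm_num) (by norm_num)
    rcases hcase n (-5) with h | h
    · have : (n : ℝ) ≤ -5 := by exact_mod_cast h
      rw [le_abs]; right; norm_num; linarith
    · have : (-4 : ℝ) ≤ n := by exact_mod_cast h
      rw [le_abs]; left; norm_num; linarith

namespace TV

variable (h : TV S T U K W)
include h

theorem commutator_QT_ne : commutator (QT T) ≠ ⊥ := by
  intro e
  haveI : IsMulCommutative (sigmaCore T) := ⟨⟨fun a b => by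
    let ι : sigmaCore T ≃* QT T := (Subgroup.subgroupOfEquivOfLe h.Q_le).symm
    apply ι.injective
    have hab : ⁅ι a, ι b⁆ ∈ commutator (QT T) := by
      rw [_root_.commutator_def]
      exact Subgroup.commutator_mem_commutator (Subgroup.mem_top _) (Subgroup.mem_top _)
    rw [e, Subgroup.mem_bot, commutatorElement_eq_one_iff_mul_comm] at hab
    rw [map_mul, map_mul, hab]⟩⟩
  refine h.K_ne (le_bot_iff.mp (h.K_le_derived.trans ?_))
  exact Subgroup.commutator_le.2 fun a ha b hb => by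
    rw [Subgroup.mem_bot, commutatorElement_eq_one_iff_mul_comm]
    exact congrArg Subtype.val (mul_comm' (⟨a, ha⟩ : sigmaCore T) ⟨b, hb⟩)

/-- `|W| < |K|` is impossible. -/
theorem false_of_lt (hlt : Nat.card W < Nat.card K) : False := by
  classical
  haveI : Fintype T := Fintype.ofFinite _
  haveI : Fintype (QT T) := Fintype.ofFinite _
  haveI : Group.IsNilpotent (QT T) := h.nil_QT
  obtain ⟨η, hη⟩ := exists_grid h.wsn (h.odd_card K) (h.odd_card W)
  obtain ⟨ϑ₀, hϑ₀⟩ := Finset.card_pos.mp h.card_pos_linSet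
  have h₀ : ϑ₀ ≠ 1 := mem_linSet.mp hϑ₀
  obtain ⟨ψ, hψ⟩ := h.exists_psi h₀
  obtain ⟨c, hc⟩ := hη.exists_coeff (h.dmap_gen (h.base_gen ϑ₀) (h.base_vanish ϑ₀))
  obtain ⟨b₀, hb₀⟩ : ∃ b₀ : Lin K, b₀ ≠ 1 := by
    refine Fintype.exists_ne_of_one_lt_card ?_ 1
    rw [hη.cardJ]; exact h.primeK.one_lt
  have hsh := h.shape hη h₀ hψ hc hb₀
  have hH := (hsh.2 fun e => absurd (hsh.1 e) (by omega)).2
  -- the bad elements
  obtain ⟨m, hm, hbad⟩ := h.bad_mul_le (l := 2 * Nat.card K - 1)
    (fun r hr hd => by have := h.le_prime_U hr hd; omega) fun r hr hrd => by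
    refine Nat.coprime_of_dvd fun l hl h1 h2 => ?_
    have := h.le_prime_U hl h2
    have := Nat.le_of_dvd (by have := hr.two_le; omega) h1
    have := Nat.le_of_dvd Nat.card_pos hrd
    omega
  set p := Nat.card W with hp
  set q := Nat.card K with hq
  set uu := Nat.card U with hu
  set M := (linSet T).card with hM
  have hu0 : (0 : ℝ) < uu := by exact_mod_cast Nat.card_pos
  have hp0 : (0 : ℝ) < p := by exact_mod_cast Nat.card_pos
  have hq0 : (0 : ℝ) < q := by exact_mod_cast Nat.card_pos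
  have hM0 : (0 : ℝ) < M := by exact_mod_cast h.card_pos_linSet
  have hl1 : 1 ≤ 2 * q := by have := h.three_le h.K_ne; omega
  have hbad' : ((bad S U).ncard : ℝ) / uu ≤ m / (2 * q - 1) := by
    have h' := (Nat.cast_le (α := ℝ)).mpr hbad
    push_cast [Nat.cast_sub hl1] at h'
    have hpos : (0 : ℝ) < 2 * q - 1 := by
      have : (3 : ℝ) ≤ q := by exact_mod_cast h.three_le h.K_ne
      linarith
    rw [div_le_div_iff₀ hu0 hpos]
    linarith
  -- the averaged test
  have htest := h.main_ineq hψ.self hH (h.phi_class ϑ₀) (h.phi_vanish ϑ₀)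
  rw [h.psi_phi h₀ hψ, h.phi_self h₀, Complex.ofReal_re] at htest
  have hineq : (1 - 1 / (p : ℝ) - m / (2 * q - 1)) / q ≤ p / M := by
    refine le_trans ((div_le_div_iff_of_pos_right hq0).mpr (by linarith)) (htest.trans (le_of_eq ?_))
    ring
  obtain ⟨hp3, hq5, hM24⟩ := small_arith (p := p) (q := q) (m := m) (M := M) (h.three_le h.W_ne)
    (h.odd_card W) h.primeK hlt h.W_dvd_card (h.card_linSet ▸ h.sq_K_dvd)
    (h.card_linSet ▸ h.odd_hom) hm (by
      have hpos : (0 : ℝ) < 2 * q - 1 := by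
        have : (3 : ℝ) ≤ q := by exact_mod_cast h.three_le h.K_ne
        linarith
      rw [div_le_div_iff₀ hq0 hM0] at hineq
      have e : (1 - 1 / (p : ℝ) - m / (2 * q - 1)) * M * (p * (2 * q - 1)) =
          ((p - 1) * (2 * q - 1) - m * p) * M := by field_simp
      have h2 := mul_le_mul_of_nonneg_right hineq (show (0 : ℝ) ≤ p * (2 * q - 1) by positivity)
      rw [e] at h2
      have h3 : ((p : ℝ) - 1) * (2 * q - 1) * M ≤
          (p : ℝ) ^ 2 * q * (2 * q - 1) + (m : ℝ) * p * M := by nlinarith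
      exact_mod_cast h3)
  -- three and five
  have hm1 : m ≤ 1 := by
    by_contra hc'
    have := Nat.pow_le_pow_right (show 0 < 3 by norm_num) (show 2 ≤ m by omega)
    omega
  obtain ⟨θ, hθ, d, hd, hd2, hdd⟩ := exists_small_nonlinear h.commutator_QT_ne
  have hidx : (commutator (QT T)).index = M + 1 := by
    haveI : Finite (Abelianization (QT T)) := Quotient.finite _
    rw [hM, h.card_linSet, Nat.card_congr Abelianization.lift, card_hom_units]
    rfl
  have hd5 : d ≤ 5 := by nlinarith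
  set ξ := indFun (QT T) θ with hξ
  have hξg : IsGeneralizedCharacter T ξ := isGeneralized_indFun _ (isGeneralized_of_isIrr hθ)
  set g : T → ℂ := (ξ - (d : ℂ) • zeta T ϑ₀) + (d : ℂ) • phi T ϑ₀ with hg
  have hg1 : IsGeneralizedCharacter T (ξ - (d : ℂ) • zeta T ϑ₀) := by
    refine isGeneralized_sub hξg ?_
    rw [show ((d : ℕ) : ℂ) = ((d : ℤ) : ℂ) by simp]
    exact isGeneralized_intCast_smul (h.zeta_gen ϑ₀) _
  have hg1A : ∀ x : T, (x : G) ∉ coreSharp T → (ξ - (d : ℂ) • zeta T ϑ₀) x = 0 := by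
    intro x hx
    simp only [Pi.sub_apply, Pi.smul_apply, smul_eq_mul]
    rcases eq_or_ne x 1 with rfl | hx1
    · rw [hξ, indFun_one, h.zeta_one, h.index_QT, hd]; ring
    · have hxq : x ∉ QT T := fun hc' => hx (h.mem_coreSharp.mpr ⟨hc', hx1⟩)
      rw [hξ, indFun_notMem_of_normal _ _ hxq, h.zeta_off ϑ₀ hxq]; ring
  obtain ⟨e, he⟩ := exists_int_classInner hψ.gen (h.dmap_gen hg1 hg1A)
  have hξζ : ∀ ϑ : QT T →* ℂˣ, ϑ ≠ 1 → classInner ξ (zeta T ϑ) = 0 := by
    intro ϑ hϑ
    rw [hξ, zeta, classInner_indFun_indFun (QT T) (isIrr_lf ϑ) hθ, if_neg]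
    intro hc'
    obtain ⟨t, ht⟩ := (mem_orbit _).mp hc'
    have h1 := congrFun ht 1
    rw [hd, conjBy_apply_one] at h1
    simp only [lf, map_one, Units.val_one] at h1
    have : d = 1 := by exact_mod_cast h1.symm
    omega
  have hξφ : classInner ξ (phi T ϑ₀) = 0 := by
    rw [phi, classInner_smul_right, classInner_sum_right,
      Finset.sum_eq_zero fun ϑ hϑ => by
        rw [classInner_sub_right, hξζ _ h₀, hξζ _ (mem_linSet.mp hϑ), sub_zero], mul_zero]
  have hξξ : ∃ r : ℝ, classInner ξ ξ = (r : ℂ) ∧ 0 ≤ r ∧ r ≤ 3 := by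
    rw [hξ, classInner_indFun_indFun (QT T) hθ hθ, if_pos (self_mem_orbit _ _)]
    refine ⟨(Nat.card (inertia (QT T) θ) : ℝ) / Nat.card (QT T), by push_cast; rfl, by positivity, ?_⟩
    rw [div_le_iff₀ (by exact_mod_cast Nat.card_pos)]
    have h1 : Nat.card (inertia (QT T) θ) ≤ Nat.card T :=
      Nat.le_of_dvd Nat.card_pos (Subgroup.card_subgroup_dvd_card _)
    have h2 : Nat.card T = 3 * Nat.card (QT T) := by rw [h.QT_card, h.card_T, ← hp, hp3]
    exact_mod_cast h1.trans h2.le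
  obtain ⟨r, hr, hr0, hr3⟩ := hξξ
  have hfr : (1 - (Nat.card W : ℝ) / (linSet T).card) = 7 / 8 := by
    rw [← hM, ← hp, hp3, hM24]; norm_num
  have hφφ := h.phi_self h₀
  rw [hfr] at hφφ
  have hψφ := h.psi_phi h₀ hψ
  rw [hfr] at hψφ
  have hξφ' : classInner (phi T ϑ₀) ξ = 0 := by rw [← classInner_conj_symm, hξφ, map_zero]
  have hζφ : classInner (zeta T ϑ₀) (phi T ϑ₀) = ((7 / 8 : ℝ) : ℂ) := by
    rw [← classInner_conj_symm, h.phi_inner_zeta h₀ h₀, classInner_irr_self (h.isIrr_zeta h₀),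
      ← hM, ← hp, hp3, hM24]
    push_cast
    simp only [map_sub, map_div₀, map_one, map_ofNat]
    norm_num
  have hφζ : classInner (phi T ϑ₀) (zeta T ϑ₀) = ((7 / 8 : ℝ) : ℂ) := by
    rw [← classInner_conj_symm, hζφ, Complex.conj_ofReal]
  have hgg : classInner g g = ((r + (d : ℝ) ^ 2 / 8 : ℝ) : ℂ) := by
    simp only [hg, classInner_add_left, classInner_add_right, classInner_sub_left, classInner_sub_right,
      classInner_smul_left, classInner_smul_right, map_natCast, hr, hξφ, hξφ', hζφ, hφζ, hφφ,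
      hξζ _ h₀, show classInner (zeta T ϑ₀) ξ = 0 by rw [← classInner_conj_symm, hξζ _ h₀, map_zero],
      classInner_irr_self (h.isIrr_zeta h₀)]
    push_cast
    ring
  have hgφ : classInner g (phi T ϑ₀) = 0 := by
    simp only [hg, classInner_add_left, classInner_sub_left, classInner_smul_left, hξφ, hζφ, hφφ]
    ring
  have hφg : classInner (phi T ϑ₀) g = 0 := by rw [← classInner_conj_symm, hgφ, map_zero]
  have hψg : classInner ψ (dmap T g) = (((e : ℝ) + 7 * d / 8 : ℝ) : ℂ) := by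
    rw [hg, dmap_add, dmap_smul, classInner_add_right, classInner_smul_right, he, hψφ, map_natCast]
    push_cast; ring
  have hgc : IsClassFunction T g := fun x y => by
    simp only [hg, Pi.add_apply, Pi.smul_apply, smul_eq_mul]
    rw [isClassFunction_of_isGeneralized hg1 x y, h.phi_class ϑ₀ x y]
  have hgA : ∀ x : T, (x : G) ∉ coreSharp T → g x = 0 := fun x hx => by
    simp only [hg, Pi.add_apply, Pi.smul_apply, hg1A x hx, h.phi_vanish ϑ₀ x hx, smul_zero, add_zero]
  set ff := r + (d : ℝ) ^ 2 / 8 with hff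
  have hff0 : 0 < ff := by
    have : (2 : ℝ) ≤ d := by exact_mod_cast hd2
    nlinarith
  set X := (e : ℝ) + 7 * d / 8 with hX
  set t : ℝ := X / ff with ht
  have hst := small_test hd2 hd5 e (ff := ff) (by rw [hff]; linarith) hff0
  have hbig := h.main_ineq hψ.self hH (f := phi T ϑ₀ + (t : ℂ) • g)
    (fun x y => by simp only [Pi.add_apply, Pi.smul_apply, h.phi_class ϑ₀ x y, hgc x y])
    (fun x hx => by simp [h.phi_vanish ϑ₀ x hx, hgA x hx])
  rw [dmap_add, dmap_smul, classInner_add_right, classInner_smul_right, hψφ, hψg] at hbig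
  simp only [classInner_add_left, classInner_add_right, classInner_smul_left, classInner_smul_right,
    hgg, hgφ, hφg, hφφ, Complex.conj_ofReal, mul_zero, add_zero, zero_add] at hbig
  simp only [← Complex.ofReal_mul, ← Complex.ofReal_add, Complex.ofReal_re] at hbig
  rw [← hp, hp3, ← hq, hq5] at hbig
  rw [← hu] at hbig
  have hb1 : ((bad S U).ncard : ℝ) / uu ≤ 1 / 9 := by
    refine hbad'.trans ?_
    rw [hq5]
    have : (m : ℝ) ≤ 1 := by exact_mod_cast hm1
    norm_num
    linarith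
  have htX : t * X = X ^ 2 / ff := by rw [ht]; ring
  have htt : t * (t * ff) = X ^ 2 / ff := by rw [ht]; field_simp
  push_cast at hbig
  have hst' : 1 / 56 ≤ X ^ 2 / ff := hst
  nlinarith

end TV

end CfsgLib.Peterfalvi.Pair.TypeV
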