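import Cfsg.Agent.Lib.Peterfalvi.Pair.TypeV.LargeQ
import Cfsg.Agent.Lib.Peterfalvi.Pair.TypeV.LargeR
import Cfsg.Agent.Lib.Peterfalvi.Pair.TypeV.LargeArith
import Cfsg.Agent.Lib.Peterfalvi.Pair.TypeV.Small

/-!
A maximal subgroup of type V is impossible.
-/

set_option autoImplicit false
set_option linter.style.haveILetI false

namespace CfsgLib.Peterfalvi.Pair.TypeV

open Cfsg

universe u

variable {G : Type u} [Group G] [Fintype G] {S T U K W : Subgroup G}

namespace TV

variable (h : TV S T U K W)
include h

/-- `|K| < |W|` is impossible. -/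
theorem false_of_gt (hlt : Nat.card K < Nat.card W) : False := by
  classical
  haveI : Fintype T := Fintype.ofFinite _
  haveI : Fintype (QT T) := Fintype.ofFinite _
  refine h.false_of_good_le hlt ?_
  by_cases hR : primeCompl (Nat.card K) (QT T) = ⊥
  · exact h.bound_of_q hlt hR
  · exact h.bound_of_compl hlt hR

/-- No pair with a maximal subgroup of type V. -/
theorem contradiction : False := by
  rcases lt_trichotomy (Nat.card K) (Nat.card W) with hlt | heq | hlt
  · exact h.false_of_gt hlt
  · have := h.K_coprime_W
    rw [← heq, Nat.coprime_self] at this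
    exact h.primeK.ne_one this
  · exact h.false_of_lt hlt

end TV

end CfsgLib.Peterfalvi.Pair.TypeV
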