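import Cfsg.Agent.Lib.Peterfalvi.Pair.TypeV.Parity
import Cfsg.Agent.Lib.Char.Table
import Cfsg.Agent.Lib.Char.Twist

/-!
Facts for the case `|K| < |W|`.
-/

set_option autoImplicit false
set_option linter.style.haveILetI false
set_option linter.unusedSectionVars false

namespace CfsgLib.Peterfalvi.Pair.TypeV

open Cfsg CfsgLib.Char
open CfsgLib.Peterfalvi.Pair (Lin IsGrid tilde)
open scoped ComplexConjugate CfsgLib.Char Pointwise

universe u

/-- A character not vanishing at an element without fixed points on a normal subgroup is trivial on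
that subgroup. -/
theorem trivial_of_value_ne {Γ : Type u} [Group Γ] [Finite Γ] (R : Subgroup Γ) [R.Normal] (w : Γ)
    (hR : ∀ x ∈ R, x * w = w * x → x = 1) {χ : Γ → ℂ} (hχ : IsIrrCharacter Γ χ) (hw : χ w ≠ 0) :
    ∀ m ∈ R, χ m = χ 1 := by
  classical
  haveI : Fintype Γ := Fintype.ofFinite Γ
  haveI : Fintype (Γ ⧸ R) := Fintype.ofFinite _
  set π := QuotientGroup.mk' R
  have hπ := QuotientGroup.mk'_surjective R
  by_contra hne
  push Not at hne
  obtain ⟨m, hm, hmne⟩ := hne
  set i : IrrCharacter (Γ ⧸ R) → IrrCharacter Γ := Blocks.inflate π hπ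
  set s := Finset.univ.image i
  have hnot : (⟨χ, hχ⟩ : IrrCharacter Γ) ∉ s := by
    intro hc
    obtain ⟨η, -, he⟩ := Finset.mem_image.mp hc
    have he' : χ = (η : Γ ⧸ R → ℂ) ∘ π := (congrArg Subtype.val he).symm
    refine hmne ?_
    simp only [he', Function.comp_apply, map_one]
    exact congrArg _ ((QuotientGroup.eq_one_iff m).mpr hm)
  have horth : ∀ {Δ : Type u} [Group Δ] [Finite Δ] (g : Δ),
      (Nat.card (Subgroup.centralizer ({g} : Set Δ)) : ℝ) =
        ∑ ψ : IrrCharacter Δ, Complex.normSq ((ψ : Δ → ℂ) g) := by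
    intro Δ _ _ g
    have h := column_orthogonality g g
    rw [if_pos (IsConj.refl g)] at h
    simp only [Complex.mul_conj, ← Complex.ofReal_sum] at h
    exact_mod_cast h.symm
  have h1 : (Nat.card (Subgroup.centralizer ({π w} : Set (Γ ⧸ R))) : ℝ) + Complex.normSq (χ w) ≤
      Nat.card (Subgroup.centralizer ({w} : Set Γ)) := by
    rw [horth (π w), horth w]
    refine le_of_eq_of_le (?_ : _ = ∑ ψ ∈ insert (⟨χ, hχ⟩ : IrrCharacter Γ) s, Complex.normSq ((ψ : Γ → ℂ) w))
      (Finset.sum_le_univ_sum_of_nonneg fun ψ => Complex.normSq_nonneg _)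
    rw [Finset.sum_insert hnot, Finset.sum_image fun a _ b _ e => Blocks.inflate_injective π hπ e, add_comm]
    rfl
  have h2 : Nat.card (Subgroup.centralizer ({w} : Set Γ)) ≤
      Nat.card (Subgroup.centralizer ({π w} : Set (Γ ⧸ R))) := by
    refine Nat.card_le_card_of_injective (fun x => ⟨π x.1, ?_⟩) fun a b e => ?_
    · exact Subgroup.mem_centralizer_singleton_iff.mpr (by
        rw [← map_mul, ← map_mul, Subgroup.mem_centralizer_singleton_iff.mp x.2])
    · have e' : π a.1 = π b.1 := congrArg Subtype.val e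
      have hab : (a.1)⁻¹ * b.1 ∈ R := QuotientGroup.eq.mp e'
      have hc := Subgroup.mem_centralizer_singleton_iff.mp
        (mul_mem (inv_mem a.2) b.2 : (a.1)⁻¹ * b.1 ∈ Subgroup.centralizer ({w} : Set Γ))
      exact Subtype.ext (inv_mul_eq_one.mp (hR _ hab hc))
  have h2' : (Nat.card (Subgroup.centralizer ({w} : Set Γ)) : ℝ) ≤
      Nat.card (Subgroup.centralizer ({π w} : Set (Γ ⧸ R))) := by exact_mod_cast h2
  have := Complex.normSq_pos.mpr hw
  linarith

variable {G : Type u} [Group G] [Fintype G] {S T U K W : Subgroup G} [Fintype T] [Fintype (QT T)]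

namespace TV

variable (h : TV S T U K W)
include h

/-- The exceptional character is trivial on the normal subgroups of the core meeting `K`
trivially. -/
theorem mu_trivial {b : Lin K} {χ : T → ℂ} {δ n : ℤ} {d : ℕ} (hμ : MuData T K W b χ δ n d)
    (R : Subgroup T) [R.Normal] (hRQ : R ≤ QT T) (hRK : ∀ x ∈ R, (x : G) ∈ K → x = 1) :
    ∀ m ∈ R, χ m = χ 1 := by
  obtain ⟨⟨w, hw⟩, hw1⟩ := (Subgroup.ne_bot_iff_exists_ne_one).1 h.W_ne
  refine trivial_of_value_ne R (⟨w, h.W_le_T hw⟩ : T) (fun x hx hc => hRK x hx ?_) hμ.irr ?_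
  · rw [← h.Q_fix hw fun e => hw1 (Subtype.ext e)]
    exact ⟨Subgroup.mem_subgroupOf.mp (hRQ hx),
      Subgroup.mem_centralizer_singleton_iff.mpr (congrArg Subtype.val hc)⟩
  · rw [hμ.value _ 1 ⟨w, hw⟩ hw1 (by simp), map_one, Units.val_one, mul_one]
    rcases hμ.sign with e | e <;> simp [e]

theorem mu_degree {b : Lin K} {χ : T → ℂ} {δ n : ℤ} {d : ℕ} (hμ : MuData T K W b χ δ n d) :
    2 * Nat.card W ≤ d + 1 := by
  have h1 : (2 : ℤ) * Nat.card W ≤ n * Nat.card W :=
    mul_le_mul_of_nonneg_right hμ.two_le (by positivity)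
  have h2 := hμ.eq
  rcases hμ.sign with e | e <;> omega

variable (hlt : Nat.card K < Nat.card W) {ϑ₀ : QT T →* ℂˣ} (h₀ : ϑ₀ ≠ 1) {ψ : G → ℂ}
  (hψ : IsPsi T ϑ₀ ψ)
include hlt h₀ hψ

/-- The signed character is constant on the nontrivial elements of `K`. -/
theorem psi_const_K {x y : G} (hx : x ∈ K) (hx1 : x ≠ 1) (hy : y ∈ K) (hy1 : y ≠ 1) :
    ψ x = ψ y := by
  classical
  haveI := Fact.mk h.primeK
  obtain ⟨j, hj⟩ := mem_powers_of_prime_card (G := K) rfl
    (show (⟨x, hx⟩ : K) ≠ 1 from fun e => hx1 (congrArg Subtype.val e)) (g' := ⟨y, hy⟩)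
  have hjq : j.Coprime (Nat.card K) := by
    rw [Nat.coprime_comm, h.primeK.coprime_iff_not_dvd]
    rintro ⟨i, rfl⟩
    refine hy1 ?_
    have := congrArg Subtype.val hj
    simp only [SubmonoidClass.coe_pow] at this
    rw [← this, pow_mul, ← Subgroup.coe_one K, show x ^ Nat.card K = ((⟨x, hx⟩ ^ Nat.card K : K) : G) from rfl,
      pow_card_eq_one', Subgroup.coe_one, one_pow]
  haveI : NeZero (Nat.card G) := ⟨Nat.card_pos.ne'⟩
  obtain ⟨k, hk, hkj⟩ := exists_coprime_exponent K.card_subgroup_dvd_card hjq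
  have e : x ^ k = y := by
    rw [← show ((⟨x, hx⟩ ^ j : K) : G) = y from congrArg Subtype.val hj,
      pow_eq_pow_iff_modEq.mpr (hkj.of_dvd (orderOf_dvd_natCard (⟨x, hx⟩ : K)))|>.symm]
    rfl
  rw [← e]
  set ψk : G → ℂ := fun g => ψ (g ^ k) with hψk
  have hk1 : ψk 1 = ψ 1 := by simp [hψk]
  have hsig : IsIrrCharacter G ψk ∨ IsIrrCharacter G (-ψk) := hψ.signed.imp
    (fun hs => isIrrCharacter_pow hk hs) fun hs => isIrrCharacter_pow hk hs
  have hψ1 : ψ 1 ≠ 0 := by
    rcases hψ.signed with hs | hs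
    · exact irr_degree_ne_zero hs
    · exact fun e => irr_degree_ne_zero hs (by rw [Pi.neg_apply, e, neg_zero])
  have hkk : classInner ψk ψk = 1 := by rw [hψk, classInner_pow hk, hψ.self]
  -- equal or orthogonal to each of `ψ`, `-conjFun ψ`
  have hdich : ∀ φ : G → ℂ, (IsIrrCharacter G φ ∨ IsIrrCharacter G (-φ)) →
      classInner ψk φ ≠ 0 → ψk = φ ∨ ψk = -φ := by
    intro φ hφ hne
    rcases hsig with ha | ha <;> rcases hφ with hb | hb
    · exact Or.inl (by by_contra e; exact hne (classInner_irr_ne ha hb e))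
    · refine Or.inr ?_
      by_contra e
      have := classInner_irr_ne ha hb e
      rw [classInner_neg_right, neg_eq_zero] at this
      exact hne this
    · refine Or.inr ?_
      by_contra e
      have := classInner_irr_ne ha hb fun e' => e (by rw [← e', neg_neg])
      rw [classInner_neg_left, neg_eq_zero] at this
      exact hne this
    · refine Or.inl ?_
      by_contra e
      have := classInner_irr_ne ha hb fun e' => e (neg_injective e')
      rw [classInner_neg_left, classInner_neg_right, neg_neg] at this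
      exact hne this
  have hzp := h.zeta_pow ϑ₀ hk
  set X := dmap T (zeta T ϑ₀ - zeta T (ϑ₀ ^ k)) with hX
  have hXgen : IsClassFunction T (zeta T ϑ₀ - zeta T (ϑ₀ ^ k)) := fun a b => by
    simp only [Pi.sub_apply, h.class_zeta _ a b]
  have hpair : ψk - conjFun ψk =
      dmap T (zeta T (ϑ₀ ^ k) - conjFun (zeta T (ϑ₀ ^ k))) := by
    rw [← hzp, hψk]
    have h1 := h.dmap_pow (isClassFunction_of_isGeneralized (sub_conj_props (h.achar h₀)).1) hk
    rw [hψ.eq] at h1
    exact h1.symm
  have hmain : ψk = ψ ∨ X = ψ - ψk := by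
    by_cases hz : zeta T (ϑ₀ ^ k) = zeta T ϑ₀
    · left
      rw [hz, hψ.eq] at hpair
      have h1 := congrArg (fun f => classInner f ψ) hpair
      simp only [classInner_sub_left, hψ.self, hψ.orth', sub_zero] at h1
      by_contra hne
      by_cases hc : classInner ψk ψ = 0
      · have hc' : classInner (conjFun ψk) ψ = -1 := by linear_combination hc - h1
        have h2 : classInner ψk (conjFun ψ) = -1 := by
          have := congrArg (starRingEnd ℂ) hc'
          rw [← CfsgLib.Peterfalvi.Pair.classInner_conjFun, Coherence.conjFun_conjFun, map_neg, map_one] at this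
          exact this
        rcases hdich (conjFun ψ) (hψ.signed.imp (fun hs => isIrrCharacter_conj hs) fun hs => by
          rw [show -conjFun ψ = conjFun (-ψ) from funext fun g => by simp [conjFun]]
          exact isIrrCharacter_conj hs) (by rw [h2]; norm_num) with e' | e'
        · rw [e', hψ.conj_self] at h2; norm_num at h2
        · have h3 := congrFun e' 1
          obtain ⟨D, hD⟩ := exists_int_of_signed hψ.signed
          rw [hk1, Pi.neg_apply, conjFun, hD, map_intCast] at h3
          exact hψ1 (by rw [hD]; linear_combination (1/2 : ℂ) * h3)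
      · rcases hdich ψ hψ.signed hc with e' | e'
        · exact hne e'
        · have h3 := congrFun e' 1
          rw [hk1, Pi.neg_apply] at h3
          exact hψ1 (by linear_combination (1/2 : ℂ) * h3)
    · right
      have hne : ϑ₀ ^ k ≠ 1 := fun e => by
        have h1 := congrFun hzp 1
        simp only [one_pow] at h1
        have h2 : classInner (zeta T ϑ₀) (rhoT T) = 0 := by
          rw [← classInner_conj_symm, h.rho_zeta h₀, map_zero]
        have h3 : classInner (fun x : T => zeta T ϑ₀ (x ^ k)) (fun x : T => rhoT T (x ^ k)) = 0 := by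
          rw [classInner_pow (hk.coprime_dvd_right T.card_subgroup_dvd_card), h2]
        have h4 : (fun x : T => rhoT T (x ^ k)) = rhoT T := funext fun x => by
          by_cases hx : x ∈ QT T
          · rw [h.rho_apply hx, h.rho_apply ((QT T).pow_mem hx k)]
          · rw [h.rho_off hx, h.rho_off fun hc => hx ((CfsgLib.Peterfalvi.Pair.PowClosed.mem_iff
              (G := T) (S := (QT T : Set T)) (fun a ha i _ => (QT T).pow_mem ha i)
              (hk.coprime_dvd_right T.card_subgroup_dvd_card)).mp hc)]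
        rw [hzp, h4, e, show zeta T (1 : QT T →* ℂˣ) = rhoT T from congrArg (indFun (QT T))
          (funext fun _ => by simp [lf]), h.rho_self] at h3
        exact Nat.card_pos.ne' (Nat.cast_eq_zero.mp h3)
      have h1 : classInner ψ X = 1 := hψ.one _ hne hz
      have h2 : classInner ψk X = -1 := by
        obtain ⟨k', hk'c, hk'⟩ : ∃ k', k'.Coprime (Nat.card G) ∧ k * k' ≡ 1 [MOD Nat.card G] := by
          refine ⟨k ^ (Nat.totient (Nat.card G) - 1), hk.pow_left _, ?_⟩
          rw [← pow_succ', Nat.sub_add_cancel (Nat.totient_pos.mpr Nat.card_pos)]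
          exact Nat.ModEq.pow_totient hk
        have hid : ∀ g : G, (g ^ k') ^ k = g := fun g => by
          rw [← pow_mul, mul_comm k' k, pow_eq_pow_iff_modEq.mpr (hk'.of_dvd (orderOf_dvd_natCard g)),
            pow_one]
        have hne' : ϑ₀ ^ k' ≠ 1 ∧ zeta T (ϑ₀ ^ k') ≠ zeta T ϑ₀ := by
          have hkk' : (ϑ₀ ^ k') ^ k = ϑ₀ := MonoidHom.ext fun n => by
            simp only [MonoidHom.pow_apply, ← map_pow]
            exact congrArg ϑ₀ (Subtype.ext (Subtype.ext (by push_cast; exact hid _)))
          refine ⟨fun e => h₀ (by rw [← hkk', e]; exact MonoidHom.ext fun n => one_pow k),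
            fun e => hz ?_⟩
          rw [← hzp, ← e, h.zeta_pow _ hk, hkk']; exact e.symm
        have h5 : (fun g => X (g ^ k')) = dmap T (zeta T (ϑ₀ ^ k') - zeta T ϑ₀) := by
          rw [hX, ← h.dmap_pow hXgen hk'c]
          congr 1
          funext x
          simp only [Pi.sub_apply]
          rw [show zeta T ϑ₀ (x ^ k') = zeta T (ϑ₀ ^ k') x from congrFun (h.zeta_pow ϑ₀ hk'c) x,
            show zeta T (ϑ₀ ^ k) (x ^ k') = zeta T ϑ₀ x from by
              rw [← hzp]
              exact congrArg _ (Subtype.ext (by push_cast; exact hid _))]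
        rw [← classInner_pow hk'c, h5, ← neg_sub (zeta T ϑ₀), show (fun g => ψk (g ^ k')) = ψ from
          funext fun g => by simp only [hψk, hid],
          show dmap T (-(zeta T ϑ₀ - zeta T (ϑ₀ ^ k'))) = (-1 : ℂ) • dmap T (zeta T ϑ₀ - zeta T (ϑ₀ ^ k')) by
            rw [← dmap_smul]; congr 1; simp,
          classInner_smul_right, hψ.one _ hne'.1 hne'.2]
        simp
      have h3 : classInner ψ ψk = 0 := by
        by_contra hc
        rcases hdich ψ hψ.signed (fun e' => hc (by rw [← classInner_conj_symm, e', map_zero])) with e' | e'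
        · rw [e', h1] at h2; norm_num at h2
        · have h3 := congrFun e' 1
          rw [hk1, Pi.neg_apply] at h3
          exact hψ1 (by linear_combination (1/2 : ℂ) * h3)
      have hXX : classInner X X = 2 := by
        rw [hX, show dmap T (zeta T ϑ₀ - zeta T (ϑ₀ ^ k)) = dadeIsometry _ _ _ _ from rfl,
          dade_isometry h.dade hXgen (h.sub_vanish _ _) hXgen, classInner_sub_left, classInner_sub_right,
          classInner_sub_right, classInner_irr_self (h.isIrr_zeta h₀), classInner_irr_self (h.isIrr_zeta hne),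
          classInner_irr_ne (h.isIrr_zeta h₀) (h.isIrr_zeta hne) (Ne.symm hz),
          classInner_irr_ne (h.isIrr_zeta hne) (h.isIrr_zeta h₀) hz]
        norm_num
      refine sub_eq_zero.mp (eq_zero_of_classInner_self ?_)
      have h1' : classInner X ψ = 1 := by rw [← classInner_conj_symm, h1, map_one]
      have h2' : classInner X ψk = -1 := by rw [← classInner_conj_symm, h2, map_neg, map_one]
      have h3' : classInner ψk ψ = 0 := by rw [← classInner_conj_symm, h3, map_zero]
      simp only [classInner_sub_left, classInner_sub_right, hXX, h1, h2, h3, h1', h2', h3', hψ.self, hkk]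
      ring
  rcases hmain with e' | e'
  · exact (congrFun e' x).symm
  · have h1 := congrFun e' x
    set t : T := ⟨x, h.Q_le (h.K_le_Q hx)⟩
    have htc : (t : G) ∈ coreSharp T := ⟨h.K_le_Q hx, hx1⟩
    rw [hX, show x = (t : G) from rfl, h.dmap_apply_core hlt hXgen htc, Pi.sub_apply,
      Pi.sub_apply] at h1
    have hval : ∀ ϑ : QT T →* ℂˣ, zeta T ϑ t = zeta T ϑ 1 := by
      intro ϑ
      have hz : (⟨t, Subgroup.mem_subgroupOf.mpr (h.K_le_Q hx)⟩ : QT T) ∈ commutator (QT T) :=
        h.mem_commutator_of_mem_K _ hx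
      show indFun (QT T) (lf ϑ) ((⟨t, Subgroup.mem_subgroupOf.mpr (h.K_le_Q hx)⟩ : QT T) : T) =
        indFun (QT T) (lf ϑ) ((1 : QT T) : T)
      rw [indFun_apply_of_normal, indFun_apply_of_normal]
      congr 1
      refine Finset.sum_congr rfl fun g _ => ?_
      have hk' := Abelianization.commutator_subset_ker (twist ϑ g) hz
      show ((twist ϑ g _ : ℂˣ) : ℂ) = ((twist ϑ g 1 : ℂˣ) : ℂ)
      rw [map_one, MonoidHom.mem_ker.mp hk']
    rw [hval, hval, h.zeta_one, h.zeta_one, sub_self] at h1
    exact sub_eq_zero.mp h1.symm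
where
  exists_int_of_signed {φ : G → ℂ} (hs : IsIrrCharacter G φ ∨ IsIrrCharacter G (-φ)) :
      ∃ D : ℤ, φ 1 = D := by
    rcases hs with h' | h'
    · obtain ⟨d, hd⟩ := exists_nat_degree (isCharacter_of_isIrr h')
      exact ⟨d, by rw [hd]; simp⟩
    · obtain ⟨d, hd⟩ := exists_nat_degree (isCharacter_of_isIrr h')
      exact ⟨-(d : ℤ), by rw [Pi.neg_apply] at hd; push_cast; linear_combination -hd⟩

end TV

end CfsgLib.Peterfalvi.Pair.TypeV
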