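import Cfsg.Agent.Lib.Peterfalvi.Pair.TypeV.LargeTest
import Cfsg.Agent.Lib.Peterfalvi.Pair.TypeV.LargeSplit
import Cfsg.Agent.Lib.Peterfalvi.Pair.TypeV.Engine
import Cfsg.Agent.Lib.Char.CentralTICongr
import Cfsg.Agent.Lib.Critical.Basic

/-!
The case of a core of prime power order.
-/

set_option autoImplicit false
set_option linter.style.haveILetI false
set_option linter.unusedSectionVars false

namespace CfsgLib.Peterfalvi.Pair.TypeV

open Cfsg CfsgLib.Char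
open CfsgLib.Peterfalvi.Pair (Lin IsGrid tilde exists_grid exists_conj_coset)
open scoped ComplexConjugate CfsgLib.Char Pointwise

universe u

variable {G : Type u} [Group G] [Fintype G] {S T U K W : Subgroup G} [Fintype T] [Fintype (QT T)]

/-- The restriction without the identity is a class function. -/
theorem resZero_class {ψ : G → ℂ} (hψ : IsClassFunction G ψ) :
    IsClassFunction (QT T) (resZero T ψ) := by
  intro x y
  by_cases hx : x = 1
  · rw [hx]; simp [resZero_one]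
  · rw [resZero_ne ψ hx, resZero_ne ψ fun e => hx (conj_eq_one_iff.mp e)]
    push_cast
    exact hψ _ _

namespace TV

variable (h : TV S T U K W)
include h

/-- A central subgroup on whose nontrivial elements the signed character is constant. -/
theorem exists_const_center (hlt : Nat.card K < Nat.card W) (hQ : IsPGroup (Nat.card K) (QT T))
    {ϑ₀ : QT T →* ℂˣ} (h₀ : ϑ₀ ≠ 1) {ψ : G → ℂ} (hψ : IsPsi T ϑ₀ ψ) :
    ∃ Z : Subgroup T, Z.Normal ∧ Z ≠ ⊥ ∧ Z ≤ QT T ∧ (∀ z ∈ Z, ∀ y ∈ QT T, z * y = y * z) ∧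
      (∀ m : QT T, (m : T) ∈ Z → m ∈ commutator (QT T)) ∧
      ∀ z ∈ Z, ∀ z' ∈ Z, z ≠ 1 → z' ≠ 1 → ψ (z : G) = ψ (z' : G) := by
  classical
  haveI := Fact.mk h.primeK
  haveI := h.nil_QT
  by_cases hKc : ∀ x ∈ K, ∀ y ∈ sigmaCore T, x * y = y * x
  · have hcent : ∀ z ∈ K.subgroupOf T, ∀ g : T, g * z * g⁻¹ = z := fun z hz g => by
      obtain ⟨n, hn, w, hw, rfl⟩ := h.exists_decomp g
      have h1 : w * z = z * w := Subtype.ext (h.commute (Subgroup.mem_subgroupOf.mp hz) hw).symm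
      have h2 : n * z = z * n := Subtype.ext
        (hKc _ (Subgroup.mem_subgroupOf.mp hz) _ (Subgroup.mem_subgroupOf.mp hn)).symm
      rw [mul_assoc n w z, h1, ← mul_assoc, h2]; group
    refine ⟨K.subgroupOf T, ⟨fun z hz g => by rwa [hcent z hz g]⟩, ?_, fun z hz => ?_,
      fun z hz y _ => ?_, fun m hm => h.mem_commutator_of_mem_K m (Subgroup.mem_subgroupOf.mp hm),
      fun z hz z' hz' h1 h1' => h.psi_const_K hlt h₀ hψ (Subgroup.mem_subgroupOf.mp hz)
        (fun e => h1 (Subtype.ext e)) (Subgroup.mem_subgroupOf.mp hz') fun e => h1' (Subtype.ext e)⟩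
    · intro e
      exact h.K_ne ((Subgroup.subgroupOf_eq_bot.mp e).eq_bot_of_le (h.K_le_Q.trans h.Q_le))
    · exact Subgroup.mem_subgroupOf.mpr (h.K_le_Q (Subgroup.mem_subgroupOf.mp hz))
    · exact (mul_inv_eq_iff_eq_mul.mp (hcent z hz y)).symm
  push Not at hKc
  set C := commutator (QT T) ⊓ Subgroup.center (QT T) with hC
  set Z := C.map (QT T).subtype with hZ
  have hmem : ∀ m : QT T, (m : T) ∈ Z ↔ m ∈ C := fun m => by
    rw [hZ]; exact Subgroup.mem_map_iff_mem (QT T).subtype_injective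
  haveI : Subgroup.Characteristic C := by rw [hC]; infer_instance
  haveI hZn : Z.Normal := by rw [hZ]; infer_instance
  have hZQ : Z ≤ QT T := by rintro _ ⟨m, -, rfl⟩; exact m.2
  have hZcent : ∀ z ∈ Z, ∀ y ∈ QT T, z * y = y * z := by
    rintro _ ⟨m, hm, rfl⟩ y hy
    exact congrArg Subtype.val (Subgroup.mem_center_iff.mp hm.2 ⟨y, hy⟩).symm
  -- no fixed points
  have hmeet : ∀ z ∈ Z, (z : G) ∈ K → z = 1 := by
    intro z hz hzK
    by_contra hz1
    obtain ⟨x, hx, y, hy, hne⟩ := hKc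
    obtain ⟨i, hi⟩ := mem_powers_of_prime_card (G := K) rfl
      (show (⟨(z : G), hzK⟩ : K) ≠ 1 from fun e => hz1 (Subtype.ext (congrArg Subtype.val e :)))
      (g' := ⟨x, hx⟩)
    refine hne ?_
    rw [← show (z : G) ^ i = x from congrArg Subtype.val hi]
    exact (Commute.pow_left (congrArg Subtype.val
      (hZcent z hz ⟨y, h.Q_le hy⟩ (Subgroup.mem_subgroupOf.mpr hy)) : Commute (z : G) y) i).eq
  have hlayer : Layer T K W ⊥ Z := by
    refine ⟨bot_le, hZQ, fun x hx y hy => ?_, fun w hw hw1 x hx hc => ?_, ?_⟩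
    · rw [Subgroup.mem_bot, hZcent x hx y hy]; group
    · rw [Subgroup.mem_bot] at hc ⊢
      refine hmeet x hx ?_
      rw [← h.Q_fix hw fun e => hw1 (Subtype.ext e)]
      refine ⟨Subgroup.mem_subgroupOf.mp (hZQ hx), Subgroup.mem_centralizer_singleton_iff.mpr ?_⟩
      rw [mul_inv_eq_one, mul_inv_eq_iff_eq_mul] at hc
      exact congrArg Subtype.val hc
    · obtain ⟨k, hk⟩ := IsPGroup.iff_card.mp hQ
      obtain ⟨i, -, hi⟩ := (Nat.dvd_prime_pow h.primeK).mp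
        (show Z.relIndex (QT T) ∣ Nat.card K ^ k from hk ▸ Subgroup.relIndex_dvd_card _ _)
      exact ⟨i, hi⟩
  refine ⟨Z, hZn, fun e => ?_, hZQ, hZcent, fun m hm => ((hmem m).mp hm).1, fun z hz z' hz' hz1 hz1' => ?_⟩
  · exact Critical.inf_center_ne_bot (commutator (QT T)) commutator_QT_ne'
      ((Subgroup.map_eq_bot_iff_of_injective _ (QT T).subtype_injective).mp e)
  -- the coefficients are proportional to the degrees
  obtain ⟨c, hc⟩ : ∃ c : ℂ, ∀ θ, InLayer ⊥ Z θ → classInner (resZero T ψ) θ = c * θ 1 := by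
    by_cases hex : ∃ θ : QT T → ℂ, InLayer (⊥ : Subgroup T) Z θ
    · obtain ⟨θ₁, h1⟩ := hex
      refine ⟨classInner (resZero T ψ) θ₁ / θ₁ 1, fun θ hθ => ?_⟩
      have he := h.engine hlayer hlt h₀ hψ (fun m hm => MonoidHom.mem_ker.mp
        (Abelianization.commutator_subset_ker ϑ₀ ((hmem m).mp hm).1)) hθ h1
      rw [div_mul_eq_mul_div, eq_div_iff (irr_degree_ne_zero h1.1)]
      linear_combination he
    · exact ⟨0, fun θ hθ => absurd ⟨θ, hθ⟩ hex⟩
  set a : QT T := ⟨z, hZQ hz⟩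
  set a' : QT T := ⟨z', hZQ hz'⟩
  have ha : a ≠ 1 := fun e => hz1 (congrArg Subtype.val e)
  have ha' : a' ≠ 1 := fun e => hz1' (congrArg Subtype.val e)
  have hf := resZero_class (T := T) (isClassFunction_of_isGeneralized hψ.gen)
  have e1 := congrFun (classFunction_expansion hf) a
  have e2 := congrFun (classFunction_expansion hf) a'
  rw [resZero_ne ψ ha] at e1
  rw [resZero_ne ψ ha'] at e2
  have h0 : ∑ θ : IrrCharacter (QT T), (θ : QT T → ℂ) 1 * ((θ : QT T → ℂ) a - (θ : QT T → ℂ) a') = 0 := by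
    simp only [mul_sub, Finset.sum_sub_distrib, sum_degree_mul_irr, if_neg ha, if_neg ha', sub_zero]
  show ψ ((a : T) : G) = ψ ((a' : T) : G)
  rw [← sub_eq_zero, e1, e2]
  simp only [Finset.sum_apply, Pi.smul_apply, smul_eq_mul]
  rw [← Finset.sum_sub_distrib]
  calc _ = ∑ θ : IrrCharacter (QT T), c * ((θ : QT T → ℂ) 1 * ((θ : QT T → ℂ) a - (θ : QT T → ℂ) a')) := by
        refine Finset.sum_congr rfl fun θ _ => ?_
        by_cases hm : ∃ m : QT T, (m : T) ∈ Z ∧ (θ : QT T → ℂ) m ≠ (θ : QT T → ℂ) 1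
        · rw [hc θ ⟨θ.2, fun b hb => by
            rw [Subgroup.mem_bot] at hb; rw [show b = 1 from Subtype.ext hb], hm⟩]
          ring
        · push Not at hm
          rw [hm a hz, hm a' hz']; ring
    _ = 0 := by rw [← Finset.mul_sum, h0, mul_zero]
where
  commutator_QT_ne' : commutator (QT T) ≠ ⊥ := by
    obtain ⟨⟨y, hy⟩, hy1⟩ := (Subgroup.ne_bot_iff_exists_ne_one).1 h.K_ne
    intro e
    have h1 := h.mem_commutator_of_mem_K
      ⟨⟨y, h.Q_le (h.K_le_Q hy)⟩, Subgroup.mem_subgroupOf.mpr (h.K_le_Q hy)⟩ hy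
    rw [e, Subgroup.mem_bot] at h1
    exact hy1 (Subtype.ext (congrArg (fun m : QT T => ((m : T) : G)) h1))

/-- The test inequality when the core has prime power order. -/
theorem bound_of_q (hlt : Nat.card K < Nat.card W) (hR : primeCompl (Nat.card K) (QT T) = ⊥) :
    (1 - 1 / (Nat.card W : ℝ) - ((bad S U).ncard : ℝ) / Nat.card U) / Nat.card K ≤
      5 * Nat.card W / (2 * Nat.card K * (2 * (Nat.card W : ℝ) - 1) ^ 2) := by
  classical
  haveI := Fact.mk h.primeK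
  haveI := h.nil_QT
  have hQ : IsPGroup (Nat.card K) (QT T) := by
    refine (isPGroup_quotient (Nat.card K) (Γ := QT T)).of_equiv ?_
    exact (QuotientGroup.quotientMulEquivOfEq hR).trans QuotientGroup.quotientBot
  obtain ⟨η, hη⟩ := exists_grid h.wsn (h.odd_card K) (h.odd_card W)
  obtain ⟨ϑ₀, hϑ₀⟩ := Finset.card_pos.mp h.card_pos_linSet
  have h₀ : ϑ₀ ≠ 1 := mem_linSet.mp hϑ₀
  obtain ⟨ψ, D, e, a, hψ, hd, ha, hs⟩ := h.exists_oriented hlt h₀
  obtain ⟨b, hb⟩ : ∃ b : Lin K, b ≠ 1 := by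
    refine Fintype.exists_ne_of_one_lt_card ?_ 1
    rw [hη.cardJ]; exact h.primeK.one_lt
  obtain ⟨χ, δ, n, d, hμ⟩ := h.exists_mu hb
  obtain ⟨Z, hZn, hZne, hZQ, hZc, hZcomm, hconst⟩ := h.exists_const_center hlt hQ h₀ hψ
  -- the congruence
  have hQp : IsPGroup (Nat.card K) (sigmaCore T) := hQ.of_equiv (Subgroup.subgroupOfEquivOfLe h.Q_le)
  obtain ⟨P, hP⟩ := hQp.exists_le_sylow
  have hPQ : (P : Subgroup G) = sigmaCore T := by
    by_contra hne
    have hPlt : sigmaCore T < (P : Subgroup G) := lt_of_le_of_ne hP (Ne.symm hne)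
    haveI : Group.IsNilpotent (P : Subgroup G) := P.2.isNilpotent
    have h1 : (sigmaCore T).subgroupOf P < ⊤ := lt_top_iff_ne_top.mpr fun e' =>
      hPlt.not_ge (Subgroup.subgroupOf_eq_top.mp e')
    obtain ⟨x, hxN, hx⟩ := SetLike.exists_of_lt
      (Group.normalizerCondition_of_isNilpotent (G := (P : Subgroup G)) _ h1)
    have hxT : (x : G) ∈ T := by
      rw [← h.normalizer_Q, Subgroup.mem_normalizer_iff]
      rw [Subgroup.mem_normalizer_iff] at hxN
      intro g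
      refine ⟨fun hg => ?_, fun hg => ?_⟩
      · exact Subgroup.mem_subgroupOf.mp ((hxN ⟨g, hP hg⟩).mp (Subgroup.mem_subgroupOf.mpr hg))
      · have hgP : g ∈ (P : Subgroup G) := by
          have := mul_mem (mul_mem (inv_mem x.2) (hP hg)) x.2
          simpa [mul_assoc] using this
        exact Subgroup.mem_subgroupOf.mp ((hxN ⟨g, hgP⟩).mpr (Subgroup.mem_subgroupOf.mpr hg))
    refine hx (Subgroup.mem_subgroupOf.mpr ?_)
    obtain ⟨w, hw, m, hm, e'⟩ := h.W_compl.2.2.2 _ hxT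
    have hwP : w ∈ (P : Subgroup G) := by
      have h2 := mul_mem x.2 (inv_mem (hP hm))
      rwa [e', mul_inv_cancel_right] at h2
    obtain ⟨i, hi⟩ := P.2 ⟨w, hwP⟩
    have h3 : orderOf w ∣ Nat.card K ^ i := orderOf_dvd_of_pow_eq_one (congrArg Subtype.val hi)
    have h4 : orderOf w = 1 := Nat.eq_one_of_dvd_coprimes
      ((h.K_coprime_W.symm.coprime_dvd_left (Subgroup.orderOf_dvd_natCard W hw)).pow_right i) dvd_rfl h3
    rw [e', orderOf_eq_one_iff.mp h4, one_mul]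
    exact hm
  have hNT : Subgroup.normalizer ((P : Subgroup G) : Set G) = T := by rw [hPQ]; exact h.normalizer_Q
  have hTI : IsTISubset ((P : Subgroup G) : Set G) := by
    intro g hg x hx hgx
    rw [hNT] at hg
    rw [hPQ] at hx hgx
    exact h.core_ti hlt g hg x hx hgx
  set ZG := Z.map T.subtype with hZG
  have hZGP : ZG ≤ (P : Subgroup G) := by
    rintro _ ⟨z, hz, rfl⟩; rw [hPQ]; exact Subgroup.mem_subgroupOf.mp (hZQ hz)
  have hZGn : ∀ x ∈ Subgroup.normalizer ((P : Subgroup G) : Set G), ∀ z ∈ ZG, x * z * x⁻¹ ∈ ZG := by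
    intro x hx z hz
    obtain ⟨z, hz, rfl⟩ := hz
    exact ⟨⟨x, hNT ▸ hx⟩ * z * ⟨x, hNT ▸ hx⟩⁻¹, hZn.conj_mem _ hz _, rfl⟩
  have hZGc : ∀ z ∈ ZG, ∀ y ∈ (P : Subgroup G), z * y = y * z := by
    rintro _ ⟨z, hz, rfl⟩ y hy
    rw [hPQ] at hy
    exact congrArg Subtype.val (hZc z hz ⟨y, h.Q_le hy⟩ (Subgroup.mem_subgroupOf.mpr hy))
  have hodd : Odd (Nat.card (Subgroup.normalizer ((P : Subgroup G) : Set G))) := h.odd_card _
  have hconstG : ∀ z ∈ ZG, ∀ z' ∈ ZG, z ≠ 1 → z' ≠ 1 → ψ z = ψ z' := by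
    rintro _ ⟨z, hz, rfl⟩ _ ⟨z', hz', rfl⟩ h1 h1'
    exact hconst z hz z' hz' (fun e' => h1 (by rw [e']; rfl)) (fun e' => h1' (by rw [e']; rfl))
  obtain ⟨z₀, hz₀, hz₀1⟩ := (Subgroup.bot_or_exists_ne_one Z).resolve_left hZne
  have hz₀G : (z₀ : G) ∈ ZG ∧ (z₀ : G) ≠ 1 := ⟨⟨z₀, hz₀, rfl⟩, fun e' => hz₀1 (Subtype.ext e')⟩
  obtain ⟨v, hv, hvdvd⟩ : ∃ v : ℤ, ψ (z₀ : G) = v ∧ (Nat.card (QT T) : ℤ) ∣ D - v := by
    have hc : (Nat.card (P : Subgroup G) : ℤ) = Nat.card (QT T) := by rw [hPQ, h.QT_card]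
    rcases hψ.signed with hs' | hs'
    · obtain ⟨m, d', hm, hd', hdd⟩ := CentralTI.congruence (Nat.card K) P hTI ZG hZGP hZGn hZGc hodd hs'
        hconstG hz₀G.1 hz₀G.2
      rw [hd.deg] at hd'
      exact ⟨m, hm, by rw [← hc, show D = d' from by exact_mod_cast hd']; exact hdd⟩
    · obtain ⟨m, d', hm, hd', hdd⟩ := CentralTI.congruence (Nat.card K) P hTI ZG hZGP hZGn hZGc hodd hs'
        (fun z hz z' hz' h1 h1' => by simp only [Pi.neg_apply, hconstG z hz z' hz' h1 h1'])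
        hz₀G.1 hz₀G.2
      rw [Pi.neg_apply, neg_eq_iff_eq_neg] at hm hd'
      rw [hd.deg] at hd'
      refine ⟨-m, by rw [hm]; simp, ?_⟩
      rw [← hc, show D = -d' from by exact_mod_cast hd', show -d' - -m = -(d' - m) by ring]
      exact hdd.neg_right
  obtain ⟨J, hJ⟩ := hvdvd
  set s := shift T D e with hsdef
  set Qc := Nat.card (QT T) with hQc
  set p := Nat.card W with hp
  set M := (linSet T).card with hM
  have hQ0 : (0 : ℝ) < Qc := by exact_mod_cast Nat.card_pos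
  obtain ⟨hs0, hMs⟩ := h.shift_le hlt h₀ hψ hd
  rw [← hsdef, ← hp, ← hM] at hMs
  rw [← hsdef] at hs0
  -- the size of the core
  obtain ⟨hdeg, hbig⟩ := h.degree_bound hμ
  rw [complT, hR, Subgroup.map_bot, Subgroup.relIndex_bot_left] at hdeg hbig
  rw [← hQc] at hdeg hbig
  rw [← hp] at hbig
  have hp5 : 5 ≤ p := by
    obtain ⟨i, hi⟩ : Odd (Nat.card K) := h.odd_card K
    obtain ⟨j, hj⟩ : Odd p := h.odd_card W
    have := h.three_le h.K_ne
    omega
  have hp5' : (5 : ℝ) ≤ p := by exact_mod_cast hp5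
  have hd2 : 2 * p ≤ d + 1 := h.mu_degree hμ
  have hd9 : (9 : ℝ) ≤ d := by exact_mod_cast (show 9 ≤ d by omega)
  have hq3 : (3 : ℝ) ≤ Nat.card K := by exact_mod_cast h.three_le h.K_ne
  have hdeg' : (Nat.card K : ℝ) * ((d : ℝ) * d) ≤ Qc := by exact_mod_cast hdeg
  have hbig' : (Nat.card K : ℝ) * (2 * (p : ℝ) - 1) ^ 2 ≤ Qc := by
    have := (Nat.cast_le (α := ℝ)).mpr hbig
    push_cast [Nat.cast_sub (show 1 ≤ 2 * p by omega)] at this
    exact this
  have hQp2 : 9 * (p : ℝ) ^ 2 ≤ Qc := by nlinarith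
  -- the remainder at the central elements
  set N := resNorm T ψ with hN
  have hNp := (h.res_norm_ineq hlt hψ.gen hψ.self).1
  rw [← hN, ← hp] at hNp
  set w : ℝ := (v : ℝ) - ((p : ℝ) - M * s) with hw
  have hrest : 2 * w ^ 2 ≤ (Qc : ℝ) * (N - ((p : ℝ) - 2 * p * s + M * s ^ 2)) := by
    have h1 := h.rest_norm h₀ hd
    rw [← hN, ← hsdef, ← hp, ← hM, classInner_self_re_eq, ← hQc] at h1
    rw [← h1]
    set z₁ : QT T := ⟨z₀, hZQ hz₀⟩
    have hz2 : (z₁⁻¹ : QT T) ≠ z₁ := by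
      intro e'
      refine hz₀1 (orderOf_eq_one_iff.mp (Nat.eq_one_of_dvd_coprimes
        (Nat.coprime_two_left.mpr (h.odd_card T)) ?_ (orderOf_dvd_natCard z₀)))
      refine orderOf_dvd_of_pow_eq_one ?_
      have e'' := congrArg Subtype.val e'
      simp only [z₁, Subgroup.coe_inv] at e''
      rw [pow_two]; nth_rw 1 [← e'']; exact inv_mul_cancel _
    have hval : ∀ m : QT T, (m : T) ∈ Z → m ≠ 1 → ‖resRest T ψ m‖ ^ 2 = w ^ 2 := by
      intro m hm hm1
      rw [h.rest_apply h₀ hd (hZcomm m hm) hm1, hconst _ hm z₀ hz₀ (fun e' => hm1 (Subtype.ext e')) hz₀1,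
        hv, ← hsdef, ← hp, ← hM, ← Complex.ofReal_intCast, ← Complex.ofReal_sub, Complex.norm_real,
        Real.norm_eq_abs, sq_abs, hw]
    have hz11 : z₁ ≠ 1 := fun e' => hz₀1 (congrArg Subtype.val e')
    have hpair : (∑ m ∈ ({z₁⁻¹, z₁} : Finset (QT T)), ‖resRest T ψ m‖ ^ 2) ≤
        ∑ m, ‖resRest T ψ m‖ ^ 2 :=
      Finset.sum_le_univ_sum_of_nonneg fun m => sq_nonneg _
    rw [Finset.sum_pair hz2, hval z₁⁻¹ (Z.inv_mem hz₀) (inv_ne_one.mpr hz11), hval z₁ hz₀ hz11] at hpair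
    rw [← mul_assoc, mul_inv_cancel₀ hQ0.ne', one_mul]
    linarith
  have hw2 : 2 * w ^ 2 ≤ (Qc : ℝ) * (2 * p * s) := by
    refine hrest.trans (mul_le_mul_of_nonneg_left ?_ hQ0.le)
    nlinarith [mul_nonneg (Nat.cast_nonneg M : (0 : ℝ) ≤ M) (sq_nonneg s)]
  have hMs0 : 0 ≤ (M : ℝ) * s := mul_nonneg (Nat.cast_nonneg M) hs0
  -- the value determines the shift
  have hsv : s = (v : ℝ) / Qc := by
    have hv2 : |(v : ℝ)| < (Qc : ℝ) / 2 := by
      by_contra hc
      push Not at hc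
      have h1 : (Qc : ℝ) / 2 - p ≤ |w| := by
        have h2 : |(v : ℝ)| - |(p : ℝ) - M * s| ≤ |w| := abs_sub_abs_le_abs_sub _ _
        have h3 : |(p : ℝ) - M * s| ≤ p := by rw [abs_le]; constructor <;> linarith
        linarith
      have h45 : 45 * (p : ℝ) ≤ Qc := by nlinarith
      have h4 : ((Qc : ℝ) / 2 - p) ^ 2 ≤ w ^ 2 := by
        rw [← sq_abs w]; exact pow_le_pow_left₀ (by linarith) h1 2
      have h5 : (Qc : ℝ) * (2 * p * s) ≤ Qc * p := by
        refine mul_le_mul_of_nonneg_left ?_ hQ0.le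
        nlinarith
      nlinarith
    have hJe : s = (v : ℝ) / Qc + ((J : ℝ) - e) := by
      have : (D : ℝ) = (v : ℝ) + (Qc : ℝ) * J := by
        have h1 : D = v + (Qc : ℤ) * J := by linarith
        exact_mod_cast h1
      rw [hsdef, shift, ← hQc, this]; field_simp; ring
    have hvq : |(v : ℝ) / Qc| < 1 / 2 := by
      rw [abs_div, abs_of_pos hQ0, div_lt_iff₀ hQ0]; linarith
    obtain ⟨h1, h2⟩ := abs_lt.mp hvq
    have h3 : ((J - e : ℤ) : ℝ) < 1 := by push_cast; linarith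
    have h4 : (-1 : ℝ) < ((J - e : ℤ) : ℝ) := by push_cast; linarith
    have h5 : J - e = 0 := by
      have h3' : J - e < 1 := by exact_mod_cast h3
      have h4' : -1 < J - e := by exact_mod_cast h4
      omega
    rw [hJe, show ((J : ℝ) - e) = ((J - e : ℤ) : ℝ) by push_cast; ring, h5, Int.cast_zero, add_zero]
  have hvs : (v : ℝ) = s * Qc := by rw [hsv]; field_simp
  have hw3 : 2 * w ^ 2 ≤ 2 * p * (v : ℝ) := by rw [hvs]; linarith
  have hv3 : (v : ℝ) < 3 * p := by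
    by_contra hc
    push Not at hc
    have h1 : ((v : ℝ) - p) ^ 2 ≤ w ^ 2 := pow_le_pow_left₀ (by linarith) (by rw [hw]; linarith) 2
    nlinarith
  -- the test
  have hsd : s * ((d : ℝ) + 1) < (p : ℝ) / 2 := by
    have h1 : 6 * ((d : ℝ) + 1) < Qc := by nlinarith
    have h2 : s * ((d : ℝ) + 1) * Qc ≤ 3 * p * ((d : ℝ) + 1) := by
      nlinarith [mul_le_mul_of_nonneg_right hv3.le (show (0 : ℝ) ≤ (d : ℝ) + 1 by linarith)]
    by_contra hc
    push Not at hc
    nlinarith [mul_le_mul_of_nonneg_right hc hQ0.le]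
  have htest := h.test_of_small hlt h₀ hη hψ hd ha hb hμ (r := (p : ℝ) / 2) (by linarith)
    (by
      rw [← hsdef, ← hp]
      have h1 : 4 * p * s * Qc ≤ (p : ℝ) ^ 2 / 4 * Qc := by nlinarith
      have h2 := le_of_mul_le_mul_right h1 hQ0
      linarith)
    (by rw [← hsdef, ← hp]; linarith)
  refine htest.trans ?_
  rw [← hN, ← hp]
  -- the remainder
  have hrem : (p : ℝ) - N ≤ 5 * (p : ℝ) ^ 2 / (2 * Qc) := by
    rw [le_div_iff₀ (by positivity)]
    have h1 : ((p : ℝ) - N) * Qc ≤ Qc * (2 * p * s - M * s ^ 2) - 2 * w ^ 2 := by linarith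
    have h2 : (Qc : ℝ) * (2 * p * s - M * s ^ 2) ≤ 2 * p * v := by
      rw [hvs]; nlinarith [mul_nonneg hQ0.le (mul_nonneg (Nat.cast_nonneg M : (0 : ℝ) ≤ M) (sq_nonneg s))]
    rcases le_or_gt (v : ℝ) p with hvp | hvp
    · nlinarith [sq_nonneg w]
    · have h3 : ((v : ℝ) - p) ^ 2 ≤ w ^ 2 := pow_le_pow_left₀ (by linarith) (by rw [hw]; linarith) 2
      nlinarith [sq_nonneg ((v : ℝ) - 3 / 2 * p)]
  have hp0 : (0 : ℝ) < p := by linarith
  rw [show 1 - N / (p : ℝ) = ((p : ℝ) - N) / p by field_simp, div_le_iff₀ hp0]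
  refine hrem.trans ?_
  rw [show 5 * (p : ℝ) / (2 * Nat.card K * (2 * (p : ℝ) - 1) ^ 2) * p =
    5 * (p : ℝ) ^ 2 / (2 * (Nat.card K * (2 * (p : ℝ) - 1) ^ 2)) by ring]
  have hpos : (0 : ℝ) < Nat.card K * (2 * (p : ℝ) - 1) ^ 2 := by
    have : (0 : ℝ) < 2 * (p : ℝ) - 1 := by linarith
    positivity
  exact div_le_div_of_nonneg_left (by positivity) (by positivity) (by linarith)

end TV

end CfsgLib.Peterfalvi.Pair.TypeV
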