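import Cfsg.Agent.Lib.Peterfalvi.Pair.TypeV.LargeFacts

/-!
The orientation of the signed character and the test inequality for a small shift.
-/

set_option autoImplicit false
set_option linter.style.haveILetI false
set_option linter.unusedSectionVars false

namespace CfsgLib.Peterfalvi.Pair.TypeV

open Cfsg CfsgLib.Char
open CfsgLib.Peterfalvi.Pair (Lin IsGrid tilde)
open scoped ComplexConjugate CfsgLib.Char Pointwise

universe u

variable {G : Type u} [Group G] [Fintype G] {S T U K W : Subgroup G} [Fintype T] [Fintype (QT T)]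

namespace TV

variable (h : TV S T U K W) (hlt : Nat.card K < Nat.card W) {ϑ₀ : QT T →* ℂˣ} (h₀ : ϑ₀ ≠ 1)
include h hlt h₀

theorem shift_le {ψ : G → ℂ} (hψ : IsPsi T ϑ₀ ψ) {D e a : ℤ} (hd : ResData T ϑ₀ ψ D e a) :
    0 ≤ shift T D e ∧ ((linSet T).card : ℝ) * shift T D e ≤ 2 * Nat.card W := by
  have hb := h.bessel_res h₀ hd ∅ (by simp)
  have hN := (h.res_norm_ineq hlt hψ.gen hψ.self).1
  rw [Finset.sum_empty, add_zero] at hb
  set s := shift T D e
  have hM : (0 : ℝ) < (linSet T).card := by exact_mod_cast h.card_pos_linSet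
  have hp : (0 : ℝ) < Nat.card W := by exact_mod_cast Nat.card_pos
  have h1 : ((linSet T).card : ℝ) * s ^ 2 ≤ 2 * Nat.card W * s := by
    nlinarith [sq_nonneg ((a : ℝ) + 1 - s)]
  have h2 : 0 ≤ s := by nlinarith [mul_nonneg hM.le (sq_nonneg s)]
  refine ⟨h2, ?_⟩
  rcases h2.eq_or_lt with e' | e'
  · rw [← e']; simp
  · nlinarith

/-- The signed character can be chosen with shift at most one half. -/
theorem exists_oriented : ∃ (ψ : G → ℂ) (D e a : ℤ), IsPsi T ϑ₀ ψ ∧ ResData T ϑ₀ ψ D e a ∧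
    classInner (dmap T (h.base ϑ₀)) ψ = a ∧ shift T D e ≤ 1 / 2 := by
  classical
  have hbg := h.dmap_gen (h.base_gen ϑ₀) (h.base_vanish ϑ₀)
  obtain ⟨ψ, hψ⟩ := h.exists_psi h₀
  obtain ⟨a, ha⟩ := exists_int_classInner hbg hψ.gen
  obtain ⟨D, e, hd⟩ := h.exists_resData hlt h₀ hψ ha
  by_cases hs : shift T D e ≤ 1 / 2
  · exact ⟨ψ, D, e, a, hψ, hd, ha, hs⟩
  push Not at hs
  obtain ⟨-, hMs⟩ := h.shift_le hlt h₀ hψ hd
  -- only one pair of induced characters
  have hM : (linSet T).card = 2 * Nat.card W := by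
    obtain ⟨c, hc⟩ := h.two_W_dvd
    have hc1 : c ≠ 0 := fun e' => by rw [e', mul_zero] at hc; exact h.card_pos_linSet.ne' hc
    by_contra hne
    have hc2 : 2 ≤ c := by
      by_contra hc3
      exact hne (by rw [hc, show c = 1 by omega, mul_one])
    have h4 : (4 : ℝ) * Nat.card W ≤ (linSet T).card := by
      rw [hc]; push_cast
      have : (2 : ℝ) ≤ c := by exact_mod_cast hc2
      nlinarith [show (0 : ℝ) ≤ Nat.card W from Nat.cast_nonneg _]
    have hp : (0 : ℝ) < Nat.card W := by exact_mod_cast Nat.card_pos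
    nlinarith [mul_le_mul_of_nonneg_left hs.le (le_trans (by positivity) h4)]
  have hinv := lin_inv_ne h₀
  have hzne : zeta T ϑ₀⁻¹ ≠ zeta T ϑ₀ := by rw [← h.zeta_conj]; exact (h.achar h₀).2.1
  have hX : ∀ ϑ : QT T →* ℂˣ, ϑ ≠ 1 →
      zeta T ϑ = zeta T ϑ₀ ∨ zeta T ϑ = conjFun (zeta T ϑ₀) := by
    intro ϑ hϑ
    rw [h.zeta_conj]
    by_contra hc
    push Not at hc
    set A := (linSet T).filter fun x => zeta T x = zeta T ϑ₀
    set B := (linSet T).filter fun x => zeta T x = zeta T ϑ₀⁻¹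
    have hdis : Disjoint A B := Finset.disjoint_filter.mpr fun x _ h1 h2 => hzne (h2.symm.trans h1)
    have hsub : insert ϑ (A ∪ B) ⊆ linSet T := Finset.insert_subset (mem_linSet.mpr hϑ)
      (Finset.union_subset (Finset.filter_subset _ _) (Finset.filter_subset _ _))
    have h1 := Finset.card_le_card hsub
    rw [Finset.card_insert_of_notMem (by simp [A, B, hc.1, hc.2]), Finset.card_union_of_disjoint hdis,
      h.card_fibre h₀, h.card_fibre hinv, hM] at h1
    omega
  set ψ' : G → ℂ := -conjFun ψ with hψ'def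
  have hψ' : IsPsi T ϑ₀ ψ' := h.psi_swap hψ hX
  obtain ⟨a', ha'⟩ := exists_int_classInner hbg hψ'.gen
  obtain ⟨D', e', hd'⟩ := h.exists_resData hlt h₀ hψ' ha'
  refine ⟨ψ', D', e', a', hψ', hd', ha', ?_⟩
  have hD : D' = -D := by
    have h1 := hd'.deg
    rw [hψ'def, Pi.neg_apply, conjFun, hd.deg, map_intCast] at h1
    exact_mod_cast h1.symm
  have he : e' = -e - 1 := by
    have h1 := hd'.lin ϑ₀ h₀
    rw [if_pos rfl, hψ'def, show resQ T (-conjFun ψ) = -conjFun (resQ T ψ) from rfl,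
      classInner_neg_left, show lf ϑ₀ = conjFun (lf ϑ₀⁻¹) from funext fun m => by
        simp only [conjFun, lf, MonoidHom.inv_apply, Units.val_inv_eq_inv_val]
        rw [map_inv₀, ← Complex.inv_eq_conj (Complex.norm_eq_one_of_pow_eq_one (n := Nat.card (QT T))
          (by rw [← Units.val_pow_eq_pow_val, ← map_pow, pow_card_eq_one', map_one, Units.val_one])
          Nat.card_pos.ne'), inv_inv],
      CfsgLib.Peterfalvi.Pair.classInner_conjFun, hd.lin _ hinv, if_neg hzne] at h1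
    have h2 : ((e' + 1 : ℤ) : ℂ) = ((-e : ℤ) : ℂ) := by
      push_cast; simp only [add_zero, map_intCast] at h1; linear_combination -h1
    have h3 : e' + 1 = -e := by exact_mod_cast h2
    omega
  have hss : shift T D' e' = 1 - shift T D e := by
    simp only [shift, hD, he]; push_cast; ring
  linarith

/-- The test inequality when the shift is small. -/
theorem test_of_small {η : Lin W → Lin K → G → ℂ} (hη : IsGrid K W η) {ψ : G → ℂ}
    (hψ : IsPsi T ϑ₀ ψ) {D e a : ℤ} (hd : ResData T ϑ₀ ψ D e a)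
    (ha : classInner (dmap T (h.base ϑ₀)) ψ = a) {b : Lin K} (hb : b ≠ 1) {χ : T → ℂ} {δ n : ℤ}
    {d : ℕ} (hμ : MuData T K W b χ δ n d) {r : ℝ} (hr0 : 0 ≤ r)
    (hr : 4 * Nat.card W * shift T D e ≤ r ^ 2)
    (hsmall : r + shift T D e * ((d : ℝ) + 1) < Nat.card W) :
    (1 - 1 / (Nat.card W : ℝ) - ((bad S U).ncard : ℝ) / Nat.card U) / Nat.card K ≤
      1 - resNorm T ψ / Nat.card W := by
  classical
  obtain ⟨c, hc⟩ := hη.exists_coeff (h.dmap_gen (h.base_gen ϑ₀) (h.base_vanish ϑ₀))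
  obtain ⟨E, g, hg, hE, hpar⟩ := h.parity_E hlt hη h₀ hψ hc hb hμ hd ha
  obtain ⟨hs0, -⟩ := h.shift_le hlt h₀ hψ hd
  set s := shift T D e with hs
  have hd1 : (fun m : QT T => χ m) 1 ≠ 1 := by
    show χ ((1 : QT T) : T) ≠ 1
    rw [Subgroup.coe_one, hμ.deg]
    have := h.mu_degree hμ
    have := h.three_le h.W_ne
    exact fun e' => absurd (Nat.cast_eq_one.mp e' : d = 1) (by omega)
  have hbes := h.bessel_res h₀ hd {fun m : QT T => χ m} (fun θ hθ => by
    rw [Finset.mem_singleton.mp hθ]; exact ⟨hμ.res_irr, hd1⟩)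
  rw [Finset.sum_singleton, hg, Complex.norm_real, Real.norm_eq_abs, sq_abs, ← hs] at hbes
  have hN := (h.res_norm_ineq hlt hψ.gen hψ.self).1
  have hM0 : (0 : ℝ) ≤ (linSet T).card := Nat.cast_nonneg _
  set A := ((a : ℝ) + 1 - s)
  set B := ((g : ℝ) - d * s)
  have hδ : (δ : ℝ) = 1 ∨ (δ : ℝ) = -1 := hμ.sign.imp (fun e' => by simp [e']) fun e' => by simp [e']
  have hX : |A - δ * B| ≤ r := by
    refine abs_le_of_sq_le_sq ?_ hr0
    have h1 : A ^ 2 + B ^ 2 ≤ 2 * Nat.card W * s := by nlinarith [mul_nonneg hM0 (sq_nonneg s)]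
    rcases hδ with e' | e' <;> rw [e'] <;> nlinarith [sq_nonneg (A + B), sq_nonneg (A - B)]
  have hlt' : |((a + 1 - δ * g : ℤ) : ℝ)| < Nat.card W := by
    refine lt_of_le_of_lt ?_ hsmall
    have heq : ((a + 1 - δ * g : ℤ) : ℝ) = (A - δ * B) + s * (1 - δ * d) := by
      simp only [A, B]; push_cast; ring
    rw [heq]
    refine (abs_add_le _ _).trans (add_le_add hX ?_)
    rw [abs_mul, abs_of_nonneg hs0]
    refine mul_le_mul_of_nonneg_left ?_ hs0
    have hd0 : (0 : ℝ) ≤ d := Nat.cast_nonneg _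
    rw [abs_le]
    rcases hδ with e' | e' <;> rw [e'] <;> constructor <;> linarith
  have hEn : E = δ * n := by
    have h1 : |(Nat.card W : ℤ) * (E - δ * n)| < (Nat.card W : ℤ) * 1 := by
      rw [mul_sub, hE, mul_one, show a + 1 - δ * g + δ * n * (Nat.card W : ℤ) - (Nat.card W : ℤ) * (δ * n) =
        a + 1 - δ * g by ring]
      exact_mod_cast hlt'
    rw [abs_mul, Nat.abs_cast] at h1
    have h2 := lt_of_mul_lt_mul_left h1 (Int.natCast_nonneg _)
    have := abs_eq_zero.mp (show |E - δ * n| = 0 by have := abs_nonneg (E - δ * n); omega)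
    omega
  have hy : c 1 b ≠ 1 := by
    intro e'
    obtain ⟨k, hk⟩ := hμ.even
    rw [hEn, e', hk] at hpar
    rw [show (1 : ℤ) + δ * (k + k) = 1 + 2 * (δ * k) by ring] at hpar
    omega
  exact (h.res_norm_ineq hlt hψ.gen hψ.self).2 ((h.shape hη h₀ hψ hc hb).2 hy).2

end TV

end CfsgLib.Peterfalvi.Pair.TypeV
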