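import Cfsg.Agent.Lib.Peterfalvi.Pair.TypeV.Chars
import Cfsg.Agent.S1510
import Cfsg.Agent.S1511

/-!
An exceptional character of `T`.
-/

set_option autoImplicit false
set_option linter.style.haveILetI false
set_option linter.unusedSectionVars false

namespace CfsgLib.Peterfalvi.Pair.TypeV

open Cfsg CfsgLib.Char
open CfsgLib.BG.FixedLine (conj_mem_of_le_normalizer)
open CfsgLib.Peterfalvi.Pair (Lin IsGrid)
open scoped ComplexConjugate CfsgLib.Char Pointwise

universe u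

variable {G : Type u} [Group G] [Fintype G] {S T U K W : Subgroup G} [Fintype T] [Fintype (QT T)]

/-- An exceptional character with its degree. -/
structure MuData (T K W : Subgroup G) [Fintype T] [Fintype (QT T)] (b : Lin K) (χ : T → ℂ)
    (δ n : ℤ) (d : ℕ) : Prop where
  irr : IsIrrCharacter T χ
  deg : χ 1 = d
  eq : (d : ℤ) = δ + n * (Nat.card W : ℤ)
  sign : δ = 1 ∨ δ = -1
  even : Even n
  two_le : 2 ≤ n
  value : ∀ (t : T) (c : K) (w : W), w ≠ 1 → (t : G) = (c : G) * w →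
    χ t = (δ : ℂ) * (b c : ℂ)
  res_irr : IsIrrCharacter (QT T) fun m : QT T => χ m

namespace TV

variable (h : TV S T U K W)
include h

theorem exists_mu {b : Lin K} (hb : b ≠ 1) :
    ∃ (χ : T → ℂ) (δ n : ℤ) (d : ℕ), MuData T K W b χ δ n d := by
  classical
  set W₁ := W.subgroupOf T with hW₁
  set W₂ := K.subgroupOf T with hW₂
  have hKT : K ≤ T := h.K_le_Q.trans h.Q_le
  have e₁ : W₁ ≃* W := Subgroup.subgroupOfEquivOfLe h.W_le_T
  have e₂ : W₂ ≃* K := Subgroup.subgroupOfEquivOfLe hKT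
  haveI := h.W_cyclic
  haveI : Fact (Nat.card K).Prime := ⟨h.primeK⟩
  have hKc : IsCyclic K := isCyclic_of_prime_card (p := Nat.card K) rfl
  have hinf : QT T ⊓ W₁ = ⊥ := by
    refine (Subgroup.eq_bot_iff_forall _).mpr fun x hx => Subtype.ext (Subgroup.mem_bot.mp
      (h.W_compl.2.2.1 ▸ ⟨Subgroup.mem_subgroupOf.mp hx.2, Subgroup.mem_subgroupOf.mp hx.1⟩))
  have hsup : QT T ⊔ W₁ = ⊤ := eq_top_iff.mpr fun x _ => by
    obtain ⟨n, hn, w, hw, rfl⟩ := h.exists_decomp x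
    exact Subgroup.mul_mem_sup hn (Subgroup.mem_subgroupOf.mpr hw)
  have hne₁ : W₁ ≠ ⊥ := fun e => by
    have := Nat.card_congr e₁.toEquiv
    rw [e, Subgroup.card_bot] at this
    exact h.W_ne (Subgroup.card_eq_one.mp this.symm)
  have hne₂ : W₂ ≠ ⊥ := fun e => by
    have := Nat.card_congr e₂.toEquiv
    rw [e, Subgroup.card_bot] at this
    exact h.primeK.ne_one this.symm
  have hc₁ : IsCyclic W₁ := isCyclic_of_injective e₁.toMonoidHom e₁.injective
  have hc₂ : IsCyclic W₂ := isCyclic_of_injective e₂.toMonoidHom e₂.injective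
  have hHall : Nat.Coprime (Nat.card W₁) W₁.index := by
    have e := W₁.card_mul_index
    rw [Nat.card_congr e₁.toEquiv, h.card_T] at e
    rw [Nat.card_congr e₁.toEquiv, Nat.eq_of_mul_eq_mul_left Nat.card_pos e]
    exact h.hall_coprime.symm
  have hK : W₂ ≤ QT T := fun x hx =>
    Subgroup.mem_subgroupOf.mpr (h.K_le_Q (Subgroup.mem_subgroupOf.mp hx))
  have hC : ∀ x ∈ W₁, x ≠ 1 → QT T ⊓ Subgroup.centralizer ({x} : Set T) = W₂ := by
    intro x hx hx1
    have hx1' : (x : G) ≠ 1 := fun e => hx1 (Subtype.ext e)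
    ext y
    simp only [Subgroup.mem_inf, Subgroup.mem_subgroupOf, Subgroup.mem_centralizer_singleton_iff,
      hW₂, QT]
    rw [← h.Q_fix (Subgroup.mem_subgroupOf.mp hx) hx1', Subgroup.mem_inf,
      Subgroup.mem_centralizer_singleton_iff]
    exact ⟨fun ⟨a, b⟩ => ⟨a, congrArg Subtype.val b⟩, fun ⟨a, b⟩ => ⟨a, Subtype.ext b⟩⟩
  have hodd : Odd (Nat.card ↥(W₁ ⊔ W₂)) :=
    (h.odd_card T).of_dvd_nat (Subgroup.card_subgroup_dvd_card _)
  have hWsn := Cfsg.Agent.S1510.result (QT T) W₁ W₂ hinf hsup hne₁ hc₁ hHall hne₂ hc₂ hK hC hodd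
  obtain ⟨μ, δ, hinj, hirr, hδ, -, hval, hvan, hcong⟩ :=
    Cfsg.Agent.S1511.result (QT T) W₁ W₂ hinf hsup hne₁ hc₁ hHall hne₂ hc₂ hK hC hodd
  -- the character of the cyclic group
  obtain ⟨pr, qr, hpr, hqr, hpq, hL, hR⟩ := CyclicTI.exists_proj (W₁ := W₁) (W₂ := W₂)
    (CyclicTI.disj_of hWsn) (CyclicTI.comm_of hWsn)
  let r : ↥(W₁ ⊔ W₂) →* K :=
    { toFun := fun w => ⟨((qr w : T) : G), Subgroup.mem_subgroupOf.mp (hqr w)⟩
      map_one' := Subtype.ext (by simp)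
      map_mul' := fun u v => Subtype.ext (by simp) }
  set ω : ↥(W₁ ⊔ W₂) →* ℂˣ := b.comp r with hω
  obtain ⟨k, hk⟩ := hcong ω
  obtain ⟨d, hd, hd0, hdd⟩ := exists_degree_dvd_card (hirr ω)
  obtain ⟨s, hs, hsv⟩ : ∃ s : ℤ, (s = 1 ∨ s = -1) ∧ δ ω = s := by
    rcases hδ ω with e | e
    · exact ⟨1, Or.inl rfl, by simp [e]⟩
    · exact ⟨-1, Or.inr rfl, by simp [e]⟩
  have hvalue : ∀ (t : T) (c : K) (w : W), w ≠ 1 → (t : G) = (c : G) * w →
      μ ω t = (s : ℂ) * (b c : ℂ) := by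
    intro t c w hw e
    set c' : T := ⟨c, hKT c.2⟩ with hc'
    set w' : T := ⟨w, h.W_le_T w.2⟩ with hw'
    have ht : t = w' * c' := Subtype.ext (by
      rw [e, h.commute c.2 w.2]; rfl)
    have hm₁ : w' ∈ W₁ := Subgroup.mem_subgroupOf.mpr w.2
    have hm₂ : c' ∈ W₂ := Subgroup.mem_subgroupOf.mpr c.2
    set x : ↥(W₁ ⊔ W₂) := ⟨w', Subgroup.mem_sup_left hm₁⟩ * ⟨c', Subgroup.mem_sup_right hm₂⟩
    have hnot : ((x : T)) ∉ W₂ := fun hm => hw (Subtype.ext (by
      have h1 : w' ∈ W₁ ⊓ W₂ := ⟨hm₁, by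
        have := mul_mem hm (inv_mem hm₂)
        simpa [x, mul_assoc] using this⟩
      rw [CyclicTI.disj_of hWsn, Subgroup.mem_bot] at h1
      exact congrArg (fun z : T => (z : G)) h1))
    rw [ht, show w' * c' = (x : T) from rfl, hval ω x hnot, hsv, hω]
    congr 1
    show ((b (r x) : ℂˣ) : ℂ) = _
    congr 2
    refine Subtype.ext ?_
    show ((qr x : T) : G) = c
    rw [map_mul, (hL _ hm₁).2, (hR _ hm₂).2, one_mul]
  have hnorm : ∀ t : T, t ∉ QT T → ‖μ ω t‖ = 1 := by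
    intro t ht
    obtain ⟨e, -, c, w, hc, hw, hw1, he⟩ := h.exists_conj_WK ht
    rw [← isClassFunction_of_isCharacter (isCharacter_of_isIrr (hirr ω)) t e,
      hvalue _ ⟨c, hc⟩ ⟨w, hw⟩ (fun e' => hw1 (congrArg Subtype.val e')) he, norm_mul,
      Complex.norm_eq_one_of_pow_eq_one (n := Nat.card K) (ζ := ((b ⟨c, hc⟩ : ℂˣ) : ℂ))
        (by rw [← Units.val_pow_eq_pow_val, ← map_pow, pow_card_eq_one', map_one, Units.val_one])
        Nat.card_pos.ne', mul_one]
    rcases hs with e' | e' <;> simp [e']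
  have hres : IsIrrCharacter (QT T) fun m : QT T => μ ω m := by
    refine isIrr_of_norm_one (isCharacter_restrict (QT T) (isCharacter_of_isIrr (hirr ω))) ?_
    have h1 := classInner_irr_self (hirr ω)
    simp only [classInner, Complex.mul_conj'] at h1 ⊢
    have hsplit : ∑ t : T, (‖μ ω t‖ : ℂ) ^ 2 =
        (∑ m : QT T, (‖μ ω m‖ : ℂ) ^ 2) + ((Nat.card T : ℂ) - Nat.card (QT T)) := by
      rw [← Finset.sum_filter_add_sum_filter_not Finset.univ (fun t : T => t ∈ QT T)]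
      congr 1
      · exact Finset.sum_subtype _ (fun t => by simp) fun t => (‖μ ω t‖ : ℂ) ^ 2
      · rw [Finset.sum_congr rfl (g := fun _ => (1 : ℂ)) fun t ht => by
          rw [hnorm t (Finset.mem_filter.mp ht).2]; simp, Finset.sum_const, nsmul_one]
        have := Finset.card_filter_add_card_filter_not (s := (Finset.univ : Finset T)) (fun t => t ∈ QT T)
        rw [show (Finset.univ.filter fun t : T => t ∈ QT T).card = Nat.card (QT T) by
          rw [Nat.card_eq_fintype_card, Fintype.card_subtype], Finset.card_univ,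
          ← Nat.card_eq_fintype_card] at this
        rw [← this]; push_cast; ring
    rw [hsplit] at h1
    have hT : (Nat.card T : ℂ) ≠ 0 := Nat.cast_ne_zero.mpr Nat.card_pos.ne'
    have hQ : (Nat.card (QT T) : ℂ) ≠ 0 := Nat.cast_ne_zero.mpr Nat.card_pos.ne'
    rw [inv_mul_eq_div, div_eq_one_iff_eq hT] at h1
    rw [inv_mul_eq_div, div_eq_one_iff_eq hQ]
    linear_combination h1
  have hd1 : d ≠ 1 := by
    intro e
    rw [e, Nat.cast_one] at hd
    set f := linearHom (isCharacter_of_isIrr (hirr ω)) hd with hf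
    have hf' : ∀ t, (f t : ℂ) = μ ω t := linearHom_apply _ hd
    obtain ⟨⟨w₀, hw₀⟩, hw₀1⟩ := (Subgroup.ne_bot_iff_exists_ne_one).1 h.W_ne
    set t₀ : T := ⟨w₀, h.W_le_T hw₀⟩ with ht₀
    have hϑ : f.comp (QT T).subtype = 1 := by
      refine h.eq_one_of_fixed (w := t₀) hw₀ (fun e' => hw₀1 (Subtype.ext (congrArg (fun z : T => (z : G)) e'))) ?_
      refine MonoidHom.ext fun m => ?_
      show f (t₀ * m * t₀⁻¹) = f m
      rw [map_mul, map_mul, map_inv, mul_comm (f t₀), mul_inv_cancel_right]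
    refine hb (MonoidHom.ext fun c => Units.ext ?_)
    have h1 := hvalue (⟨(c : G), hKT c.2⟩ * t₀) c ⟨w₀, hw₀⟩ hw₀1 rfl
    have h2 := hvalue t₀ 1 ⟨w₀, hw₀⟩ hw₀1 (by simp [ht₀])
    have h3 : f ⟨(c : G), hKT c.2⟩ = 1 :=
      DFunLike.congr_fun hϑ ⟨⟨c, hKT c.2⟩, Subgroup.mem_subgroupOf.mpr (h.K_le_Q c.2)⟩
    rw [← hf', map_mul, h3, one_mul, hf', h2, map_one] at h1
    rcases hs with e' | e' <;> simp only [e', Int.cast_one, Int.cast_neg, Units.val_one, one_mul,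
      neg_mul, neg_inj] at h1 <;> simp [← h1]
  have hdk : (d : ℤ) = s + k * (Nat.card W : ℤ) := by
    rw [hd, hsv, Nat.card_congr e₁.toEquiv] at hk
    have : ((d : ℤ) : ℂ) = ((s + k * (Nat.card W : ℤ) : ℤ) : ℂ) := by push_cast; linear_combination hk
    exact_mod_cast this
  have hdo : Odd d := (h.odd_card T).of_dvd_nat hdd
  obtain ⟨i, hi⟩ := hdo
  obtain ⟨j, hj⟩ := h.odd_card W
  have hke : Even k := by
    by_contra hne
    obtain ⟨l, hl⟩ := Int.not_even_iff_odd.mp hne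
    rw [hl, hi, hj] at hdk
    push_cast at hdk
    obtain ⟨z, hz⟩ : ∃ z, z = l * (j : ℤ) := ⟨_, rfl⟩
    have : (2 * (i : ℤ) + 1) = s + (4 * z + 2 * l + 2 * j + 1) := by rw [hdk, hz]; ring
    clear hdk hz
    rcases hs with rfl | rfl <;> omega
  refine ⟨μ ω, s, k, d, ⟨hirr ω, hd, hdk, hs, hke, ?_, hvalue, hres⟩⟩
  obtain ⟨l, hl⟩ := hke
  by_contra hlt
  have hk0 : k ≤ 0 := by omega
  have : k * (Nat.card W : ℤ) ≤ 0 := mul_nonpos_of_nonpos_of_nonneg hk0 (Int.natCast_nonneg _)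
  rcases hs with rfl | rfl <;> omega

end TV

end CfsgLib.Peterfalvi.Pair.TypeV
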