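import Cfsg.Agent.Lib.Peterfalvi.Pair.TypeV.TI
import Cfsg.Agent.Lib.Peterfalvi.Pair.TypeV.Bound

/-!
The restriction of the signed character to the core.
-/

set_option autoImplicit false
set_option linter.style.haveILetI false
set_option linter.unusedSectionVars false

namespace CfsgLib.Peterfalvi.Pair.TypeV

open Cfsg CfsgLib.Char
open CfsgLib.BG.FixedLine (conj_mem_of_le_normalizer)
open CfsgLib.Peterfalvi.Pair (tilde bessel)
open scoped ComplexConjugate CfsgLib.Char Pointwise

universe u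

variable {G : Type u} [Group G] [Fintype G] {S T U K W : Subgroup G}

/-- The restriction to the core. -/
def resQ (T : Subgroup G) (ψ : G → ℂ) : QT T → ℂ := fun n => ψ ((n : T) : G)

/-- The restriction to the core without the value at the identity. -/
noncomputable def resZero (T : Subgroup G) (ψ : G → ℂ) : QT T → ℂ :=
  fun n => @ite _ (n = 1) (Classical.dec _) 0 (ψ ((n : T) : G))

theorem resZero_one (T : Subgroup G) (ψ : G → ℂ) : resZero T ψ 1 = 0 := by simp [resZero]

theorem resZero_ne {T : Subgroup G} (ψ : G → ℂ) {n : QT T} (hn : n ≠ 1) :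
    resZero T ψ n = ψ ((n : T) : G) := by simp [resZero, hn]

variable [Fintype T] [Fintype (QT T)]

theorem inner_resZero (ψ : G → ℂ) (θ : QT T → ℂ) :
    classInner (resZero T ψ) θ =
      classInner (resQ T ψ) θ - ψ 1 * conj (θ 1) / (Nat.card (QT T) : ℂ) := by
  classical
  have h : classInner (resQ T ψ - resZero T ψ) θ = ψ 1 * conj (θ 1) / (Nat.card (QT T) : ℂ) := by
    simp only [classInner]
    rw [Fintype.sum_eq_single (1 : QT T) fun n hn => by simp [resQ, resZero_ne ψ hn]]
    simp [resQ, resZero_one, div_eq_inv_mul]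
  rw [classInner_sub_left] at h
  rw [← h]; ring

theorem resQ_gen {ψ : G → ℂ} (hψ : IsGeneralizedCharacter G ψ) :
    IsGeneralizedCharacter (QT T) (resQ T ψ) :=
  isGeneralized_restrict (QT T) (isGeneralized_restrict T hψ)

/-- The numerical data of the restriction. -/
structure ResData (T : Subgroup G) [Fintype T] [Fintype (QT T)] (ϑ₀ : QT T →* ℂˣ) (ψ : G → ℂ)
    (D e a : ℤ) : Prop where
  deg : ψ 1 = D
  lin : ∀ ϑ : QT T →* ℂˣ, ϑ ≠ 1 → classInner (resQ T ψ) (lf ϑ) =
    (e : ℂ) + @ite _ (zeta T ϑ = zeta T ϑ₀) (Classical.dec _) 1 0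
  triv : classInner (resQ T ψ) (fun _ => 1) = ((a + e + 1 : ℤ) : ℂ)

/-- The shift of the coefficients. -/
noncomputable def shift (T : Subgroup G) (D e : ℤ) : ℝ := (D : ℝ) / Nat.card (QT T) - e

/-- The squared norm of the restriction without the identity. -/
noncomputable def resNorm (T : Subgroup G) [Fintype (QT T)] (ψ : G → ℂ) : ℝ :=
  (classInner (resZero T ψ) (resZero T ψ)).re

/-- The restriction without the identity and the nontrivial linear characters. -/
noncomputable def resRest (T : Subgroup G) [Fintype T] [Fintype (QT T)] (ψ : G → ℂ) :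
    QT T → ℂ :=
  resZero T ψ - ∑ ϑ ∈ linSet T, classInner (resZero T ψ) (lf ϑ) • lf ϑ

namespace ResData

variable {ϑ₀ : QT T →* ℂˣ} {ψ : G → ℂ} {D e a : ℤ} (hd : ResData T ϑ₀ ψ D e a)
include hd

theorem lin₀ {ϑ : QT T →* ℂˣ} (hϑ : ϑ ≠ 1) : classInner (resZero T ψ) (lf ϑ) =
    (((@ite _ (zeta T ϑ = zeta T ϑ₀) (Classical.dec _) 1 0) - shift T D e : ℝ) : ℂ) := by
  classical
  rw [inner_resZero, hd.lin ϑ hϑ, hd.deg, show lf ϑ 1 = 1 by simp [lf], map_one, shift]
  split_ifs <;> (push_cast; ring)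

theorem triv₀ : classInner (resZero T ψ) (fun _ => 1) =
    (((a : ℝ) + 1 - shift T D e : ℝ) : ℂ) := by
  rw [inner_resZero, hd.triv, hd.deg, map_one, shift]
  push_cast; ring

end ResData

namespace TV

variable (h : TV S T U K W)
include h

theorem sum_lin_sq {ϑ₀ : QT T →* ℂˣ} (h₀ : ϑ₀ ≠ 1) (s : ℝ) :
    ∑ ϑ ∈ linSet T, ((@ite _ (zeta T ϑ = zeta T ϑ₀) (Classical.dec _) 1 0) - s : ℝ) ^ 2 =
      (Nat.card W : ℝ) - 2 * Nat.card W * s + (linSet T).card * s ^ 2 := by
  classical
  rw [← Finset.sum_filter_add_sum_filter_not (linSet T) (fun ϑ => zeta T ϑ = zeta T ϑ₀),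
    Finset.sum_congr rfl (g := fun _ => (1 - s) ^ 2) fun ϑ hϑ => by rw [if_pos (Finset.mem_filter.mp hϑ).2],
    Finset.sum_congr rfl (g := fun _ => s ^ 2) (s₁ := (linSet T).filter fun ϑ => ¬ zeta T ϑ = zeta T ϑ₀)
      fun ϑ hϑ => by rw [if_neg (Finset.mem_filter.mp hϑ).2]; ring,
    Finset.sum_const, Finset.sum_const, nsmul_eq_mul, nsmul_eq_mul]
  have h1 := (linSet T).card_filter_add_card_filter_not (fun ϑ => zeta T ϑ = zeta T ϑ₀)
  rw [h.card_fibre h₀] at h1 ⊢
  have h2 : (((linSet T).filter fun ϑ => ¬ zeta T ϑ = zeta T ϑ₀).card : ℝ) =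
      ((linSet T).card : ℝ) - Nat.card W := by
    conv_rhs => rw [← h1]
    push_cast; ring
  rw [h2]; ring

theorem zeta_frob (ϑ : QT T →* ℂˣ) {ψ : G → ℂ} (hψ : IsClassFunction G ψ) :
    classInner (zeta T ϑ) (fun x : T => ψ x) = conj (classInner (resQ T ψ) (lf ϑ)) := by
  rw [zeta, frobenius_reciprocity (QT T) (lf ϑ) (isClassFunction_restrict T hψ), classInner_conj_symm]
  rfl

variable (hlt : Nat.card K < Nat.card W)
include hlt

theorem exists_resData {ϑ₀ : QT T →* ℂˣ} (h₀ : ϑ₀ ≠ 1) {ψ : G → ℂ} (hψ : IsPsi T ϑ₀ ψ) {a : ℤ}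
    (ha : classInner (dmap T (h.base ϑ₀)) ψ = a) :
    ∃ D e : ℤ, ResData T ϑ₀ ψ D e a := by
  classical
  have hψc := isClassFunction_of_isGeneralized hψ.gen
  obtain ⟨D, hD⟩ : ∃ D : ℤ, ψ 1 = D := by
    rcases hψ.signed with h' | h'
    · obtain ⟨d, hd, -⟩ := exists_degree_dvd_card h'
      exact ⟨d, by rw [hd]; simp⟩
    · obtain ⟨d, hd, -⟩ := exists_degree_dvd_card h'
      exact ⟨-(d : ℤ), by rw [Pi.neg_apply] at hd; push_cast; linear_combination -hd⟩
  choose g hg using fun ϑ : QT T →* ℂˣ =>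
    exists_int_classInner (resQ_gen (T := T) hψ.gen) (isGeneralized_of_isIrr (isIrr_lf ϑ))
  have hrel : ∀ ϑ : QT T →* ℂˣ, classInner (zeta T ϑ) (fun x : T => ψ x) = g ϑ := fun ϑ => by
    rw [h.zeta_frob ϑ hψc, hg, map_intCast]
  refine ⟨D, g ϑ₀ - 1, hD, fun ϑ hϑ => ?_, ?_⟩
  · rw [hg]
    by_cases he : zeta T ϑ = zeta T ϑ₀
    · have h1 := hrel ϑ
      rw [he, hrel ϑ₀] at h1
      rw [if_pos he, ← h1]; push_cast; ring
    · rw [if_neg he]
      have h1 := hψ.one ϑ hϑ he
      rw [← classInner_conj_symm, h.adjoint hlt (fun x y => by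
          simp only [Pi.sub_apply, h.class_zeta _ x y]) (h.sub_vanish _ _) hψc,
        classInner_sub_left, hrel, hrel, map_sub, map_intCast, map_intCast] at h1
      push_cast
      linear_combination -h1
  · rw [h.adjoint hlt (isClassFunction_of_isGeneralized (h.base_gen ϑ₀)) (h.base_vanish ϑ₀) hψc,
      base, classInner_sub_left, hrel, rhoT,
      frobenius_reciprocity (QT T) _ (isClassFunction_restrict T hψc)] at ha
    rw [← classInner_conj_symm, show classInner (fun _ : QT T => (1 : ℂ)) (resQ T ψ) =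
      ((a + g ϑ₀ : ℤ) : ℂ) by
        rw [show resQ T ψ = fun n : QT T => ψ ((n : T) : G) from rfl]; push_cast; linear_combination ha,
      map_intCast]
    push_cast; ring

/-- The core function: the restriction of `ψ` on the support. -/
theorem res_norm_ineq {ψ : G → ℂ} (hψg : IsGeneralizedCharacter G ψ) (h1 : classInner ψ ψ = 1) :
    resNorm T ψ ≤ Nat.card W ∧
      ((∀ g, g ∉ tilde T → (orderOf g).Coprime (Nat.card W) → 1 ≤ ‖ψ g‖) →
        (1 - 1 / (Nat.card W : ℝ) - ((bad S U).ncard : ℝ) / Nat.card U) / Nat.card K ≤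
          1 - resNorm T ψ / Nat.card W) := by
  classical
  have hψc := isClassFunction_of_isGeneralized hψg
  set f : T → ℂ := fun x => if (x : G) ∈ coreSharp T then ψ x else 0 with hf
  have hfA : ∀ x : T, (x : G) ∉ coreSharp T → f x = 0 := fun x hx => if_neg hx
  have hfc : IsClassFunction T f := by
    intro x y
    have hiff : ((y * x * y⁻¹ : T) : G) ∈ coreSharp T ↔ (x : G) ∈ coreSharp T := by
      rw [h.mem_coreSharp, h.mem_coreSharp]
      refine and_congr ⟨fun e => ?_, fun e => (normal_QT T).conj_mem x e y⟩ (not_congr conj_eq_one_iff)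
      simpa [mul_assoc] using (normal_QT T).conj_mem _ e y⁻¹
    simp only [hf]
    exact if_congr hiff (by push_cast; exact hψc _ _) rfl
  have hff : classInner f (fun x : T => ψ x) = classInner f f := by
    simp only [classInner]
    congr 1
    refine Finset.sum_congr rfl fun x _ => ?_
    simp only [hf]; split_ifs <;> simp
  have hreal : (classInner f f).re = resNorm T ψ / Nat.card W := by
    rw [resNorm, classInner_self_re_eq, classInner_self_re_eq,
      show (Nat.card T : ℝ) = Nat.card W * Nat.card (QT T) by rw [h.QT_card]; exact_mod_cast h.card_T]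
    have e : ∑ x : T, ‖f x‖ ^ 2 = ∑ n : QT T, ‖resZero T ψ n‖ ^ 2 := by
      rw [← Finset.sum_filter_add_sum_filter_not Finset.univ (fun x : T => x ∈ QT T),
        Finset.sum_eq_zero (s := Finset.univ.filter fun x : T => ¬ x ∈ QT T) fun x hx => by
          simp only [hf]
          rw [if_neg fun hc => (Finset.mem_filter.mp hx).2 (h.mem_coreSharp.mp hc).1]; simp, add_zero]
      refine Finset.sum_bij' (fun x hx => (⟨x, (Finset.mem_filter.mp hx).2⟩ : QT T)) (fun n _ => (n : T))
        (fun _ _ => Finset.mem_univ _) (fun n _ => Finset.mem_filter.mpr ⟨Finset.mem_univ _, n.2⟩)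
        (fun _ _ => rfl) (fun _ _ => rfl) fun x hx => ?_
      have hxQ := (Finset.mem_filter.mp hx).2
      by_cases hx1 : x = 1
      · subst hx1
        rw [show ((⟨1, hxQ⟩ : QT T)) = 1 from rfl, resZero_one]
        simp [hf]
      · rw [resZero_ne ψ (fun e' => hx1 (congrArg Subtype.val e'))]
        simp only [hf]
        rw [if_pos (h.mem_coreSharp.mpr ⟨hxQ, hx1⟩)]
    rw [e]; ring
  have hψτ : classInner ψ (dmap T f) = classInner f f := by
    rw [← classInner_conj_symm, h.adjoint hlt hfc hfA hψc, hff, classInner_conj_symm]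
  refine ⟨?_, fun hH => ?_⟩
  · have h2 := classInner_self_re_nonneg (ψ - dmap T f)
    rw [classInner_sub_left, classInner_sub_right, classInner_sub_right, h1, hψτ,
      show classInner (dmap T f) ψ = classInner f f by
        rw [← classInner_conj_symm, hψτ, classInner_conj_symm],
      show classInner (dmap T f) (dmap T f) = classInner f f from
        dade_isometry h.dade hfc hfA hfc] at h2
    simp only [Complex.sub_re, Complex.one_re, hreal] at h2
    have hp : (0 : ℝ) < Nat.card W := by exact_mod_cast Nat.card_pos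
    have h3 : resNorm T ψ / Nat.card W ≤ 1 := by linarith
    rwa [div_le_one hp] at h3
  · have h2 := h.main_ineq h1 hH hfc hfA
    rw [hψτ, hreal] at h2
    refine h2.trans (le_of_eq ?_)
    ring

omit hlt

/-- The Bessel inequality for the restriction. -/
theorem bessel_res {ϑ₀ : QT T →* ℂˣ} (h₀ : ϑ₀ ≠ 1) {ψ : G → ℂ} {D e a : ℤ}
    (hd : ResData T ϑ₀ ψ D e a) (F : Finset (QT T → ℂ))
    (hF : ∀ θ ∈ F, IsIrrCharacter (QT T) θ ∧ θ 1 ≠ 1) :
    (Nat.card W : ℝ) - 2 * Nat.card W * shift T D e + (linSet T).card * shift T D e ^ 2 +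
      ((a : ℝ) + 1 - shift T D e) ^ 2 + ∑ θ ∈ F, ‖classInner (resZero T ψ) θ‖ ^ 2 ≤
        resNorm T ψ := by
  classical
  set one : QT T → ℂ := fun _ => 1
  set L := insert one ((linSet T).image lf)
  have hdis : Disjoint L F := by
    refine Finset.disjoint_left.mpr fun θ hθ hθF => (hF θ hθF).2 ?_
    rcases Finset.mem_insert.mp hθ with rfl | hθ
    · rfl
    · obtain ⟨ϑ, -, rfl⟩ := Finset.mem_image.mp hθ
      simp [lf]
  have hirr : ∀ θ ∈ L ∪ F, IsIrrCharacter (QT T) θ := by
    intro θ hθ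
    rcases Finset.mem_union.mp hθ with hθ | hθ
    · rcases Finset.mem_insert.mp hθ with rfl | hθ
      · exact isIrrCharacter_one
      · obtain ⟨ϑ, -, rfl⟩ := Finset.mem_image.mp hθ
        exact isIrr_lf ϑ
    · exact (hF θ hθ).1
  have hb := bessel (L ∪ F) (v := id) (fun θ hθ => classInner_irr_self (hirr θ hθ))
    (fun θ hθ θ' hθ' hne => classInner_irr_ne (hirr θ hθ) (hirr θ' hθ') hne) (resZero T ψ)
  simp only [id] at hb
  have hnot : one ∉ (linSet T).image lf := by
    intro hm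
    obtain ⟨ϑ, hϑ, e'⟩ := Finset.mem_image.mp hm
    exact mem_linSet.mp hϑ (lf_inj (e'.trans (funext fun n => by simp [lf, one])))
  rw [Finset.sum_union hdis, Finset.sum_insert hnot, Finset.sum_image fun a _ b _ e' => lf_inj e',
    hd.triv₀, Complex.norm_real, Real.norm_eq_abs, sq_abs,
    Finset.sum_congr rfl fun ϑ hϑ => by
      rw [hd.lin₀ (mem_linSet.mp hϑ), Complex.norm_real, Real.norm_eq_abs, sq_abs],
    h.sum_lin_sq h₀] at hb
  rw [resNorm]
  linarith

theorem rest_norm {ϑ₀ : QT T →* ℂˣ} (h₀ : ϑ₀ ≠ 1) {ψ : G → ℂ} {D e a : ℤ}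
    (hd : ResData T ϑ₀ ψ D e a) :
    (classInner (resRest T ψ) (resRest T ψ)).re = resNorm T ψ -
      ((Nat.card W : ℝ) - 2 * Nat.card W * shift T D e + (linSet T).card * shift T D e ^ 2) := by
  classical
  set F0 := resZero T ψ with hF0
  set P := ∑ ϑ ∈ linSet T, classInner F0 (lf ϑ) • lf ϑ with hP
  have hPP : classInner F0 P = ((∑ ϑ ∈ linSet T, ‖classInner F0 (lf ϑ)‖ ^ 2 : ℝ) : ℂ) := by
    rw [hP, classInner_sum_right]
    push_cast
    refine Finset.sum_congr rfl fun ϑ _ => ?_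
    rw [classInner_smul_right, mul_comm, Complex.mul_conj']
  have hPP' : classInner P P = ((∑ ϑ ∈ linSet T, ‖classInner F0 (lf ϑ)‖ ^ 2 : ℝ) : ℂ) := by
    rw [hP, classInner_sum_left]
    push_cast
    refine Finset.sum_congr rfl fun ϑ hϑ => ?_
    rw [classInner_smul_left, classInner_sum_right, Finset.sum_eq_single ϑ (fun ϑ' _ hne => by
      rw [classInner_smul_right, classInner_irr_ne (isIrr_lf ϑ) (isIrr_lf ϑ')
        (fun e' => hne (lf_inj e').symm), mul_zero]) (fun hn => absurd hϑ hn), classInner_smul_right,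
      classInner_irr_self (isIrr_lf ϑ), mul_one, Complex.mul_conj']
  rw [resRest, ← hF0, ← hP, classInner_sub_left, classInner_sub_right, classInner_sub_right, hPP, hPP',
    ← classInner_conj_symm F0 P, hPP, Complex.conj_ofReal]
  simp only [Complex.sub_re, Complex.ofReal_re]
  rw [Finset.sum_congr rfl fun ϑ hϑ => by
      rw [hd.lin₀ (mem_linSet.mp hϑ), Complex.norm_real, Real.norm_eq_abs, sq_abs],
    h.sum_lin_sq h₀, resNorm, ← hF0]
  ring

/-- The value of the remainder at an element of the derived subgroup. -/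
theorem rest_apply {ϑ₀ : QT T →* ℂˣ} (h₀ : ϑ₀ ≠ 1) {ψ : G → ℂ} {D e a : ℤ}
    (hd : ResData T ϑ₀ ψ D e a) {z : QT T} (hz : z ∈ commutator (QT T)) (hz1 : z ≠ 1) :
    resRest T ψ z = ψ ((z : T) : G) -
      (((Nat.card W : ℝ) - (linSet T).card * shift T D e : ℝ) : ℂ) := by
  classical
  have hval : ∀ ϑ : QT T →* ℂˣ, lf ϑ z = 1 := fun ϑ => by
    show ((ϑ z : ℂˣ) : ℂ) = 1
    rw [MonoidHom.mem_ker.mp (Abelianization.commutator_subset_ker ϑ hz), Units.val_one]
  simp only [resRest, Pi.sub_apply, Finset.sum_apply, Pi.smul_apply, smul_eq_mul, hval, mul_one,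
    resZero_ne ψ hz1]
  rw [Finset.sum_congr rfl fun ϑ hϑ => hd.lin₀ (mem_linSet.mp hϑ), ← Complex.ofReal_sum,
    Finset.sum_sub_distrib, Finset.sum_const, nsmul_eq_mul]
  congr 3
  rw [← h.card_fibre h₀]
  convert Finset.sum_boole (R := ℝ) (fun x => zeta T x = zeta T ϑ₀) (linSet T) using 3

end TV

end CfsgLib.Peterfalvi.Pair.TypeV
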