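import Cfsg.Agent.Lib.Peterfalvi.Pair.TypeV.Mu
import Cfsg.Agent.Lib.Peterfalvi.Pair.TypeV.Beta
import Cfsg.Agent.Lib.Peterfalvi.Pair.TypeV.Restrict

/-!
The congruence modulo two between the exceptional coefficient and the inner product with the signed
character.
-/

set_option autoImplicit false
set_option linter.style.haveILetI false
set_option linter.unusedSectionVars false

namespace CfsgLib.Peterfalvi.Pair.TypeV

open Cfsg CfsgLib.Char
open CfsgLib.BG.FixedLine (conj_mem_of_le_normalizer)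
open CfsgLib.Peterfalvi.Pair (tilde Lin IsGrid parity)
open scoped ComplexConjugate CfsgLib.Char Pointwise

universe u

variable {G : Type u} [Group G] [Fintype G] {S T U K W : Subgroup G} [Fintype T] [Fintype (QT T)]

/-- The support with the conjugates of the cyclic TI set. -/
def hatSupport (T K W : Subgroup G) : Set G :=
  {t | t ∈ coreSharp T ∨ ∃ e ∈ T, ∃ c ∈ K, ∃ w ∈ W, c ≠ 1 ∧ w ≠ 1 ∧ e * t * e⁻¹ = c * w}

namespace TV

variable (h : TV S T U K W)
include h

theorem hat_not_coprime {c w : G} (hc : c ∈ K) (hw : w ∈ W) (hw1 : w ≠ 1) :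
    ¬ (orderOf (c * w)).Coprime (Nat.card W) := by
  intro hco
  rw [(show Commute c w from h.commute hc hw).orderOf_mul_eq_mul_orderOf_of_coprime
    ((h.K_coprime_W.coprime_dvd_left (Subgroup.orderOf_dvd_natCard K hc)).coprime_dvd_right
      (Subgroup.orderOf_dvd_natCard W hw))] at hco
  exact hw1 (orderOf_eq_one_iff.mp (Nat.eq_one_of_dvd_coprimes
    (hco.coprime_dvd_left (dvd_mul_left _ _)) dvd_rfl (Subgroup.orderOf_dvd_natCard W hw)))

theorem hat_subset {t : G} (ht : t ∈ hatSupport T K W) : t ∈ T := by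
  rcases ht with ht | ⟨e, he, c, hc, w, hw, -, -, eq⟩
  · exact h.Q_le ht.1
  · rw [show t = e⁻¹ * (c * w) * e by rw [← eq]; group]
    exact mul_mem (mul_mem (inv_mem he) (mul_mem (h.Q_le (h.K_le_Q hc)) (h.W_le_T hw))) he

theorem one_notMem_hat : (1 : G) ∉ hatSupport T K W := by
  rintro (ht | ⟨e, -, c, hc, w, hw, -, hw1, eq⟩)
  · exact ht.2 rfl
  · refine h.hat_not_coprime hc hw hw1 ?_
    rw [← eq, mul_one, mul_inv_cancel, orderOf_one]
    exact Nat.coprime_one_left _

theorem hat_ti (hlt : Nat.card K < Nat.card W) :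
    ∀ g : G, g ∉ T → ∀ t ∈ hatSupport T K W, g * t * g⁻¹ ∈ hatSupport T K W → t = 1 := by
  intro g hg t ht hgt
  have hcoQ : ∀ x ∈ coreSharp T, ∀ y : G, (orderOf (y * x * y⁻¹)).Coprime (Nat.card W) := fun x hx y => by
    rw [show orderOf (y * x * y⁻¹) = orderOf x from
      orderOf_injective (MulAut.conj y).toMonoidHom (MulAut.conj y).injective x]
    exact h.hall_coprime.coprime_dvd_left (Subgroup.orderOf_dvd_natCard _ hx.1)
  exfalso
  rcases ht with ht | ⟨e, he, c, hc, w, hw, hc1, hw1, eq⟩ <;>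
    rcases hgt with hgt | ⟨e', he', c', hc', w', hw', hc1', hw1', eq'⟩
  · exact ht.2 (h.core_ti hlt g hg t ht.1 hgt.1)
  · refine h.hat_not_coprime hc' hw' hw1' ?_
    rw [← eq', show e' * (g * t * g⁻¹) * e'⁻¹ = (e' * g) * t * (e' * g)⁻¹ by group]
    exact hcoQ t ht _
  · refine h.hat_not_coprime hc hw hw1 ?_
    rw [← eq, show e * t * e⁻¹ = (e * g⁻¹) * (g * t * g⁻¹) * (e * g⁻¹)⁻¹ by group]
    exact hcoQ _ hgt _
  · have hmem := CyclicTI.mul_mem_tiPart (CyclicTI.disj_of h.wsn) hc hc1 hw hw1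
    have hmem' := CyclicTI.mul_mem_tiPart (CyclicTI.disj_of h.wsn) hc' hc1' hw' hw1'
    have hx : e' * g * e⁻¹ ∈ K ⊔ W := by
      by_contra hx
      refine h.hat_not_coprime hc hw hw1 ?_
      rw [CyclicTI.ti h.wsn _ hx _ hmem (by
        rw [show e' * g * e⁻¹ * (c * w) * (e' * g * e⁻¹)⁻¹ = c' * w' by rw [← eq, ← eq']; group]
        exact hmem'), orderOf_one]
      exact Nat.coprime_one_left _
    have hxT : e' * g * e⁻¹ ∈ T := sup_le (h.K_le_Q.trans h.Q_le) h.W_le_T hx
    refine hg ?_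
    rw [show g = e'⁻¹ * (e' * g * e⁻¹) * e by group]
    exact mul_mem (mul_mem (inv_mem he') hxT) he

/-- A function vanishing at one and on the nontrivial elements of `W` has support in the set. -/
theorem vanish_hat {α : T → ℂ} (hα : IsClassFunction T α) (h1 : α 1 = 0)
    (hW : ∀ t : T, (t : G) ∈ W → t ≠ 1 → α t = 0) (t : T) (ht : (t : G) ∉ hatSupport T K W) :
    α t = 0 := by
  by_cases ht1 : t = 1
  · rw [ht1, h1]
  by_cases hq : t ∈ QT T
  · exact absurd (Or.inl (h.mem_coreSharp.mpr ⟨hq, ht1⟩)) ht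
  obtain ⟨e, -, c, w, hc, hw, hw1, eq⟩ := h.exists_conj_WK hq
  by_cases hc1 : c = 1
  · rw [← hα t e]
    rw [hc1, one_mul] at eq
    exact hW _ (eq ▸ hw) fun e' => hw1 (by rw [← eq, e']; rfl)
  · exact absurd (Or.inr ⟨e, e.2, c, hc, w, hw, hc1, hw1, by simpa using eq⟩) ht

/-- The twists of a linear character induce the same character. -/
theorem zeta_twist {ϑ : QT T →* ℂˣ} (hϑ : ϑ ≠ 1) (t : T) : zeta T (twist ϑ t) = zeta T ϑ := by
  classical
  have hne : twist ϑ t ≠ 1 := fun e => hϑ (MonoidHom.ext fun n => by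
    have := DFunLike.congr_fun e ⟨t⁻¹ * n * t, by simpa using (normal_QT T).conj_mem _ n.2 t⁻¹⟩
    rw [MonoidHom.one_apply] at this ⊢
    rw [← this]
    exact congrArg ϑ (Subtype.ext (by group)))
  by_contra hc
  have h1 := h.zeta_inner hϑ (twist ϑ t)
  rw [classInner_irr_ne (h.isIrr_zeta hne) (h.isIrr_zeta hϑ) hc,
    if_pos ((mem_orbit _).mpr ⟨t, conjBy_lf ϑ t⟩)] at h1
  exact zero_ne_one h1

variable (hlt : Nat.card K < Nat.card W) {η : Lin W → Lin K → G → ℂ} (hη : IsGrid K W η)
  {ϑ₀ : QT T →* ℂˣ} (h₀ : ϑ₀ ≠ 1) {ψ : G → ℂ} (hψ : IsPsi T ϑ₀ ψ)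
include hlt hη h₀ hψ

/-- The congruence. -/
theorem parity_E {c : Lin W → Lin K → ℤ}
    (hc : ∀ x y, classInner (dmap T (h.base ϑ₀)) (η x y) = c x y) {b : Lin K} (hb : b ≠ 1)
    {χ : T → ℂ} {δ n : ℤ} {d : ℕ} (hμ : MuData T K W b χ δ n d) {D e a : ℤ}
    (hd : ResData T ϑ₀ ψ D e a) (ha : classInner (dmap T (h.base ϑ₀)) ψ = a) :
    ∃ E g : ℤ, classInner (resZero T ψ) (fun m : QT T => χ m) =
        (((g : ℝ) - d * shift T D e : ℝ) : ℂ) ∧
      (Nat.card W : ℤ) * E = a + 1 - δ * g + δ * n * Nat.card W ∧ 2 ∣ c 1 b + E := by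
  classical
  have hp3 := h.three_le h.W_ne
  have hδ2 : (δ : ℂ) * δ = 1 := by rcases hμ.sign with e' | e' <;> simp [e']
  have hd2 : Nat.card W < d := by
    have h1 := hμ.eq
    have h2 := hμ.two_le
    have h3 : (2 : ℤ) * Nat.card W ≤ n * Nat.card W := mul_le_mul_of_nonneg_right h2 (by positivity)
    rcases hμ.sign with e' | e' <;> omega
  have hζc := h.class_zeta ϑ₀
  have hχc := isClassFunction_of_isCharacter (isCharacter_of_isIrr hμ.irr)
  have hχne : conjFun χ ≠ χ := fun e' => by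
    have hone := irr_real_of_odd (h.odd_card T) ⟨χ, hμ.irr⟩
      fun g => Complex.conj_eq_iff_im.mp (congrFun e' g)
    have h1 := congrFun hone 1
    simp only [hμ.deg] at h1
    have : d = 1 := by exact_mod_cast h1
    omega
  have hχ' : IsIrrCharacter T (conjFun χ) := isIrrCharacter_conj hμ.irr
  have hWval : ∀ t : T, (t : G) ∈ W → t ≠ 1 → χ t = δ := fun t ht ht1 => by
    rw [hμ.value t 1 ⟨t, ht⟩ (fun e' => ht1 (Subtype.ext (congrArg Subtype.val e' : _)))
      (by simp)]
    simp
  -- the function on `T`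
  set α : T → ℂ := fun t => 1 - (δ : ℂ) * χ t + (δ : ℂ) * n * zeta T ϑ₀ t with hα
  have hαg : IsGeneralizedCharacter T α := by
    rw [hα, show (fun t : T => 1 - (δ : ℂ) * χ t + (δ : ℂ) * n * zeta T ϑ₀ t) =
      ((fun _ : T => (1 : ℂ)) - ((δ : ℤ) : ℂ) • χ) + ((δ * n : ℤ) : ℂ) • zeta T ϑ₀ from
      funext fun t => by simp]
    exact isGeneralized_add (isGeneralized_sub isGeneralized_one
      (isGeneralized_intCast_smul (isGeneralized_of_isIrr hμ.irr) _))
      (isGeneralized_intCast_smul (h.zeta_gen ϑ₀) _)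
  have hαc := isClassFunction_of_isGeneralized hαg
  have hα1 : α 1 = 0 := by
    have h1 : (d : ℂ) = (δ : ℂ) + n * (Nat.card W : ℂ) := by exact_mod_cast hμ.eq
    simp only [hα, hμ.deg, h.zeta_one, h1]
    linear_combination -hδ2
  have hαA := h.vanish_hat hαc hα1 fun t ht ht1 => by
    have hq : t ∉ QT T := fun hq => ht1 (Subtype.ext (Subgroup.mem_bot.mp
      (h.W_compl.2.2.1 ▸ ⟨ht, Subgroup.mem_subgroupOf.mp hq⟩)))
    simp only [hα, hWval t ht ht1, h.zeta_off ϑ₀ hq]
    linear_combination -hδ2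
  set A := indFun T α with hA
  have hAg : IsGeneralizedCharacter G A := isGeneralized_indFun T hαg
  -- the difference of conjugates
  set γ : T → ℂ := (δ : ℂ) • (χ - conjFun χ) with hγ
  have hγg : IsGeneralizedCharacter T γ :=
    isGeneralized_intCast_smul (isGeneralized_sub (isGeneralized_of_isIrr hμ.irr)
      (isGeneralized_of_isIrr hχ')) δ
  have hγc := isClassFunction_of_isGeneralized hγg
  have hγ1 : γ 1 = 0 := by simp [hγ, conjFun, hμ.deg]
  have hγA := h.vanish_hat hγc hγ1 fun t ht ht1 => by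
    simp [hγ, conjFun, hWval t ht ht1]
  have hti := h.hat_ti hlt
  have hΓ : indFun T γ = η 1 b - η 1 b⁻¹ := by
    refine hη.transpose.eq_sub_of_norm_two (isGeneralized_indFun T hγg) (n := 2) ?_ le_rfl
      hp3 (a := b) (a' := b⁻¹) ?_ (1 : Lin W) fun x y hx hy => ?_
    · rw [classInner_indFun_of_ti T (hatSupport T K W) hti γ γ hγc hγA hγA hγ1, hγ,
        classInner_smul_left, classInner_smul_right, classInner_sub_left, classInner_sub_right,
        classInner_sub_right, classInner_irr_self hμ.irr, classInner_irr_self hχ',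
        classInner_irr_ne hμ.irr hχ' (Ne.symm hχne), classInner_irr_ne hχ' hμ.irr hχne, map_intCast,
        ← mul_assoc, hδ2]
      norm_num
    · intro e'
      refine hb (MonoidHom.ext fun y => orderOf_eq_one_iff.mp ?_)
      have h2 : orderOf (b y) ∣ 2 := orderOf_dvd_of_pow_eq_one (by
        rw [pow_two]; nth_rw 2 [e']; exact mul_inv_cancel (b y))
      exact Nat.eq_one_of_dvd_coprimes (Nat.coprime_two_left.mpr (h.odd_card K)) h2
        ((orderOf_map_dvd b y).trans (orderOf_dvd_natCard y))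
    · have hc' : (y : G) ≠ 1 := fun e' => hy (Subtype.ext e')
      have hw' : (x : G) ≠ 1 := fun e' => hx (Subtype.ext e')
      set t : T := ⟨(x : G) * y, mul_mem (h.W_le_T x.2) (h.Q_le (h.K_le_Q y.2))⟩ with ht
      have hmem : (t : G) ∈ hatSupport T K W := Or.inr ⟨1, one_mem _, y, y.2, x, x.2, hc', hw',
        by simp [ht, h.commute y.2 x.2]⟩
      rw [show (x : G) * y = (t : G) from rfl, indFun_eq_of_ti T (hatSupport T K W) hti γ hγc hγA t
        hmem fun e' => h.one_notMem_hat (by rw [e'] at hmem; exact hmem)]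
      simp only [hγ, Pi.smul_apply, Pi.sub_apply, smul_eq_mul, conjFun,
        hμ.value t y x hx (h.commute y.2 x.2).symm, map_mul, map_intCast, MonoidHom.one_apply,
        Units.val_one, mul_one, MonoidHom.inv_apply, Units.val_inv_eq_inv_val]
      rw [Complex.inv_eq_conj (Complex.norm_eq_one_of_pow_eq_one (n := Nat.card K)
        (by rw [← Units.val_pow_eq_pow_val, ← map_pow, pow_card_eq_one', map_one, Units.val_one])
        Nat.card_pos.ne')]
      linear_combination ((b y : ℂ) - conj (b y : ℂ)) * hδ2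
  -- real combinations
  set β := dmap T (h.base ϑ₀) with hβ
  set R₁ := β + ψ with hR₁
  set R₂ := A + η 1 b - ((δ * n : ℤ) : ℂ) • ψ with hR₂
  have hr₁ : conjFun R₁ = R₁ := by
    have := h.conj_beta h₀ hψ
    funext g
    have hg := congrFun this g
    simp only [hR₁, conjFun, Pi.add_apply, map_add, Pi.sub_apply] at hg ⊢
    rw [hg]; ring
  have hζd : indFun T (conjFun (zeta T ϑ₀) - zeta T ϑ₀) = conjFun ψ - ψ := by
    rw [h.zeta_conj, ← h.dmap_eq_ind hlt (fun x y => by
      simp only [Pi.sub_apply, h.class_zeta _ x y]) (h.sub_vanish _ _),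
      dmap_sub, ← neg_sub (dmap T (zeta T ϑ₀)), ← dmap_sub, ← h.zeta_conj, hψ.eq, neg_sub]
  have hconjA : conjFun A = A + indFun T γ + ((δ * n : ℤ) : ℂ) • (conjFun ψ - ψ) := by
    rw [← hζd, hA, SibleyTI.conjFun_ind, ← indFun_smul, ← indFun_add, ← indFun_add]
    congr 1
    funext t
    simp only [hα, hγ, conjFun, Pi.add_apply, Pi.smul_apply, Pi.sub_apply, smul_eq_mul, map_add,
      map_sub, map_one, map_mul, map_intCast]
    push_cast
    ring
  have hr₂ : conjFun R₂ = R₂ := by
    funext g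
    have h1 := congrFun hconjA g
    have h2 : conj (η 1 b g) = η 1 b⁻¹ g := by
      have := congrFun (hη.conjEq 1 b) g
      rw [show ((1 : Lin W)⁻¹) = 1 from MonoidHom.ext fun _ => inv_one] at this
      exact this.symm
    rw [hΓ] at h1
    simp only [hR₂, conjFun, Pi.add_apply, Pi.sub_apply, Pi.smul_apply, smul_eq_mul, map_add,
      map_sub, map_mul, map_intCast] at h1 ⊢
    rw [h1, h2]; ring
  have hR₁g : IsGeneralizedCharacter G R₁ :=
    isGeneralized_add (h.dmap_gen (h.base_gen _) (h.base_vanish _)) hψ.gen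
  have hR₂g : IsGeneralizedCharacter G R₂ :=
    isGeneralized_sub (isGeneralized_add hAg (hη.isGeneralized _ _))
      (isGeneralized_intCast_smul hψ.gen _)
  obtain ⟨E, hE⟩ := exists_int_classInner hψ.gen hAg
  have hA1 : classInner A (fun _ => 1) = 1 := by
    rw [hA, frobenius_reciprocity T α (fun _ _ => rfl), hα,
      show (fun t : T => 1 - (δ : ℂ) * χ t + (δ : ℂ) * n * zeta T ϑ₀ t) =
        ((fun _ : T => (1 : ℂ)) - (δ : ℂ) • χ) + ((δ : ℂ) * n) • zeta T ϑ₀ from funext fun t => by simp,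
      classInner_add_left, classInner_sub_left, classInner_smul_left, classInner_smul_left,
      classInner_irr_self isIrrCharacter_one, h.zeta_ne_one h₀,
      classInner_irr_ne hμ.irr isIrrCharacter_one fun e' => by
        have h1 := congrFun e' 1
        rw [hμ.deg] at h1
        have : d = 1 := by exact_mod_cast h1
        omega]
    ring
  have hρχ : classInner (rhoT T) χ = 0 := by
    rw [rhoT, frobenius_reciprocity (QT T) _ hχc,
      classInner_irr_ne isIrrCharacter_one hμ.res_irr]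
    intro e'
    have h1 := congrFun e' 1
    simp only [Subgroup.coe_one, hμ.deg] at h1
    have : d = 1 := by exact_mod_cast h1.symm
    omega
  have hζχ : classInner (zeta T ϑ₀) χ = 0 := classInner_irr_ne (h.isIrr_zeta h₀) hμ.irr fun e' => by
    have h1 := congrFun e' 1
    rw [h.zeta_one, hμ.deg] at h1
    have : Nat.card W = d := by exact_mod_cast h1
    omega
  have hbaseA : ∀ x : T, (x : G) ∉ hatSupport T K W → h.base ϑ₀ x = 0 := fun x hx =>
    h.base_vanish ϑ₀ x fun hc' => hx (Or.inl hc')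
  have hβA : classInner β A = 1 - ((δ * n : ℤ) : ℂ) := by
    rw [hβ, h.dmap_eq_ind hlt (isClassFunction_of_isGeneralized (h.base_gen ϑ₀)) (h.base_vanish ϑ₀),
      hA, classInner_indFun_of_ti T (hatSupport T K W) hti _ _ hαc hbaseA hαA
        (h.base_vanish ϑ₀ 1 (fun hc' => hc'.2 rfl)), hα,
      show (fun t : T => 1 - (δ : ℂ) * χ t + (δ : ℂ) * n * zeta T ϑ₀ t) =
        ((fun _ : T => (1 : ℂ)) - (δ : ℂ) • χ) + ((δ * n : ℤ) : ℂ) • zeta T ϑ₀ from funext fun t => by simp,
      base]
    simp only [classInner_sub_left, classInner_add_right, classInner_sub_right, classInner_smul_right,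
      h.rho_inner_one, h.zeta_ne_one h₀, h.rho_zeta h₀, classInner_irr_self (h.isIrr_zeta h₀), hρχ,
      hζχ, map_intCast, mul_zero, mul_one, sub_zero, add_zero, zero_add, zero_sub, sub_neg_eq_add]
    push_cast
    ring
  have hη1 : classInner (η 1 b) (fun _ => 1) = 0 := by
    rw [← hη.one, hη.orth, if_neg fun h' => hb h'.2]
  have hψη := h.psi_eta hη h₀ hψ 1 b
  have hR : classInner R₁ R₂ =
      ((1 - δ * n + c 1 b - δ * n * a + E - δ * n : ℤ) : ℂ) := by
    simp only [hR₁, hR₂, classInner_add_left, classInner_sub_right, classInner_add_right,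
      classInner_smul_right, map_intCast, hψη, hψ.self, ha, hc, hE, hβA]
    push_cast
    ring
  have hR1one : classInner R₁ (fun _ => 1) = ((1 : ℤ) : ℂ) := by
    rw [hR₁, classInner_add_left, hψ.inner_one, hβ, h.inner_dmap_one
      (isClassFunction_of_isGeneralized (h.base_gen ϑ₀)) (h.base_vanish ϑ₀), base, classInner_sub_left,
      h.rho_inner_one, h.zeta_ne_one h₀]
    simp
  have hR2one : classInner R₂ (fun _ => 1) = ((1 : ℤ) : ℂ) := by
    rw [hR₂, classInner_sub_left, classInner_add_left, classInner_smul_left, hA1, hη1, hψ.inner_one]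
    simp
  have hpar := parity h.hG.1 hR₁g hR₂g hr₁ hr₂ hR hR1one hR2one
  have hn2 : (2 : ℤ) ∣ δ * n * (a + 2) := by
    obtain ⟨k, hk⟩ := hμ.even
    exact ⟨δ * k * (a + 2), by rw [hk]; ring⟩
  have hpar' : (2 : ℤ) ∣ c 1 b + E := by
    have := dvd_add hpar hn2
    rwa [show (1 - δ * n + c 1 b - δ * n * a + E - δ * n - 1 * 1) + δ * n * (a + 2) = c 1 b + E by ring] at this
  -- the inner product
  obtain ⟨g₀, hg₀⟩ := exists_int_classInner (resQ_gen (T := T) hψ.gen) (isGeneralized_of_isIrr hμ.res_irr)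
  refine ⟨E, g₀ - e * d, ?_, ?_, hpar'⟩
  · rw [inner_resZero, hg₀, hd.deg, show χ ((1 : QT T) : T) = (d : ℂ) from hμ.deg, map_natCast,
      shift]
    push_cast
    ring
  have hψc := isClassFunction_of_isGeneralized hψ.gen
  have hζQ : classInner (fun m : QT T => zeta T ϑ₀ m) (resQ T ψ) =
      (Nat.card W : ℂ) * ((e + 1 : ℤ) : ℂ) := by
    have hpt : (fun m : QT T => zeta T ϑ₀ m) =
        (Nat.card (QT T) : ℂ)⁻¹ • ∑ t : T, lf (twist ϑ₀ t) := funext fun m => by
      simp only [zeta, indFun_apply_of_normal, Pi.smul_apply, Finset.sum_apply, smul_eq_mul]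
      rfl
    have hterm : ∀ t : T, classInner (lf (twist ϑ₀ t)) (resQ T ψ) = ((e + 1 : ℤ) : ℂ) := by
      intro t
      have hne : twist ϑ₀ t ≠ 1 := fun e' => h₀ (MonoidHom.ext fun m => by
        have := DFunLike.congr_fun e' ⟨t⁻¹ * m * t, by simpa using (normal_QT T).conj_mem _ m.2 t⁻¹⟩
        rw [MonoidHom.one_apply] at this ⊢
        rw [← this]
        exact congrArg ϑ₀ (Subtype.ext (by group)))
      rw [← classInner_conj_symm, hd.lin _ hne, if_pos (h.zeta_twist h₀ t)]
      push_cast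
      simp
    rw [hpt, classInner_smul_left, classInner_sum_left, Finset.sum_congr rfl fun t _ => hterm t,
      Finset.sum_const, nsmul_eq_mul, Finset.card_univ, ← Nat.card_eq_fintype_card,
      show Nat.card T = Nat.card W * Nat.card (QT T) by rw [h.QT_card]; exact h.card_T]
    have : (Nat.card (QT T) : ℂ) ≠ 0 := Nat.cast_ne_zero.mpr Nat.card_pos.ne'
    push_cast
    field_simp
  have hAψ : classInner A ψ = (Nat.card W : ℂ)⁻¹ * classInner (fun m : QT T => α m) (resQ T ψ) := by
    rw [hA, frobenius_reciprocity T α hψc]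
    simp only [classInner, resQ]
    rw [← Finset.sum_filter_add_sum_filter_not Finset.univ (fun t : T => t ∈ QT T),
      Finset.sum_eq_zero (s := Finset.univ.filter fun t : T => ¬ t ∈ QT T) fun t ht => ?_, add_zero,
      Finset.sum_subtype (Finset.univ.filter fun t : T => t ∈ QT T) (p := fun t => t ∈ QT T)
        (fun t => by simp) fun t => α t * conj (ψ (t : G)),
      show Nat.card T = Nat.card W * Nat.card (QT T) by rw [h.QT_card]; exact h.card_T]
    · push_cast; ring
    · have hq := (Finset.mem_filter.mp ht).2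
      by_cases hm : (t : G) ∈ hatSupport T K W
      · rcases hm with hm | ⟨e', -, c', hc', w, hw, hc1, hw1, eq⟩
        · exact absurd (h.mem_coreSharp.mp hm).1 hq
        · rw [← hψc (t : G) e', eq, h.psi_KW hη h₀ hψ (x := ⟨c', hc'⟩) (y := ⟨w, hw⟩)
            (fun e'' => hc1 (congrArg Subtype.val e'')) (fun e'' => hw1 (congrArg Subtype.val e'')),
            map_zero, mul_zero]
      · rw [hαA t hm, zero_mul]
  have hAψ' : classInner A ψ = (E : ℂ) := by rw [← classInner_conj_symm, hE, map_intCast]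
  have hα' : (fun m : QT T => α m) = ((fun _ : QT T => (1 : ℂ)) - (δ : ℂ) • fun m : QT T => χ m) +
      ((δ : ℂ) * n) • fun m : QT T => zeta T ϑ₀ m := funext fun m => by simp [hα]
  rw [hα', classInner_add_left, classInner_sub_left, classInner_smul_left, classInner_smul_left, hζQ,
    ← classInner_conj_symm (resQ T ψ) (fun _ => 1), hd.triv,
    ← classInner_conj_symm (resQ T ψ) (fun m : QT T => χ m), hg₀, map_intCast, map_intCast, hAψ'] at hAψ
  have hW0 : (Nat.card W : ℂ) ≠ 0 := Nat.cast_ne_zero.mpr Nat.card_pos.ne'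
  rw [eq_inv_mul_iff_mul_eq₀ hW0] at hAψ
  have h1 : (Nat.card W : ℤ) * E =
      a + e + 1 - δ * g₀ + δ * n * (Nat.card W * (e + 1)) := by
    have : (((Nat.card W : ℤ) * E : ℤ) : ℂ) =
        ((a + e + 1 - δ * g₀ + δ * n * (Nat.card W * (e + 1)) : ℤ) : ℂ) := by
      push_cast at hAψ ⊢; linear_combination hAψ
    exact_mod_cast this
  rw [h1]
  have hdz := hμ.eq
  rcases hμ.sign with e' | e' <;> rw [e'] at hdz ⊢ <;> rw [hdz] <;> ring

end TV

end CfsgLib.Peterfalvi.Pair.TypeV
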