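import Cfsg.Agent.Lib.Peterfalvi.Pair.TypeV.Chars
import Cfsg.Agent.Lib.Peterfalvi.Pair.ParityLemma

/-!
The signed character attached to an induced character and the base virtual character.
-/

set_option autoImplicit false
set_option linter.style.haveILetI false
set_option linter.unusedSectionVars false

namespace CfsgLib.Peterfalvi.Pair.TypeV

open Cfsg CfsgLib.Char
open CfsgLib.BG.FixedLine (conj_mem_of_le_normalizer)
open CfsgLib.Peterfalvi.Pair (tilde dade_conjFun indFun_normal_apply_const bessel)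
open scoped ComplexConjugate CfsgLib.Char Pointwise

universe u

variable {G : Type u} [Group G] [Fintype G] {S T U K W : Subgroup G} [Fintype T]

theorem dmap_add (α β : T → ℂ) : dmap T (α + β) = dmap T α + dmap T β := by
  funext g; simp only [dmap, dadeIsometry, Pi.add_apply]; split_ifs <;> simp

theorem dmap_sub (α β : T → ℂ) : dmap T (α - β) = dmap T α - dmap T β := by
  funext g; simp only [dmap, dadeIsometry, Pi.sub_apply]; split_ifs <;> simp

theorem dmap_smul (c : ℂ) (α : T → ℂ) : dmap T (c • α) = c • dmap T α := by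
  funext g; simp only [dmap, dadeIsometry, Pi.smul_apply]; split_ifs <;> simp

theorem dmap_conj (α : T → ℂ) : dmap T (conjFun α) = conjFun (dmap T α) := dade_conjFun α

/-- A signed irreducible character with the orientation fixed by the differences. -/
structure IsPsi (T : Subgroup G) [Fintype T] (ϑ₀ : QT T →* ℂˣ) (ψ : G → ℂ) : Prop where
  signed : IsIrrCharacter G ψ ∨ IsIrrCharacter G (-ψ)
  orth : classInner ψ (conjFun ψ) = 0
  eq : dmap T (zeta T ϑ₀ - conjFun (zeta T ϑ₀)) = ψ - conjFun ψ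
  one : ∀ ϑ : QT T →* ℂˣ, ϑ ≠ 1 → zeta T ϑ ≠ zeta T ϑ₀ →
    classInner ψ (dmap T (zeta T ϑ₀ - zeta T ϑ)) = 1

namespace IsPsi

variable {ϑ₀ : QT T →* ℂˣ} {ψ : G → ℂ} (hψ : IsPsi T ϑ₀ ψ)
include hψ

theorem gen : IsGeneralizedCharacter G ψ := by
  rcases hψ.signed with h | h
  · exact isGeneralized_of_isIrr h
  · simpa using isGeneralized_neg (isGeneralized_of_isIrr h)

theorem self : classInner ψ ψ = 1 := by
  rcases hψ.signed with h | h
  · exact classInner_irr_self h
  · have := classInner_irr_self h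
    rwa [classInner_neg_left, classInner_neg_right, neg_neg] at this

theorem conj_self : classInner (conjFun ψ) (conjFun ψ) = 1 := by
  rw [CfsgLib.Peterfalvi.Pair.classInner_conjFun, hψ.self, map_one]

theorem orth' : classInner (conjFun ψ) ψ = 0 := by
  rw [← classInner_conj_symm, hψ.orth, map_zero]

theorem inner_one : classInner ψ (fun _ => 1) = 0 := by
  obtain ⟨n, hn⟩ := exists_int_classInner hψ.gen isGeneralized_one
  have h1 : classInner (conjFun ψ) (fun _ => 1) = n := by
    rw [show (fun _ : G => (1 : ℂ)) = conjFun (fun _ => 1) from funext fun g => by simp [conjFun],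
      CfsgLib.Peterfalvi.Pair.classInner_conjFun, hn, map_intCast]
  rcases hψ.signed with h | h
  · by_contra hne
    rw [classInner_irr h isIrrCharacter_one] at hne
    split_ifs at hne with e
    · have h2 := hψ.orth
      rw [e, show conjFun (fun _ : G => (1 : ℂ)) = fun _ => 1 from funext fun g => by simp [conjFun],
        classInner_irr_self isIrrCharacter_one] at h2
      exact one_ne_zero h2
    · exact hne rfl
  · by_contra hne
    have hne' : classInner (-ψ) (fun _ => 1) ≠ 0 := by rwa [classInner_neg_left, neg_ne_zero]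
    rw [classInner_irr h isIrrCharacter_one] at hne'
    split_ifs at hne' with e
    · have h2 := hψ.orth
      rw [show ψ = -fun _ => 1 by rw [← e, neg_neg],
        show conjFun (-fun _ : G => (1 : ℂ)) = -fun _ => 1 from funext fun g => by simp [conjFun],
        classInner_neg_left, classInner_neg_right, classInner_irr_self isIrrCharacter_one] at h2
      norm_num at h2
    · exact hne' rfl

end IsPsi

namespace TV

variable (h : TV S T U K W) [Fintype (QT T)]
include h

/-- The function `ρ - ζ`. -/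
noncomputable abbrev base (_ : TV S T U K W) (ϑ₀ : QT T →* ℂˣ) : T → ℂ := rhoT T - zeta T ϑ₀

theorem class_zeta (ϑ : QT T →* ℂˣ) : IsClassFunction T (zeta T ϑ) := isClassFunction_indFun _ _

theorem class_rho : IsClassFunction T (rhoT T) := isClassFunction_indFun _ _

theorem zeta_gen (ϑ : QT T →* ℂˣ) : IsGeneralizedCharacter T (zeta T ϑ) :=
  isGeneralized_indFun _ (isGeneralized_of_isIrr (isIrr_lf ϑ))

theorem sub_vanish (ϑ ϑ' : QT T →* ℂˣ) (x : T) (hx : (x : G) ∉ coreSharp T) :
    (zeta T ϑ - zeta T ϑ') x = 0 := by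
  rw [Pi.sub_apply]
  rcases eq_or_ne x 1 with rfl | hx1
  · rw [h.zeta_one, h.zeta_one, sub_self]
  · have hq : x ∉ QT T := fun hc => hx (h.mem_coreSharp.mpr ⟨hc, hx1⟩)
    rw [h.zeta_off ϑ hq, h.zeta_off ϑ' hq, sub_self]

theorem rho_one : rhoT T 1 = (Nat.card W : ℂ) := by
  rw [rhoT, indFun_one, h.index_QT, mul_one]

theorem rho_apply {x : T} (hx : x ∈ QT T) : rhoT T x = (Nat.card W : ℂ) := by
  have := indFun_normal_apply_const (QT T) (1 : ℂ) ⟨x, hx⟩
  rwa [h.index_QT, mul_one] at this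

theorem rho_off {x : T} (hx : x ∉ QT T) : rhoT T x = 0 := indFun_notMem_of_normal _ _ hx

theorem base_vanish (ϑ₀ : QT T →* ℂˣ) (x : T) (hx : (x : G) ∉ coreSharp T) :
    h.base ϑ₀ x = 0 := by
  rw [base, Pi.sub_apply]
  rcases eq_or_ne x 1 with rfl | hx1
  · rw [h.rho_one, h.zeta_one, sub_self]
  · have hq : x ∉ QT T := fun hc => hx (h.mem_coreSharp.mpr ⟨hc, hx1⟩)
    rw [h.rho_off hq, h.zeta_off ϑ₀ hq, sub_self]

theorem base_gen (ϑ₀ : QT T →* ℂˣ) : IsGeneralizedCharacter T (h.base ϑ₀) :=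
  isGeneralized_sub (isGeneralized_indFun _ (isGeneralized_of_isIrr isIrrCharacter_one))
    (h.zeta_gen ϑ₀)

theorem dmap_gen {α : T → ℂ} (hα : IsGeneralizedCharacter T α)
    (hA : ∀ x : T, (x : G) ∉ coreSharp T → α x = 0) : IsGeneralizedCharacter G (dmap T α) :=
  isGeneralized_dade h.dade hα hA

theorem inner_dmap_one {α : T → ℂ} (hα : IsClassFunction T α)
    (hA : ∀ x : T, (x : G) ∉ coreSharp T → α x = 0) :
    classInner (dmap T α) (fun _ => 1) = classInner α (fun _ => 1) := by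
  classical
  refine dade_adjoint h.dade hα hA (fun _ _ => rfl) fun a _ => ?_
  rw [finsum_mem_eq_toFinset_sum, Finset.sum_const, nsmul_eq_mul, mul_one, Set.toFinset_card,
    ← Nat.card_eq_fintype_card]
  exact (inv_mul_cancel₀ (Nat.cast_ne_zero.mpr Nat.card_pos.ne')).symm

theorem zeta_ne_one {ϑ : QT T →* ℂˣ} (hϑ : ϑ ≠ 1) :
    classInner (zeta T ϑ) (fun _ => 1) = 0 := by
  refine classInner_irr_ne (h.isIrr_zeta hϑ) isIrrCharacter_one fun e => ?_
  have h1 := congrFun e 1
  rw [h.zeta_one] at h1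
  have h2 : Nat.card W = 1 := Nat.cast_eq_one.mp h1
  have := h.three_le h.W_ne
  omega

theorem rho_inner_one : classInner (rhoT T) (fun _ => 1) = 1 := by
  rw [rhoT, frobenius_reciprocity (QT T) _ (fun _ _ => rfl), classInner_irr_self isIrrCharacter_one]

theorem rho_self : classInner (rhoT T) (rhoT T) = (Nat.card W : ℂ) := by
  rw [rhoT, frobenius_reciprocity (QT T) _ (isClassFunction_indFun _ _),
    show (fun n : QT T => indFun (QT T) (fun _ => (1 : ℂ)) (n : T)) = fun _ => (Nat.card W : ℂ) from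
      funext fun n => by rw [indFun_normal_apply_const, h.index_QT, mul_one], classInner]
  simp [← Nat.card_eq_fintype_card]
  field_simp

theorem rho_zeta {ϑ : QT T →* ℂˣ} (hϑ : ϑ ≠ 1) : classInner (rhoT T) (zeta T ϑ) = 0 := by
  classical
  rw [rhoT, zeta, classInner_indFun_indFun (QT T) (isIrr_lf ϑ) isIrrCharacter_one, if_neg]
  intro e
  obtain ⟨g, hg⟩ := (mem_orbit _).mp e
  refine hϑ (MonoidHom.ext fun n => ?_)
  have h1 := congrFun hg ⟨g⁻¹ * n * g, by simpa using (normal_QT T).conj_mem _ n.2 g⁻¹⟩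
  rw [conjBy_apply] at h1
  refine Units.ext ?_
  rw [MonoidHom.one_apply, Units.val_one, ← h1]
  exact congrArg (fun a => ((ϑ a : ℂˣ) : ℂ)) (Subtype.ext (by group))

theorem base_self {ϑ₀ : QT T →* ℂˣ} (h₀ : ϑ₀ ≠ 1) :
    classInner (h.base ϑ₀) (h.base ϑ₀) = ((Nat.card W + 1 : ℕ) : ℂ) := by
  rw [base, classInner_sub_left, classInner_sub_right, classInner_sub_right, h.rho_self,
    h.rho_zeta h₀, classInner_irr_self (h.isIrr_zeta h₀),
    show classInner (zeta T ϑ₀) (rhoT T) = 0 by rw [← classInner_conj_symm, h.rho_zeta h₀, map_zero]]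
  push_cast
  ring

/-- The character exists. -/
theorem exists_psi {ϑ₀ : QT T →* ℂˣ} (h₀ : ϑ₀ ≠ 1) : ∃ ψ, IsPsi T ϑ₀ ψ := by
  classical
  obtain ⟨μ, hμ⟩ := exists_dadeMu h.dade (h.achar h₀)
  have hμc : IsIrrCharacter G (conjFun μ) := isIrrCharacter_conj hμ.1
  have h12 : classInner μ (conjFun μ) = 0 := classInner_irr_ne hμ.1 hμc fun e => hμ.2.1 e.symm
  have h21 : classInner (conjFun μ) μ = 0 := classInner_irr_ne hμc hμ.1 hμ.2.1
  let D : (QT T →* ℂˣ) → G → ℂ := fun ϑ => dmap T (zeta T ϑ₀ - zeta T ϑ)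
  have hDg : ∀ ϑ, IsGeneralizedCharacter G (D ϑ) := fun ϑ =>
    h.dmap_gen (isGeneralized_sub (h.zeta_gen _) (h.zeta_gen _)) (h.sub_vanish _ _)
  have hDD : ∀ ϑ ϑ', ϑ ≠ 1 → ϑ' ≠ 1 → zeta T ϑ ≠ zeta T ϑ₀ → zeta T ϑ' ≠ zeta T ϑ₀ →
      classInner (D ϑ) (D ϑ') = 1 + classInner (zeta T ϑ) (zeta T ϑ') := by
    intro ϑ ϑ' hϑ hϑ' hne hne'
    rw [show D ϑ = dadeIsometry _ _ _ _ from rfl, show D ϑ' = dadeIsometry _ _ _ _ from rfl,
      dade_isometry h.dade (isClassFunction_of_isGeneralized (isGeneralized_sub (h.zeta_gen _) (h.zeta_gen _)))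
        (h.sub_vanish _ _)
        (isClassFunction_of_isGeneralized (isGeneralized_sub (h.zeta_gen _) (h.zeta_gen _))),
      classInner_sub_left, classInner_sub_right, classInner_sub_right,
      classInner_irr_self (h.isIrr_zeta h₀),
      classInner_irr_ne (h.isIrr_zeta h₀) (h.isIrr_zeta hϑ') (Ne.symm hne'),
      classInner_irr_ne (h.isIrr_zeta hϑ) (h.isIrr_zeta h₀) hne]
    ring
  have key : ∀ ϑ, ϑ ≠ 1 → zeta T ϑ ≠ zeta T ϑ₀ → zeta T ϑ ≠ conjFun (zeta T ϑ₀) →
      (classInner (D ϑ) μ = 1 ∧ classInner (D ϑ) (conjFun μ) = 0) ∨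
        (classInner (D ϑ) μ = 0 ∧ classInner (D ϑ) (conjFun μ) = -1) := by
    intro ϑ hϑ hne hne'
    have hzc : IsIrrCharacter T (conjFun (zeta T ϑ₀)) := isIrrCharacter_conj (h.isIrr_zeta h₀)
    have hd : classInner (D ϑ) μ - classInner (D ϑ) (conjFun μ) = 1 := by
      rw [show D ϑ = dadeIsometry _ _ _ _ from rfl, coeff_sub h.dade (h.achar h₀) hμ
        (isClassFunction_of_isGeneralized (isGeneralized_sub (h.zeta_gen _) (h.zeta_gen _)))
        (h.sub_vanish _ _), classInner_sub_left, classInner_sub_right, classInner_sub_right,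
        classInner_irr_self (h.isIrr_zeta h₀),
        classInner_irr_ne (h.isIrr_zeta h₀) hzc (Ne.symm (h.achar h₀).2.1),
        classInner_irr_ne (h.isIrr_zeta hϑ) (h.isIrr_zeta h₀) hne,
        classInner_irr_ne (h.isIrr_zeta hϑ) hzc hne']
      ring
    obtain ⟨x, hx⟩ := exists_int_classInner (hDg ϑ) (isGeneralized_of_isIrr hμ.1)
    obtain ⟨y, hy⟩ := exists_int_classInner (hDg ϑ) (isGeneralized_of_isIrr hμc)
    rw [hx, hy] at hd ⊢
    have hxy : x - y = 1 := by exact_mod_cast hd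
    have hn : classInner (D ϑ) (D ϑ) = 2 := by
      rw [hDD ϑ ϑ hϑ hϑ hne hne, classInner_irr_self (h.isIrr_zeta hϑ)]; norm_num
    have hb := bessel ({μ, conjFun μ} : Finset (G → ℂ)) (v := id)
      (fun v hv => by
        rcases Finset.mem_insert.mp hv with rfl | hv
        · exact classInner_irr_self hμ.1
        · rw [Finset.mem_singleton.mp hv]; exact classInner_irr_self hμc)
      (fun v hv w hw hvw => by
        rcases Finset.mem_insert.mp hv with rfl | hv <;> rcases Finset.mem_insert.mp hw with rfl | hw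
        · exact absurd rfl hvw
        · rw [Finset.mem_singleton.mp hw]; exact h12
        · rw [Finset.mem_singleton.mp hv]; exact h21
        · exact absurd ((Finset.mem_singleton.mp hv).trans (Finset.mem_singleton.mp hw).symm) hvw)
      (D ϑ)
    rw [Finset.sum_pair (fun e => hμ.2.1 e.symm), id, id, hx, hy, hn, Complex.norm_intCast,
      Complex.norm_intCast, sq_abs, sq_abs] at hb
    have hb' : x ^ 2 + y ^ 2 ≤ 2 := by exact_mod_cast (by simpa using hb : ((x : ℝ)) ^ 2 + (y : ℝ) ^ 2 ≤ 2)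
    have hx0 : 0 ≤ x := by nlinarith
    have hx1 : x ≤ 1 := by nlinarith
    rcases (show x = 0 ∨ x = 1 by omega) with rfl | rfl
    · exact Or.inr ⟨by simp, by rw [show y = -1 by omega]; simp⟩
    · exact Or.inl ⟨by simp, by rw [show y = 0 by omega]; simp⟩
  have hconj : dmap T (zeta T ϑ₀ - conjFun (zeta T ϑ₀)) = μ - conjFun μ := hμ.2.2
  have hconjD : ∀ ϑ, zeta T ϑ = conjFun (zeta T ϑ₀) → D ϑ = μ - conjFun μ := fun ϑ e => by
    simp only [D, e]; exact hconj
  by_cases hall : ∀ ϑ, ϑ ≠ 1 → zeta T ϑ ≠ zeta T ϑ₀ → zeta T ϑ ≠ conjFun (zeta T ϑ₀) →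
      classInner (D ϑ) μ = 1
  · refine ⟨μ, Or.inl hμ.1, h12, hconj, fun ϑ hϑ hne => ?_⟩
    rw [← classInner_conj_symm]
    by_cases hc : zeta T ϑ = conjFun (zeta T ϑ₀)
    · rw [show dmap T (zeta T ϑ₀ - zeta T ϑ) = D ϑ from rfl, hconjD ϑ hc, classInner_sub_left,
        classInner_irr_self hμ.1, h21, sub_zero, map_one]
    · rw [show dmap T (zeta T ϑ₀ - zeta T ϑ) = D ϑ from rfl, hall ϑ hϑ hne hc, map_one]
  push Not at hall
  obtain ⟨ϑ', hϑ', hne', hnc', hx'⟩ := hall
  have hB := (key ϑ' hϑ' hne' hnc').resolve_left fun e => hx' e.1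
  refine ⟨-conjFun μ, Or.inr (by rw [neg_neg]; exact hμc), ?_, ?_, fun ϑ hϑ hne => ?_⟩
  · rw [show conjFun (-conjFun μ) = -μ from funext fun g => by simp [conjFun],
      classInner_neg_left, classInner_neg_right, neg_neg, h21]
  · rw [hconj, show conjFun (-conjFun μ) = -μ from funext fun g => by simp [conjFun]]; abel
  rw [show dmap T (zeta T ϑ₀ - zeta T ϑ) = D ϑ from rfl, ← classInner_conj_symm]
  by_cases hc : zeta T ϑ = conjFun (zeta T ϑ₀)
  · rw [hconjD ϑ hc, classInner_sub_left, classInner_neg_right, classInner_neg_right, h12,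
      classInner_irr_self hμc]
    norm_num
  rcases key ϑ hϑ hne hc with ⟨hA1, hA2⟩ | ⟨-, hA2⟩
  swap
  · rw [classInner_neg_right, hA2]; norm_num
  exfalso
  have hne2 : zeta T ϑ ≠ zeta T ϑ' := fun e => one_ne_zero (α := ℂ) (by
    have : D ϑ = D ϑ' := by simp only [D, e]
    rw [← hA1, this, hB.1])
  have h11 := hDD ϑ ϑ' hϑ hϑ' hne hne'
  rw [classInner_irr_ne (h.isIrr_zeta hϑ) (h.isIrr_zeta hϑ') hne2, add_zero] at h11
  have hnϑ : classInner (D ϑ) (D ϑ) = 2 := by
    rw [hDD ϑ ϑ hϑ hϑ hne hne, classInner_irr_self (h.isIrr_zeta hϑ)]; norm_num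
  have hnϑ' : classInner (D ϑ') (D ϑ') = 2 := by
    rw [hDD ϑ' ϑ' hϑ' hϑ' hne' hne', classInner_irr_self (h.isIrr_zeta hϑ')]; norm_num
  have hzero : D ϑ - D ϑ' - (μ + conjFun μ) = 0 := by
    refine eq_zero_of_classInner_self ?_
    have e1 : classInner (D ϑ') (D ϑ) = 1 := by rw [← classInner_conj_symm, h11, map_one]
    have e2 : classInner μ (D ϑ) = 1 := by rw [← classInner_conj_symm, hA1, map_one]
    have e3 : classInner (conjFun μ) (D ϑ) = 0 := by rw [← classInner_conj_symm, hA2, map_zero]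
    have e4 : classInner μ (D ϑ') = 0 := by rw [← classInner_conj_symm, hB.1, map_zero]
    have e5 : classInner (conjFun μ) (D ϑ') = -1 := by
      rw [← classInner_conj_symm, hB.2, map_neg, map_one]
    simp only [classInner_sub_left, classInner_sub_right, classInner_add_left, classInner_add_right,
      hnϑ, hnϑ', h11, e1, hA1, hA2, hB.1, hB.2, e2, e3, e4, e5, classInner_irr_self hμ.1,
      classInner_irr_self hμc, h12, h21]
    ring
  have h1 := congrFun hzero 1
  obtain ⟨d, hd, hd0, -⟩ := exists_degree_dvd_card hμ.1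
  simp only [D, Pi.sub_apply, Pi.add_apply, Pi.zero_apply, conjFun, hd, map_natCast,
    dade_apply_one h.dade] at h1
  have h2 : ((2 * d : ℕ) : ℂ) = 0 := by push_cast; linear_combination -h1
  have := Nat.cast_eq_zero.mp h2
  omega

/-- With only one pair of induced characters the orientation is free. -/
theorem psi_swap {ϑ₀ : QT T →* ℂˣ} {ψ : G → ℂ} (hψ : IsPsi T ϑ₀ ψ)
    (hX : ∀ ϑ : QT T →* ℂˣ, ϑ ≠ 1 → zeta T ϑ = zeta T ϑ₀ ∨ zeta T ϑ = conjFun (zeta T ϑ₀)) :
    IsPsi T ϑ₀ (-conjFun ψ) where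
  signed := hψ.signed.symm.imp
    (fun h' => by
      rw [show -conjFun ψ = conjFun (-ψ) from funext fun g => by simp [conjFun]]
      exact isIrrCharacter_conj h')
    fun h' => by rw [neg_neg]; exact isIrrCharacter_conj h'
  orth := by
    rw [show conjFun (-conjFun ψ) = -ψ from funext fun g => by simp [conjFun],
      classInner_neg_left, classInner_neg_right, neg_neg, hψ.orth']
  eq := by
    rw [hψ.eq, show conjFun (-conjFun ψ) = -ψ from funext fun g => by simp [conjFun]]; abel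
  one := fun ϑ hϑ hne => by
    rw [(hX ϑ hϑ).resolve_left hne, hψ.eq, classInner_sub_right, classInner_neg_left,
      classInner_neg_left, hψ.orth', hψ.conj_self]
    norm_num

end TV

end CfsgLib.Peterfalvi.Pair.TypeV
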