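import Cfsg.Agent.Lib.Peterfalvi.Pair.TypeV.Counts

/-!
For `|K| < |W|` the core of `T` is a TI subgroup and the Dade map is induction.
-/

set_option autoImplicit false
set_option linter.style.haveILetI false
set_option linter.unusedSectionVars false

namespace CfsgLib.Peterfalvi.Pair.TypeV

open Cfsg CfsgLib.Char
open CfsgLib.BG.FixedLine (conj_mem_of_le_normalizer)
open CfsgLib.Peterfalvi.Pair (tilde)
open scoped ComplexConjugate CfsgLib.Char Pointwise

universe u

variable {G : Type u} [Group G] [Fintype G] {S T U K W : Subgroup G} [Fintype T] [Fintype (QT T)]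

namespace TV

variable (h : TV S T U K W)
include h

theorem Q_ne : sigmaCore T ≠ ⊥ := fun e => h.K_ne (le_bot_iff.mp (e ▸ h.K_le_Q))

theorem normalizer_Q : Subgroup.normalizer (sigmaCore T : Set G) = T :=
  OddLocal.normalizer_eq_self h.hG h.hT h.Q_ne h.Q_le (OddLocal.le_normalizer_piCoreOf _ T)

/-- For `|K| < |W|` the core is TI. -/
theorem core_ti (hlt : Nat.card K < Nat.card W) :
    ∀ g : G, g ∉ T → ∀ x ∈ sigmaCore T, g * x * g⁻¹ ∈ sigmaCore T → x = 1 := by
  intro g hg x hx hgx
  by_contra hx1
  haveI := Fact.mk h.primeK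
  have hQF : sigmaCore T ≤ fittingOf T :=
    OddLocal.le_fittingOf_of_le_normalizer h.Q_le (OddLocal.le_normalizer_piCoreOf _ T) h.nilQ
  have hX : fittingOf T ⊓ (fittingOf T).map (MulAut.conj g).toMonoidHom ≠ ⊥ := fun e =>
    hx1 (conj_eq_one_iff.1 (Subgroup.mem_bot.1 (e.le ⟨hQF hgx, x, hQF hx, rfl⟩)))
  obtain ⟨-, -, hcases⟩ := OddLocal.fitting_not_ti_structure h.hG h.hT h.dT hg hX
  rw [h.fitT] at hcases
  rcases hcases with ⟨hW, -⟩ | ⟨r, hr, -, -, -, -, -, hexp⟩ | ⟨r, hr, -, -, -, hcyc, -, -, -, -, hdvd⟩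
  · exact h.W_ne hW
  · have h1 := hexp _ h.primeK (Subgroup.card_dvd_of_le h.K_le_Q)
    have h2 : Nat.card W ∣ Monoid.exponent (↥T ⧸ fittingHall ↥T) := by
      haveI := h.W_cyclic
      rw [← IsCyclic.exponent_eq_card]
      refine Monoid.exponent_dvd_of_forall_pow_eq_one fun k => Subtype.ext ?_
      have h1 := Monoid.pow_exponent_eq_one (QuotientGroup.mk' (fittingHall ↥T) ⟨k, h.W_le_T k.2⟩)
      rw [← map_pow, QuotientGroup.mk'_apply, QuotientGroup.eq_one_iff] at h1
      have h2 : (k : G) ^ Monoid.exponent (↥T ⧸ fittingHall ↥T) ∈ W ⊓ sigmaCore T :=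
        ⟨W.pow_mem k.2 _, h.fitT ▸ ⟨_, h1, by simp⟩⟩
      rw [h.W_compl.2.2.1, Subgroup.mem_bot] at h2
      simpa using h2
    have := Nat.le_of_dvd (by have := h.primeK.two_le; omega) (h2.trans h1)
    omega
  · haveI := Fact.mk hr
    have hp : Nat.card W = (sigmaCore T).relIndex T := h.index_QT.symm
    rw [← hp] at hdvd
    have hrq : r = Nat.card K := by
      by_contra hne
      haveI := h.nil_QT
      set H := primeCompl (Nat.card K) (QT T) with hH
      set R := primeCompl r (QT T) with hR
      obtain ⟨hmemH, a, ha, -⟩ := primeCompl_spec (Nat.card K) (Γ := QT T)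
      obtain ⟨hmemR, b, hb, hcoR⟩ := primeCompl_spec r (Γ := QT T)
      haveI : IsCyclic R := by
        let e := Subgroup.subgroupOfEquivOfLe h.Q_le
        haveI : (R.map e.toMonoidHom).Normal := Subgroup.Normal.map inferInstance _ e.surjective
        have hle : R.map e.toMonoidHom ≤ pPrimeCore r ↥(sigmaCore T) :=
          le_sSup ⟨inferInstance, by rwa [Subgroup.card_map_of_injective e.injective]⟩
        haveI := hcyc
        haveI : IsCyclic (R.map e.toMonoidHom) := Subgroup.isCyclic_of_le hle
        exact isCyclic_of_injective (R.equivMapOfInjective e.toMonoidHom e.injective).toMonoidHom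
          (R.equivMapOfInjective e.toMonoidHom e.injective).injective
      set π := QuotientGroup.mk' H with hπ
      have hidx : (R.map π).index = 1 := by
        refine Nat.eq_one_of_dvd_coprimes (a := r ^ b) (b := Nat.card K ^ a) ?_ ?_ ?_
        · exact ((Nat.coprime_primes hr h.primeK).mpr hne).pow _ _
        · refine (Subgroup.index_map_dvd R (QuotientGroup.mk'_surjective H)).trans (dvd_of_eq ?_)
          have e := R.card_mul_index
          rw [hb] at e
          exact Nat.eq_of_mul_eq_mul_left Nat.card_pos e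
        · refine (Subgroup.index_dvd_card _).trans (dvd_of_eq ?_)
          have e := H.card_eq_card_quotient_mul_card_subgroup
          rw [ha, mul_comm] at e
          exact (Nat.eq_of_mul_eq_mul_right Nat.card_pos e).symm
      refine h.commutator_quot_ne H (fun x hx => (hmemH x).mp hx) ?_
      rw [Subgroup.index_eq_one] at hidx
      haveI : IsMulCommutative (QT T ⧸ H) := ⟨⟨fun u v => by
        obtain ⟨u', hu', rfl⟩ := hidx.ge (Subgroup.mem_top u)
        obtain ⟨v', hv', rfl⟩ := hidx.ge (Subgroup.mem_top v)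
        rw [← map_mul, ← map_mul]
        exact congrArg π (congrArg Subtype.val
          ((IsCyclic.commGroup (α := R)).mul_comm ⟨u', hu'⟩ ⟨v', hv'⟩))⟩⟩
      rw [_root_.commutator_def, Subgroup.commutator_eq_bot_iff_le_centralizer]
      exact fun u _ v _ => mul_comm' v u
    subst hrq
    obtain ⟨k, hk⟩ := hdvd
    obtain ⟨i, hi⟩ := h.odd_card K
    rcases (show k = 0 ∨ k = 1 ∨ 2 ≤ k by omega) with rfl | rfl | hk2
    · omega
    · obtain ⟨j, hj⟩ := h.odd_card W
      omega
    · nlinarith

variable (hlt : Nat.card K < Nat.card W)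
include hlt

theorem centralizer_le {a : G} (ha : a ∈ coreSharp T) :
    Subgroup.centralizer ({a} : Set G) ≤ T := by
  intro c hc
  by_contra hcT
  refine ha.2 (h.core_ti hlt c hcT a ha.1 ?_)
  rw [Subgroup.mem_centralizer_singleton_iff.mp hc, mul_inv_cancel_right]
  exact ha.1

theorem supportR_bot {a : G} (ha : a ∈ coreSharp T) : supportR T a = ⊥ :=
  OddLocal.supportR_eq_bot (h.centralizer_le hlt ha)

/-- The adjoint of the Dade map is restriction. -/
theorem adjoint {α : T → ℂ} (hα : IsClassFunction T α)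
    (hA : ∀ x : T, (x : G) ∉ coreSharp T → α x = 0) {θ : G → ℂ} (hθ : IsClassFunction G θ) :
    classInner (dmap T α) θ = classInner α (fun x : T => θ x) := by
  classical
  refine dade_adjoint h.dade hα hA hθ fun a ha => ?_
  rw [h.supportR_bot hlt ha]
  simp

/-- The values of the Dade map on the support. -/
theorem dmap_apply_core {α : T → ℂ} (hα : IsClassFunction T α) {x : T}
    (hx : (x : G) ∈ coreSharp T) : dmap T α x = α x :=
  dade_value h.dade hα hx (Subgroup.one_mem _) (x := 1) (by group)

/-- The Dade map is induction. -/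
theorem dmap_eq_ind {α : T → ℂ} (hα : IsClassFunction T α)
    (hA : ∀ x : T, (x : G) ∉ coreSharp T → α x = 0) : dmap T α = indFun T α := by
  classical
  funext g
  by_cases hg : g ∈ tilde T
  · obtain ⟨a, ha, e, y, r, hr, rfl⟩ := h.dmap_value hα hg
    rw [h.supportR_bot hlt ha, Subgroup.mem_bot] at hr
    subst hr
    rw [mul_one, isClassFunction_indFun T α,
      show dmap T α (y * (a : G) * y⁻¹) = dmap T α (a : G) from isClassFunction_dade h.dade hα _ _,
      h.dmap_apply_core hlt hα ha]
    exact (indFun_eq_of_ti T (coreSharp T) (fun c hc t ht h2 => h.core_ti hlt c hc t ht.1 h2.1) α hα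
      hA a ha (fun e' => ha.2 (congrArg Subtype.val e'))).symm
  · rw [h.dmap_off hg, indFun, Finset.sum_eq_zero, mul_zero]
    intro x _
    by_cases hx : x⁻¹ * g * x ∈ T
    · rw [extendByZero_mem _ _ hx]
      refine hA _ fun hc => hg ⟨x⁻¹ * g * x, hc, 1, Subgroup.one_mem _, x, by group⟩
    · exact extendByZero_notMem _ _ hx

end TV

end CfsgLib.Peterfalvi.Pair.TypeV
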